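import Cfsg.Agent.Lib.A8ThreeClass.Closed

/-!
Sylow subgroups of subgroups, and the argument of Burnside modulo a central subgroup.
-/

set_option autoImplicit false
set_option linter.style.haveILetI false
set_option linter.unusedSectionVars false
set_option linter.style.longLine false

open Cfsg

namespace CfsgLib.M24Syl

variable {G : Type*} [Group G] [Finite G]

/-- every 2-subgroup of `H` is conjugate in `H` into `P` -/
def Into (H P : Subgroup G) : Prop :=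
  ∀ Q : Subgroup G, Q ≤ H → IsPGroup 2 Q → ∃ c ∈ H, ∀ x ∈ Q, c * x * c⁻¹ ∈ P

theorem card_le_of_conj_mem {P Q : Subgroup G} {c : G} (h : ∀ x ∈ Q, c * x * c⁻¹ ∈ P) :
    Nat.card Q ≤ Nat.card P :=
  Nat.card_le_card_of_injective (fun u : Q => (⟨c * u * c⁻¹, h u u.2⟩ : P)) fun u v e =>
    Subtype.ext (mul_left_cancel (mul_right_cancel (congrArg Subtype.val e)))

theorem into_of_card {H P : Subgroup G} (hPH : P ≤ H) (hP : IsPGroup 2 P)
    (hmax : ∀ Q : Subgroup G, Q ≤ H → IsPGroup 2 Q → Nat.card Q ≤ Nat.card P) : Into H P := by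
  haveI := Fact.mk Nat.prime_two
  obtain ⟨R, hR⟩ := (hP.comap_subtype (K := H)).exists_le_sylow
  have hRP : (R : Subgroup H).map H.subtype = P := by
    refine (Subgroup.eq_of_le_of_card_ge ?_ (hmax _ (Subgroup.map_subtype_le _) (R.2.map _))).symm
    intro x hx
    exact ⟨⟨x, hPH hx⟩, hR hx, rfl⟩
  intro Q hQH hQ
  obtain ⟨T, hT⟩ := (hQ.comap_subtype (K := H)).exists_le_sylow
  obtain ⟨c, hc⟩ := MulAction.exists_smul_eq H T R
  refine ⟨c, c.2, fun x hx => ?_⟩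
  rw [← hRP]
  refine ⟨c * ⟨x, hQH hx⟩ * c⁻¹, ?_, rfl⟩
  rw [← hc]
  exact ⟨⟨x, hQH hx⟩, hT hx, rfl⟩

theorem into_sub {H K P : Subgroup G} (h : Into H P) (hKH : K ≤ H) (hPK : P ≤ K) (hP : IsPGroup 2 P) :
    Into K P :=
  into_of_card hPK hP fun Q hQ hQ2 => by
    obtain ⟨c, -, hc⟩ := h Q (hQ.trans hKH) hQ2
    exact card_le_of_conj_mem hc

theorem into_top (S : Sylow 2 G) : Into (⊤ : Subgroup G) (S : Subgroup G) := by
  haveI := Fact.mk Nat.prime_two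
  intro Q _ hQ
  obtain ⟨T, hT⟩ := hQ.exists_le_sylow
  obtain ⟨g, hg⟩ := MulAction.exists_smul_eq G T S
  refine ⟨g, trivial, fun x hx => ?_⟩
  rw [← hg]
  exact ⟨x, hT hx, rfl⟩

theorem into_of_sylow (S : Sylow 2 G) {H : Subgroup G} (h : (S : Subgroup G) ≤ H) :
    Into H (S : Subgroup G) := into_sub (into_top S) le_top h S.2

/-- A 2-subgroup of `H` is a Sylow subgroup of `H`, or a larger 2-subgroup normalises it. -/
theorem into_or_grow {H X : Subgroup G} (hXH : X ≤ H) (hX : IsPGroup 2 X) :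
    Into H X ∨ ∃ y ∈ H, y ∉ X ∧ (∀ x ∈ X, y * x * y⁻¹ ∈ X) ∧ IsPGroup 2 ↥(X ⊔ Subgroup.zpowers y) := by
  haveI := Fact.mk Nat.prime_two
  by_cases h : ∀ Q : Subgroup G, Q ≤ H → IsPGroup 2 Q → Nat.card Q ≤ Nat.card X
  · exact Or.inl (into_of_card hXH hX h)
  refine Or.inr ?_
  simp only [not_forall, not_le] at h
  obtain ⟨Q, hQH, hQ, hlt⟩ := h
  obtain ⟨P, hP⟩ := (hX.comap_subtype (K := H)).exists_le_sylow
  set P' : Subgroup G := (P : Subgroup H).map H.subtype with hP'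
  have hP'2 : IsPGroup 2 P' := P.2.map _
  have hXP : X ≤ P' := fun x hx => ⟨⟨x, hXH hx⟩, hP hx, rfl⟩
  have hne : X.subgroupOf P' < ⊤ := by
    refine lt_top_iff_ne_top.2 fun e => ?_
    rw [Subgroup.subgroupOf_eq_top] at e
    obtain ⟨T, hT⟩ := (hQ.comap_subtype (K := H)).exists_le_sylow
    obtain ⟨c, hc⟩ := MulAction.exists_smul_eq H T P
    have := card_le_of_conj_mem (P := X) (Q := Q) (c := (c : G)) fun x hx => e (by
      refine ⟨c * ⟨x, hQH hx⟩ * c⁻¹, ?_, rfl⟩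
      rw [← hc]
      exact ⟨⟨x, hQH hx⟩, hT hx, rfl⟩)
    omega
  haveI : Group.IsNilpotent ↥P' := hP'2.isNilpotent
  obtain ⟨y, hy, hyX⟩ := SetLike.exists_of_lt (Group.normalizerCondition_of_isNilpotent _ hne)
  refine ⟨y, Subgroup.map_subtype_le _ y.2, hyX, fun x hx => ?_, hP'2.to_le ?_⟩
  · exact (Subgroup.mem_normalizer_iff.1 hy ⟨x, hXP hx⟩).1 hx
  · exact sup_le hXP (Subgroup.zpowers_le.2 y.2)

theorem mem_sylow_of_normalizes (S : Sylow 2 G) {g : G} (hn : ∀ x ∈ (S : Subgroup G), g * x * g⁻¹ ∈ (S : Subgroup G))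
    (h2 : ∃ k, orderOf g = 2 ^ k) : g ∈ (S : Subgroup G) := by
  haveI := Fact.mk Nat.prime_two
  have hP : IsPGroup 2 ↥(Subgroup.zpowers g ⊔ (S : Subgroup G)) :=
    (Transfer.isPGroup_zpowers h2).to_sup_of_normal_right' S.2
      (Subgroup.zpowers_le.2 (A8ThreeClass.mem_normalizer_of_conj hn))
  exact (S.is_maximal' hP le_sup_right).le (Subgroup.mem_sup_left (Subgroup.mem_zpowers g))

theorem exists_odd_pow_mem (S : Sylow 2 G) {g : G}
    (hn : ∀ x ∈ (S : Subgroup G), g * x * g⁻¹ ∈ (S : Subgroup G)) :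
    ∃ m, Odd m ∧ g ^ m ∈ (S : Subgroup G) := by
  obtain ⟨a, m, hm, he⟩ := Nat.exists_eq_two_pow_mul_odd (orderOf_pos g).ne'
  refine ⟨m, hm, mem_sylow_of_normalizes S (fun x hx => ?_) ?_⟩
  · have : g ^ m ∈ Subgroup.normalizer ((S : Subgroup G) : Set G) :=
      pow_mem (A8ThreeClass.mem_normalizer_of_conj hn) m
    exact (Subgroup.mem_normalizer_iff.1 this x).1 hx
  · refine ⟨a, ?_⟩
    rw [orderOf_pow' g (by rintro rfl; simp at hm), he, Nat.gcd_mul_left_left,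
      Nat.mul_div_cancel _ (Nat.pos_of_ne_zero (by rintro rfl; simp at hm))]

theorem mem_of_odd_pow_sq {F : Subgroup G} {g : G} {m : ℕ} (hm : Odd m) (h1 : g ^ m ∈ F) (h2 : g ^ 2 ∈ F) :
    g ∈ F := by
  obtain ⟨k, rfl⟩ := hm
  rw [pow_succ, pow_mul] at h1
  exact (Subgroup.mul_mem_cancel_left F (pow_mem h2 k)).1 h1

/-- **Burnside's argument modulo a central subgroup.** -/
theorem burnside_mod {H Z P : Subgroup G} (hPH : P ≤ H) (hP : IsPGroup 2 P) (hi : Into H P)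
    (hZ : ∀ z ∈ Z, ∀ g ∈ H, z * g = g * z) {x c : G} (hc : c ∈ H)
    (h1 : ∀ g ∈ P, g * x * g⁻¹ * x⁻¹ ∈ Z)
    (h2 : ∀ g ∈ P, g * (c * x * c⁻¹) * g⁻¹ * (c * x * c⁻¹)⁻¹ ∈ Z) :
    ∃ n ∈ H, (∀ p ∈ P, n * p * n⁻¹ ∈ P) ∧ n * (c * x * c⁻¹) * n⁻¹ * x⁻¹ ∈ Z := by
  let K : Subgroup G :=
    { carrier := {g | g ∈ H ∧ g * x * g⁻¹ * x⁻¹ ∈ Z}
      one_mem' := ⟨one_mem _, by simp⟩
      mul_mem' := by
        rintro g h ⟨hg, hg'⟩ ⟨hh, hh'⟩
        refine ⟨mul_mem hg hh, ?_⟩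
        set z := h * x * h⁻¹ * x⁻¹
        have e : g * h * x * (g * h)⁻¹ * x⁻¹ = z * (g * x * g⁻¹ * x⁻¹) := by
          calc g * h * x * (g * h)⁻¹ * x⁻¹ = g * z * (x * g⁻¹ * x⁻¹) := by simp only [z]; group
            _ = z * g * (x * g⁻¹ * x⁻¹) := by rw [hZ z hh' g hg]
            _ = _ := by group
        rw [e]; exact mul_mem hh' hg'
      inv_mem' := by
        rintro g ⟨hg, hg'⟩
        refine ⟨inv_mem hg, ?_⟩
        set z := g * x * g⁻¹ * x⁻¹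
        have e : g⁻¹ * x * g⁻¹⁻¹ * x⁻¹ = z⁻¹ := by
          calc g⁻¹ * x * g⁻¹⁻¹ * x⁻¹ = g⁻¹ * z⁻¹ * g := by simp only [z]; group
            _ = z⁻¹ * g⁻¹ * g := by rw [hZ _ (inv_mem hg') g⁻¹ (inv_mem hg)]
            _ = z⁻¹ := by group
        rw [e]; exact inv_mem hg' }
  have hKH : K ≤ H := fun g hg => hg.1
  have hPK : P ≤ K := fun g hg => ⟨hPH hg, h1 g hg⟩
  set Q := P.map (MulAut.conj c⁻¹).toMonoidHom with hQ
  have hQK : Q ≤ K := by
    rintro _ ⟨g, hg, rfl⟩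
    simp only [MulEquiv.toMonoidHom_eq_coe, MonoidHom.coe_coe, MulAut.conj_apply, inv_inv]
    refine ⟨mul_mem (mul_mem (inv_mem hc) (hPH hg)) hc, ?_⟩
    set z := g * (c * x * c⁻¹) * g⁻¹ * (c * x * c⁻¹)⁻¹
    have e : c⁻¹ * g * c * x * (c⁻¹ * g * c)⁻¹ * x⁻¹ = z := by
      calc c⁻¹ * g * c * x * (c⁻¹ * g * c)⁻¹ * x⁻¹ = c⁻¹ * z * c := by simp only [z]; group
        _ = z * c⁻¹ * c := by rw [hZ z (h2 g hg) c⁻¹ (inv_mem hc)]
        _ = z := by group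
    rw [e]; exact h2 g hg
  obtain ⟨k, hk, hkQ⟩ := into_sub hi hKH hPK hP Q hQK (hP.map _)
  refine ⟨k * c⁻¹, mul_mem (hKH hk) (inv_mem hc), fun p hp => ?_, ?_⟩
  · have := hkQ _ ⟨p, hp, rfl⟩
    simp only [MulEquiv.toMonoidHom_eq_coe, MonoidHom.coe_coe, MulAut.conj_apply, inv_inv] at this
    simpa [mul_assoc] using this
  · have e : k * c⁻¹ * (c * x * c⁻¹) * (k * c⁻¹)⁻¹ * x⁻¹ = k * x * k⁻¹ * x⁻¹ := by group
    rw [e]; exact hk.2

/-- the growing subgroup, moved into the Sylow subgroup, centralises a conjugate in more than `X` -/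
theorem card_lt_of_grow {X : Subgroup G} {y : G} (hy : y ∉ X) :
    Nat.card X < Nat.card ↥(X ⊔ Subgroup.zpowers y) := by
  refine lt_of_not_ge fun h => hy ?_
  have e := Subgroup.eq_of_le_of_card_ge (le_sup_left (b := Subgroup.zpowers y)) h
  rw [e]; exact Subgroup.mem_sup_right (Subgroup.mem_zpowers y)

end CfsgLib.M24Syl
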