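import Mathlib

/-!
The four finite groups whose centraliser of an involution can be dihedral of order eight: every element of order
three normalises a four group nontrivially, and generation facts about elements of order five and seven.
-/

set_option autoImplicit false
set_option linter.style.longLine false

namespace CfsgLib.M24Syl

open Equiv

/-- `y` permutes the nonidentity elements of a four group through `e` in a cycle -/
def Cyc {K : Type*} [Group K] (y e : K) : Prop :=
  e * e = 1 ∧ e ≠ 1 ∧ y * e * y⁻¹ ≠ e ∧ y * (y * e * y⁻¹) * y⁻¹ = e * (y * e * y⁻¹) ∧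
    e * (y * e * y⁻¹) = (y * e * y⁻¹) * e

instance {K : Type*} [Group K] [DecidableEq K] (y e : K) : Decidable (Cyc y e) := by unfold Cyc; infer_instance

/-- what is used about the four groups -/
structure Small (K : Type*) [Group K] : Prop where
  card : Nat.card K = 24 ∨ Nat.card K = 120 ∨ Nat.card K = 168 ∨ Nat.card K = 360
  three : ∀ y : K, y ^ 3 = 1 → y ≠ 1 → ∃ e, Cyc y e
  fifteen : 15 ∣ Nat.card K → ∀ y z : K, y ^ 3 = 1 → y ≠ 1 → z ^ 5 = 1 → z ≠ 1 →
    ∃ e ∈ Subgroup.closure ({y, z} : Set K), Cyc y e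
  seven : 7 ∣ Nat.card K → ∀ y : K, y ^ 7 = 1 → y ≠ 1 →
    ∃ e : K, e * e = 1 ∧ e ≠ 1 ∧ Subgroup.closure ({y, e} : Set K) = ⊤
  invol : 7 ∣ Nat.card K → ∀ x x' : K, x * x = 1 → x ≠ 1 → x' * x' = 1 → x' ≠ 1 → IsConj x x'

theorem Cyc.map {K L : Type*} [Group K] [Group L] {y e : K} (h : Cyc y e) (f : K →* L)
    (hf : Function.Injective f) : Cyc (f y) (f e) := by
  obtain ⟨h1, h2, h3, h4, h5⟩ := h
  refine ⟨?_, (map_ne_one_iff f hf).2 h2, ?_, ?_, ?_⟩
  · rw [← map_mul, h1, map_one]
  · rw [← map_inv, ← map_mul, ← map_mul]; exact fun e => h3 (hf e)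
  · simp only [← map_inv, ← map_mul]; rw [h4]
  · simp only [← map_inv, ← map_mul]; rw [h5]

theorem Small.of_equiv {K L : Type*} [Group K] [Group L] (f : L ≃* K) (h : Small K) : Small L := by
  have hc : Nat.card L = Nat.card K := Nat.card_congr f.toEquiv
  have hinj : Function.Injective f.symm.toMonoidHom := f.symm.injective
  have hcl : ∀ a b : L, (Subgroup.closure ({f a, f b} : Set K)).map f.symm.toMonoidHom =
      Subgroup.closure ({a, b} : Set L) := fun a b => by
    rw [MonoidHom.map_closure, Set.image_insert_eq, Set.image_singleton]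
    simp
  refine ⟨hc ▸ h.card, fun y hy hy1 => ?_, fun hd y z hy hy1 hz hz1 => ?_, fun hd y hy hy1 => ?_,
    fun hd x x' hx hx1 hx' hx1' => ?_⟩
  · obtain ⟨e, he⟩ := h.three (f y) (by rw [← map_pow, hy, map_one]) (by simpa using hy1)
    exact ⟨f.symm e, by simpa using he.map f.symm.toMonoidHom hinj⟩
  · obtain ⟨e, hem, he⟩ := h.fifteen (hc ▸ hd) (f y) (f z) (by rw [← map_pow, hy, map_one]) (by simpa using hy1)
      (by rw [← map_pow, hz, map_one]) (by simpa using hz1)
    exact ⟨f.symm e, hcl y z ▸ ⟨e, hem, rfl⟩, by simpa using he.map f.symm.toMonoidHom hinj⟩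
  · obtain ⟨e, he, he1, htop⟩ := h.seven (hc ▸ hd) (f y) (by rw [← map_pow, hy, map_one]) (by simpa using hy1)
    refine ⟨f.symm e, by rw [← map_mul, he, map_one], by simpa using he1, ?_⟩
    have := hcl y (f.symm e)
    rw [MulEquiv.apply_symm_apply, htop, Subgroup.map_top_of_surjective _ f.symm.surjective] at this
    exact this.symm
  · have := h.invol (hc ▸ hd) (f x) (f x') (by rw [← map_mul, hx, map_one]) (by simpa using hx1)
      (by rw [← map_mul, hx', map_one]) (by simpa using hx1')
    simpa using f.symm.toMonoidHom.map_isConj this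

/-- words in two elements, coded by numbers with a leading bit -/
def word {K : Type*} [Group K] (y e : K) (c : ℕ) : K :=
  (((List.range 12).filter fun i => Nat.ble (2 ^ (i + 1)) c).map fun i => if c.testBit i then e else y).prod

theorem word_mem {K : Type*} [Group K] (y e : K) (c : ℕ) : word y e c ∈ Subgroup.closure ({y, e} : Set K) := by
  refine list_prod_mem fun x hx => ?_
  obtain ⟨i, -, rfl⟩ := List.mem_map.1 hx
  split_ifs <;> exact Subgroup.subset_closure (by simp)

/-- four witnesses for a four group inside the group generated by elements of order three and five -/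
def wit {K : Type*} [Group K] (y z : K) : List K :=
  [[false, true, false, true, true, true, true], [false, true, true, false, true, true, true],
    [false, false, true, false, true, true, true, true], [false, false, true, true, false, true, true, true]].map
    fun w => (w.map fun b => if b then z else y).prod

theorem wit_mem {K : Type*} [Group K] (y z : K) {e : K} (he : e ∈ wit y z) :
    e ∈ Subgroup.closure ({y, z} : Set K) := by
  obtain ⟨w, -, rfl⟩ := List.mem_map.1 he
  refine list_prod_mem fun x hx => ?_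
  obtain ⟨b, -, rfl⟩ := List.mem_map.1 hx
  split_ifs <;> exact Subgroup.subset_closure (by simp)

/-- the standard cycles of length five -/
def z5 : Perm (Fin 5) := swap 0 1 * swap 1 2 * swap 2 3 * swap 3 4

/-- the standard cycle of length five on six points -/
def z6 : Perm (Fin 6) := swap 0 1 * swap 1 2 * swap 2 3 * swap 3 4

theorem four_three : ∀ y : Perm (Fin 4), y ^ 3 = 1 → y = 1 ∨ ∃ e, Cyc y e := by decide +kernel

theorem five_three : ∀ y : Perm (Fin 5), y ^ 3 = 1 → y = 1 ∨ ∃ e, Cyc y e := by decide +kernel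

theorem five_fifteen : ∀ y : Perm (Fin 5), y ^ 3 = 1 → y = 1 ∨ ∃ e ∈ wit y z5, Cyc y e := by decide +kernel

set_option maxHeartbeats 4000000 in
theorem six_three : ∀ y : Perm (Fin 6), y ^ 3 = 1 → y = 1 ∨ ∃ e, Perm.sign e = 1 ∧ Cyc y e := by decide +kernel

set_option maxHeartbeats 4000000 in
theorem six_fifteen : ∀ y : Perm (Fin 6), y ^ 3 = 1 → y = 1 ∨ ∃ e ∈ wit y z6, Cyc y e := by decide +kernel

/-- the group of order 168 -/
abbrev SLT := Matrix.SpecialLinearGroup (Fin 3) (ZMod 2)

/-- a transvection -/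
def e168 : SLT := ⟨!![1, 1, 0; 0, 1, 0; 0, 0, 1], by decide⟩

/-- an element of order seven -/
def y168 : SLT := ⟨!![0, 0, 1; 1, 0, 1; 0, 1, 0], by decide⟩

theorem slt_three : ∀ y : SLT, y ^ 3 = 1 → y = 1 ∨ ∃ e, Cyc y e := by decide +kernel

theorem slt_invol : ∀ x : SLT, x * x = 1 → x = 1 ∨ ∃ g : SLT, g * e168 * g⁻¹ = x := by decide +kernel

theorem slt_card : Fintype.card SLT = 168 := by decide +kernel

/-- words giving all elements -/
def words168 : List ℕ := [1, 2, 3, 4, 6, 5, 8, 12, 10, 9, 13, 16, 24, 20, 18, 26, 17, 25, 21, 32, 48, 40, 36, 52, 34, 50, 42, 33, 49, 41, 37, 53, 64, 96, 80, 72, 104, 68, 100, 84, 66, 98, 74, 106, 97, 81, 105, 69, 101, 85, 160, 144, 208, 136, 200, 168, 132, 196, 148, 212, 194, 162, 138, 202, 161, 145, 209, 169, 133, 197, 149, 288, 416, 272, 400, 336, 264, 392, 296, 424, 388, 324, 276, 404, 322, 290, 418, 266, 394, 289, 417, 273, 401, 337, 297, 425, 389, 277, 405, 544, 800, 672, 528, 784, 592, 848, 776, 648, 552, 808, 644, 580, 836, 532, 788, 578, 834, 546,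 802, 674, 778, 545, 673, 529, 593, 849, 553, 809, 645, 533, 789, 1184, 1696, 1552, 1296, 1104, 1616, 1288, 1160, 1672, 1064, 1092, 1604, 1556, 1090, 1346, 1058, 1186, 1698, 1290, 1057, 1185, 1617, 1065, 1577, 1669, 2208, 3232, 2576, 2320, 3208, 3112, 2116, 2114, 3234, 3338, 3105, 2693]

theorem slt_gen : ∀ g : SLT, g ∈ words168.map (word y168 e168) := by decide +kernel

theorem slt_base : e168 * e168 = 1 ∧ e168 ≠ 1 ∧ y168 ^ 7 = 1 ∧ y168 ≠ 1 := by decide +kernel

theorem five_conj {n : ℕ} (hn : n < 10) {z z0 : Perm (Fin n)} (h : z ^ 5 = 1) (h1 : z ≠ 1) (h0 : z0 ^ 5 = 1)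
    (h01 : z0 ≠ 1) : ∃ g : Perm (Fin n), g * z0 * g⁻¹ = z := by
  haveI := Fact.mk (show Nat.Prime 5 by norm_num)
  have key : ∀ w : Perm (Fin n), w ^ 5 = 1 → w ≠ 1 → w.cycleType = {5} := by
    intro w hw hw1
    have ho : orderOf w = 5 := orderOf_eq_prime hw hw1
    obtain ⟨m, hm⟩ := Perm.cycleType_prime_order (σ := w) (by rw [ho]; norm_num)
    rw [ho] at hm
    have hs := Perm.sum_cycleType w
    rw [hm, Multiset.sum_replicate, smul_eq_mul] at hs
    have := Finset.card_le_univ w.support
    rw [Fintype.card_fin] at this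
    obtain rfl : m = 0 := by omega
    rw [hm]; rfl
  exact isConj_iff.1 (Perm.isConj_iff_cycleType_eq.2 ((key z0 h0 h01).trans (key z h h1).symm))

theorem small_S4 : Small (Perm (Fin 4)) := by
  have hc : Nat.card (Perm (Fin 4)) = 24 := by rw [Nat.card_eq_fintype_card, Fintype.card_perm]; decide
  refine ⟨Or.inl hc, fun y hy hy1 => (four_three y hy).resolve_left hy1, fun h => ?_, fun h => ?_, fun h => ?_⟩ <;>
    · rw [hc] at h; omega

theorem small_S5 : Small (Perm (Fin 5)) := by
  have hc : Nat.card (Perm (Fin 5)) = 120 := by rw [Nat.card_eq_fintype_card, Fintype.card_perm]; decide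
  refine ⟨Or.inr (Or.inl hc), fun y hy hy1 => (five_three y hy).resolve_left hy1, fun _ y z hy hy1 hz hz1 => ?_,
    fun h => ?_, fun h => ?_⟩
  · obtain ⟨g, hg⟩ := five_conj (by norm_num) hz hz1 (z0 := z5) (by decide) (by decide)
    obtain ⟨e, he, hcy⟩ := (five_fifteen (g⁻¹ * y * g)
      (by rw [show g⁻¹ * y * g = g⁻¹ * y * g⁻¹⁻¹ by group, conj_pow, hy]; group)).resolve_left (fun e => hy1 (by
        have : y = g * (g⁻¹ * y * g) * g⁻¹ := by group
        rw [this, e]; group))
    have hm := Subgroup.mem_map_of_mem (MulAut.conj g).toMonoidHom (wit_mem _ _ he)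
    rw [MonoidHom.map_closure, Set.image_insert_eq, Set.image_singleton] at hm
    have hcy' := hcy.map (MulAut.conj g).toMonoidHom (MulAut.conj g).injective
    refine ⟨(MulAut.conj g).toMonoidHom e, ?_, ?_⟩
    · simpa [hg, mul_assoc] using hm
    · simpa [mul_assoc] using hcy'
  all_goals rw [hc] at h; omega

theorem small_A6 : Small ↥(alternatingGroup (Fin 6)) := by
  have hc : Nat.card ↥(alternatingGroup (Fin 6)) = 360 := by
    rw [nat_card_alternatingGroup, Nat.card_eq_fintype_card, Fintype.card_fin]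
    decide
  have hsub : Function.Injective (alternatingGroup (Fin 6)).subtype := Subgroup.subtype_injective _
  have hback : ∀ {y : ↥(alternatingGroup (Fin 6))} {e : Perm (Fin 6)} (he : e ∈ alternatingGroup (Fin 6)),
      Cyc (y : Perm (Fin 6)) e → Cyc y ⟨e, he⟩ := by
    rintro y e he ⟨h1, h2, h3, h4, h5⟩
    exact ⟨Subtype.ext h1, fun h => h2 (congrArg Subtype.val h), fun h => h3 (congrArg Subtype.val h),
      Subtype.ext h4, Subtype.ext h5⟩
  refine ⟨Or.inr (Or.inr (Or.inr hc)), fun y hy hy1 => ?_, fun _ y z hy hy1 hz hz1 => ?_,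
    fun h => ?_, fun h => ?_⟩
  · obtain ⟨e, hs, he⟩ := (six_three y (by simpa using congrArg Subtype.val hy)).resolve_left
      (fun h => hy1 (Subtype.ext h))
    exact ⟨⟨e, Perm.mem_alternatingGroup.2 hs⟩, hback _ he⟩
  · obtain ⟨g, hg⟩ := five_conj (z := (z : Perm (Fin 6))) (by norm_num) (by simpa using congrArg Subtype.val hz)
      (fun h => hz1 (Subtype.ext h)) (z0 := z6) (by decide) (by decide)
    have hy' : (y : Perm (Fin 6)) ^ 3 = 1 := by simpa using congrArg Subtype.val hy
    obtain ⟨e, he, hcy⟩ := (six_fifteen (g⁻¹ * y * g)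
      (by rw [show g⁻¹ * (y : Perm (Fin 6)) * g = g⁻¹ * y * g⁻¹⁻¹ by group, conj_pow, hy']; group)).resolve_left
        (fun e => hy1 (Subtype.ext (by
          have : (y : Perm (Fin 6)) = g * (g⁻¹ * y * g) * g⁻¹ := by group
          rw [this, e]; simp)))
    have hm := Subgroup.mem_map_of_mem (MulAut.conj g).toMonoidHom (wit_mem _ _ he)
    rw [MonoidHom.map_closure, Set.image_insert_eq, Set.image_singleton] at hm
    have hcy' := hcy.map (MulAut.conj g).toMonoidHom (MulAut.conj g).injective
    have hm' : (MulAut.conj g).toMonoidHom e ∈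
        (Subgroup.closure ({y, z} : Set ↥(alternatingGroup (Fin 6)))).map (alternatingGroup (Fin 6)).subtype := by
      rw [MonoidHom.map_closure, Set.image_insert_eq, Set.image_singleton]
      simpa [hg, mul_assoc] using hm
    obtain ⟨e', he', hee⟩ := hm'
    refine ⟨e', he', ?_⟩
    have : Cyc (y : Perm (Fin 6)) (e' : Perm (Fin 6)) := by
      rw [show (e' : Perm (Fin 6)) = _ from hee]
      simpa [mul_assoc] using hcy'
    simpa using hback e'.2 this
  all_goals rw [hc] at h; omega

theorem small_SLT : Small SLT := by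
  have hc : Nat.card SLT = 168 := by rw [Nat.card_eq_fintype_card, slt_card]
  refine ⟨Or.inr (Or.inr (Or.inl hc)), fun y hy hy1 => (slt_three y hy).resolve_left hy1, fun h => ?_,
    fun _ y hy hy1 => ?_, fun _ x x' hx hx1 hx' hx1' => ?_⟩
  · rw [hc] at h; omega
  · haveI := Fact.mk (show Nat.Prime 7 by norm_num)
    have hsyl : ∀ {u : SLT}, u ^ 7 = 1 → u ≠ 1 → ∃ P : Sylow 7 SLT, (P : Subgroup SLT) = Subgroup.zpowers u := by
      intro u hu hu1
      refine ⟨Sylow.ofCard (Subgroup.zpowers u) ?_, rfl⟩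
      rw [Nat.card_zpowers, orderOf_eq_prime hu hu1, hc]
      decide +kernel
    obtain ⟨P, hP⟩ := hsyl slt_base.2.2.1 slt_base.2.2.2
    obtain ⟨Q, hQ⟩ := hsyl hy hy1
    obtain ⟨g, hg⟩ := MulAction.exists_smul_eq SLT P Q
    refine ⟨g * e168 * g⁻¹, ?_, fun h => slt_base.2.1 (conj_eq_one_iff.1 h), ?_⟩
    · rw [show g * e168 * g⁻¹ * (g * e168 * g⁻¹) = g * (e168 * e168) * g⁻¹ by group, slt_base.1]; group
    · rw [eq_top_iff]
      intro u _
      obtain ⟨c, -, hcw⟩ := List.mem_map.1 (slt_gen (g⁻¹ * u * g))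
      have hu : u ∈ (Subgroup.closure ({y168, e168} : Set SLT)).map (MulAut.conj g).toMonoidHom :=
        ⟨g⁻¹ * u * g, hcw ▸ word_mem _ _ c, by simp [mul_assoc]⟩
      rw [MonoidHom.map_closure, Set.image_insert_eq, Set.image_singleton] at hu
      refine (Subgroup.closure_le _).2 ?_ hu
      intro v hv
      simp only [Set.mem_insert_iff, Set.mem_singleton_iff] at hv
      rcases hv with rfl | rfl
      · have hmem : g * y168 * g⁻¹ ∈ (Q : Subgroup SLT) := by
          rw [← hg]; exact ⟨y168, hP ▸ Subgroup.mem_zpowers _, rfl⟩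
        rw [hQ] at hmem
        exact Subgroup.zpowers_le.2 (Subgroup.subset_closure (Set.mem_insert y _)) hmem
      · exact Subgroup.subset_closure (Set.mem_insert_of_mem _ rfl)
  · exact (isConj_iff.2 ((slt_invol x hx).resolve_left hx1)).symm.trans
      (isConj_iff.2 ((slt_invol x' hx').resolve_left hx1'))

end CfsgLib.M24Syl
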