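import Cfsg.Agent.Lib.M24Syl.PermTab
import Cfsg.Agent.Lib.M24Syl.Syl
import Cfsg.Agent.Lib.M24Syl.Groups
import Cfsg.Agent.Lib.A8ThreeClass.Classes
import Cfsg.Agent.Lib.A8ThreeClass.CentZ
import Cfsg.Agent.Lib.Coprime.Generation
import Cfsg.Agent.S3035

/-!
A group of linear permutations of the 64 indices whose Sylow 2-subgroup is the dihedral complement and which
does not fuse the three central indices is small, and no stabiliser in it is transitive on a quotient of rank
at least two.
-/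

set_option autoImplicit false
set_option linter.style.haveILetI false
set_option linter.unusedSectionVars false
set_option linter.style.longLine false

open Cfsg
open CfsgLib.A8ThreeClass (Cn mem_Cn mem_normalizer_of_conj Oi)
open Equiv

namespace CfsgLib.M24Syl

/-- the complement as a homomorphism -/
def dlh : DihedralGroup 4 →* Perm (Fin 64) :=
  MonoidHom.mk' (fun p => dl (dih p)) fun p q => by rw [dih4_ok.1, dl_mul]

theorem dlh_inj : Function.Injective dlh := fun _ _ h => dih4_ok.2.2 _ _ (dl_inj h)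

/-- the complement -/
def DG : Subgroup (Perm (Fin 64)) := dlh.range

theorem mem_DG {x : Perm (Fin 64)} : x ∈ DG ↔ ∃ d, dl d = x := by
  constructor
  · rintro ⟨p, rfl⟩; exact ⟨dih p, rfl⟩
  · rintro ⟨d, rfl⟩
    obtain ⟨p, rfl⟩ := dih4_ok.2.1 d
    exact ⟨p, rfl⟩

theorem dl_mem (d : Fin 8) : dl d ∈ DG := mem_DG.2 ⟨d, rfl⟩

theorem card_DG : Nat.card DG = 8 := by
  rw [DG, ← Nat.card_congr (MonoidHom.ofInjective dlh_inj).toEquiv, DihedralGroup.nat_card]

theorem DG_two : IsPGroup 2 DG := IsPGroup.of_card (n := 3) (by rw [card_DG]; norm_num)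

/-- the hypotheses -/
structure AM (M : Subgroup (Perm (Fin 64))) : Prop where
  lin : ∀ g ∈ M, ∀ a b, g (xr a b) = xr (g a) (g b)
  le : DG ≤ M
  syl : Into M DG
  cls : ∀ g ∈ M, ∀ z w : Fin 64, z.1 < 4 → w.1 < 4 → g z = w → z = w

theorem fix_conj (g x : Perm (Fin 64)) (a : Fin 64) : (g * x * g⁻¹) (g a) = g (x a) := by simp

theorem pow_fix {g : Perm (Fin 64)} {a : Fin 64} (h : g a = a) : ∀ n : ℕ, (g ^ n) a = a
  | 0 => rfl
  | n + 1 => by rw [pow_succ, Perm.mul_apply, h, pow_fix h n]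

namespace AM

variable {M : Subgroup (Perm (Fin 64))} (h : AM M)
include h

theorem zero {g : Perm (Fin 64)} (hg : g ∈ M) : g 0 = 0 := by
  have := h.lin g hg 0 0
  rwa [(xr_facts.1 0).1, (xr_facts.1 _).1] at this

theorem com_image {g : Perm (Fin 64)} (hg : g ∈ M) (x : Perm (Fin 64)) :
    comF (g * x * g⁻¹) = (comF x).image g := by
  ext c
  simp only [comF, Finset.mem_image, Finset.mem_univ, true_and]
  constructor
  · rintro ⟨a, rfl⟩
    exact ⟨_, ⟨g⁻¹ a, rfl⟩, by rw [h.lin g hg]; simp⟩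
  · rintro ⟨_, ⟨a, rfl⟩, rfl⟩
    exact ⟨g a, by rw [h.lin g hg, fix_conj]⟩

theorem comm_seven {g : Perm (Fin 64)} (hg : g ∈ M) (hc : g * dl 7 = dl 7 * g) (a : Fin 64) :
    g (actF 7 a) = actF 7 (g a) := congrArg (fun f => f a) hc

theorem two_mem_DG {g : Perm (Fin 64)} (hg : g ∈ M) (hn : ∀ x ∈ DG, g * x * g⁻¹ ∈ DG)
    (h2 : ∃ k, orderOf g = 2 ^ k) : g ∈ DG := by
  haveI := Fact.mk Nat.prime_two
  have hP : IsPGroup 2 ↥(Subgroup.zpowers g ⊔ DG) :=
    (Transfer.isPGroup_zpowers h2).to_sup_of_normal_right' DG_two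
      (Subgroup.zpowers_le.2 (mem_normalizer_of_conj hn))
  obtain ⟨c, -, hc⟩ := h.syl _ (sup_le (Subgroup.zpowers_le.2 hg) h.le) hP
  rw [Subgroup.eq_of_le_of_card_ge (le_sup_right (a := Subgroup.zpowers g)) (card_le_of_conj_mem hc)]
  exact Subgroup.mem_sup_left (Subgroup.mem_zpowers g)

/-- the centraliser of the central element is the complement -/
theorem cent_seven {g : Perm (Fin 64)} (hg : g ∈ M) (hc : g * dl 7 = dl 7 * g) : g ∈ DG := by
  haveI := Fact.mk Nat.prime_two
  set Cm := M ⊓ Cn (dl 7) with hCm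
  have hDC : DG ≤ Cm := fun x hx => ⟨h.le hx, mem_Cn.2 (by
    obtain ⟨d, rfl⟩ := mem_DG.1 hx
    have h7 : ∀ d : Fin 8, md d 7 = md 7 d := by decide +kernel
    show dl d * dl 7 = dl 7 * dl d
    rw [← dl_mul, ← dl_mul, h7])⟩
  have hlow : ∀ g ∈ Cm, ∀ z : Fin 64, z.1 < 4 → g z = z := by
    intro g hg z hz
    obtain ⟨a, ha⟩ : ∃ a, xr a (actF 7 a) = z := by
      have hall : ∀ z : Fin 64, z.1 < 4 → ∃ a, xr a (actF 7 a) = z := by decide +kernel
      exact hall z hz
    have e : g z = xr (g a) (actF 7 (g a)) := by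
      rw [← ha, h.lin g hg.1, h.comm_seven hg.1 (mem_Cn.1 hg.2)]
    exact (h.cls g hg.1 z (g z) hz (e ▸ com_seven _) rfl).symm
  have hct : ∀ g ∈ Cm, ∀ a, isCt a → isCt (g a) := fun g hg a ha => by
    show actF 7 (g a) = g a
    rw [← h.comm_seven hg.1 (mem_Cn.1 hg.2), ha]
  have hA : ∀ g ∈ Cm, ∀ a, isCt (xr a (g a)) := by
    intro g hg a
    set z := xr a (actF 7 a) with hz
    have e : actF 7 a = xr a z := by rw [hz, (xr_facts.2 _ _).2]
    show actF 7 (xr a (g a)) = xr a (g a)
    rw [← dl_apply, h.lin _ (h.le (dl_mem 7)), dl_apply, dl_apply, ← h.comm_seven hg.1 (mem_Cn.1 hg.2), e,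
      h.lin g hg.1, hlow g hg z (com_seven a), xr_assoc, ← xr_assoc z, xr_comm z (g a), xr_assoc (g a),
      (xr_facts.1 z).1, (xr_facts.1 (g a)).2.1]
  let K : Subgroup (Perm (Fin 64)) :=
    { carrier := {g | g ∈ Cm ∧ ∀ a, isCt a → (xr a (g a)).1 < 4}
      one_mem' := ⟨one_mem _, fun a _ => by rw [Perm.one_apply, (xr_facts.1 a).1]; exact Nat.succ_pos 3⟩
      mul_mem' := by
        rintro p q ⟨hp, hp'⟩ ⟨hq, hq'⟩
        refine ⟨mul_mem hp hq, fun a ha => ?_⟩
        have e : xr a ((p * q) a) = xr (xr a (q a)) (xr (q a) (p (q a))) := by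
          rw [xr_assoc, (xr_facts.2 (q a) _).2, Perm.mul_apply]
        rw [e]
        exact Nat.xor_lt_two_pow (n := 2) (hq' a ha) (hp' _ (hct q hq a ha))
      inv_mem' := by
        rintro p ⟨hp, hp'⟩
        refine ⟨inv_mem hp, fun a ha => ?_⟩
        have := hp' _ (hct _ (inv_mem hp) a ha)
        rw [show p (p⁻¹ a) = a from p.apply_symm_apply a, xr_comm] at this
        exact this }
  have hKC : K ≤ Cm := fun g hg => hg.1
  have hDK : DG ≤ K := fun x hx => ⟨hDC hx, by
    obtain ⟨d, rfl⟩ := mem_DG.1 hx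
    intro a ha
    exact com_ct d a ha⟩
  have hK : Cm ≤ K := by
    intro g hg
    have hQ : DG.map (MulAut.conj g).toMonoidHom ≤ K := by
      rintro _ ⟨x, hx, rfl⟩
      refine ⟨mul_mem (mul_mem hg (hDC hx)) (inv_mem hg), fun a ha => ?_⟩
      set b := g⁻¹ a with hb
      have ea : a = g b := (g.apply_symm_apply a).symm
      rw [ea]
      show (xr (g b) ((g * x * g⁻¹) (g b))).1 < 4
      have hlt := (hDK hx).2 b (hct _ (inv_mem hg) a ha)
      rw [fix_conj, ← h.lin g hg.1, hlow g hg _ hlt]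
      exact hlt
    obtain ⟨k, hk, hkQ⟩ := into_sub h.syl (hKC.trans inf_le_left) hDK DG_two _ hQ (DG_two.map _)
    have hn : ∀ x ∈ DG, k * g * x * (k * g)⁻¹ ∈ DG := fun x hx => by
      have := hkQ _ ⟨x, hx, rfl⟩
      simpa [mul_assoc] using this
    suffices hkg : k * g ∈ K by simpa using mul_mem (inv_mem hk) hkg
    have hn0 : k * g ∈ Cm := mul_mem (hKC hk) hg
    set n := k * g with hn'
    clear_value n
    have himg : ∀ d : Fin 8, md d d = 0 ∧ d ≠ 0 ∧ d ≠ 7 →
        ∃ d', (md d' d' = 0 ∧ d' ≠ 0 ∧ d' ≠ 7) ∧ n * dl d * n⁻¹ = dl d' := by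
      rintro d ⟨hd, hd0, hd7⟩
      obtain ⟨d', e⟩ := mem_DG.1 (hn _ (dl_mem d))
      refine ⟨d', ⟨dl_inj ?_, fun e0 => hd0 (dl_inj ?_), fun e7 => hd7 (dl_inj ?_)⟩, e.symm⟩
      · rw [dl_mul, e, dl_one, show n * dl d * n⁻¹ * (n * dl d * n⁻¹) = n * (dl d * dl d) * n⁻¹ by group,
          ← dl_mul, hd, dl_one]
        group
      · rw [e0, dl_one, eq_comm, conj_eq_one_iff] at e
        rw [e, dl_one]
      · rw [e7] at e
        have hn7 : n * dl 7 * n⁻¹ = dl 7 := mul_inv_eq_iff_eq_mul.2 (mem_Cn.1 hn0.2).eq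
        exact mul_left_cancel (mul_right_cancel (e.symm.trans hn7.symm))
    have hline : ∀ L : Fin 64 → Prop, L = inL1 ∨ L = inL2 →
        (∀ a, L a → inL1 (n a)) ∨ (∀ a, L a → inL2 (n a)) := by
      intro L hL
      obtain ⟨d, hd, hdL⟩ : ∃ d : Fin 8, (md d d = 0 ∧ d ≠ 0 ∧ d ≠ 7) ∧ ∀ a, L a → isCt a ∧ actF d a = a := by
        rcases hL with rfl | rfl
        · exact ⟨1, by decide +kernel, fun a ha => ha⟩
        · exact ⟨2, by decide +kernel, fun a ha => ha⟩
      obtain ⟨d', hd', e⟩ := himg d hd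
      have hmap : ∀ a, L a → isCt (n a) ∧ actF d' (n a) = n a := fun a ha => by
        refine ⟨hct n hn0 a (hdL a ha).1, ?_⟩
        have h2 : dl d a = a := (hdL a ha).2
        rw [← dl_apply, ← e, fix_conj, h2]
      rcases line_of_invol d' hd' with h' | h'
      · exact Or.inl fun a ha => (h' _).1 (hmap a ha).1 (hmap a ha).2
      · exact Or.inr fun a ha => (h' _).1 (hmap a ha).1 (hmap a ha).2
    classical
    set L1s : Finset (Fin 64) := Finset.univ.filter inL1 with hL1s
    set L2s : Finset (Fin 64) := Finset.univ.filter inL2 with hL2s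
    have hcard : L1s.card = L2s.card := by rw [hL1s, hL2s]; decide +kernel
    have hne : L1s ≠ L2s := fun e => by
      obtain ⟨a, ha, ha'⟩ := line_ne
      have : a ∈ L2s := e ▸ Finset.mem_filter.2 ⟨Finset.mem_univ _, ha⟩
      exact ha' (Finset.mem_filter.1 this).2
    have himage : ∀ L : Finset (Fin 64), L = L1s ∨ L = L2s → L.image n = L1s ∨ L.image n = L2s := by
      intro L hL
      have hc : L.card = L1s.card ∧ L.card = L2s.card := by rcases hL with rfl | rfl <;> omega
      obtain ⟨P, hPL, hP⟩ : ∃ P : Fin 64 → Prop, (∀ a ∈ L, P a) ∧ (P = inL1 ∨ P = inL2) := by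
        rcases hL with rfl | rfl
        · exact ⟨inL1, fun a ha => (Finset.mem_filter.1 ha).2, Or.inl rfl⟩
        · exact ⟨inL2, fun a ha => (Finset.mem_filter.1 ha).2, Or.inr rfl⟩
      rcases hline P hP with h' | h'
      · refine Or.inl (Finset.eq_of_subset_of_card_le ?_ (by rw [Finset.card_image_of_injective _ n.injective, hc.1]))
        intro b hb
        obtain ⟨a, ha, rfl⟩ := Finset.mem_image.1 hb
        exact Finset.mem_filter.2 ⟨Finset.mem_univ _, h' a (hPL a ha)⟩
      · refine Or.inr (Finset.eq_of_subset_of_card_le ?_ (by rw [Finset.card_image_of_injective _ n.injective, hc.2]))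
        intro b hb
        obtain ⟨a, ha, rfl⟩ := Finset.mem_image.1 hb
        exact Finset.mem_filter.2 ⟨Finset.mem_univ _, h' a (hPL a ha)⟩
    let F : Subgroup (Perm (Fin 64)) :=
      { carrier := {u | L1s.image u = L1s}
        one_mem' := by simp
        mul_mem' := fun {p q} hp hq => by
          simp only [Set.mem_setOf_eq, Perm.coe_mul] at hp hq ⊢
          rw [← Finset.image_image, hq, hp]
        inv_mem' := fun {p} hp => by
          simp only [Set.mem_setOf_eq] at hp ⊢
          conv_lhs => rw [← hp, Finset.image_image, ← Perm.coe_mul, inv_mul_cancel, Perm.coe_one, Finset.image_id] }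
    have hnF : n ∈ F := by
      obtain ⟨a, m, hm, he⟩ := Nat.exists_eq_two_pow_mul_odd (orderOf_pos n).ne'
      have hmD : n ^ m ∈ DG := by
        refine h.two_mem_DG (pow_mem hn0.1 m) (fun x hx => ?_) ⟨a, ?_⟩
        · exact (Subgroup.mem_normalizer_iff.1 (pow_mem (mem_normalizer_of_conj hn) m) x).1 hx
        · rw [orderOf_pow' n (by rintro rfl; simp at hm), he, Nat.gcd_mul_left_left,
            Nat.mul_div_cancel _ (Nat.pos_of_ne_zero (by rintro rfl; simp at hm))]
      refine mem_of_odd_pow_sq hm ?_ ?_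
      · obtain ⟨d, hd⟩ := mem_DG.1 hmD
        show L1s.image (n ^ m) = L1s
        rw [← hd, hL1s]
        have hall : ∀ d : Fin 8, (Finset.univ.filter inL1).image (actF d) = Finset.univ.filter inL1 := by
          decide +kernel
        exact hall d
      · show L1s.image (n ^ 2 : Perm (Fin 64)) = L1s
        rw [pow_two, Perm.coe_mul, ← Finset.image_image]
        rcases himage L1s (Or.inl rfl) with e | e
        · rw [e, e]
        · rw [e]
          rcases himage L2s (Or.inr rfl) with e' | e'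
          · exact e'
          · exact absurd (Finset.image_injective n.injective (e.trans e'.symm)) hne
    have h1 : ∀ a, inL1 a → inL1 (n a) := fun a ha => by
      have : n a ∈ L1s.image n := Finset.mem_image_of_mem n (Finset.mem_filter.2 ⟨Finset.mem_univ _, ha⟩)
      rw [show L1s.image n = L1s from hnF] at this
      exact (Finset.mem_filter.1 this).2
    have h2 : ∀ a, inL2 a → inL2 (n a) := fun a ha => by
      have e : L2s.image n = L2s := (himage L2s (Or.inr rfl)).resolve_left fun e =>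
        hne (Finset.image_injective n.injective ((show L1s.image n = L1s from hnF).trans e.symm))
      have : n a ∈ L2s.image n := Finset.mem_image_of_mem n (Finset.mem_filter.2 ⟨Finset.mem_univ _, ha⟩)
      rw [e] at this
      exact (Finset.mem_filter.1 this).2
    refine ⟨hn0, fun a ha => ?_⟩
    obtain ⟨b, c, hb, hc', rfl⟩ := ct_dec a ha
    have hstep : ∀ {L : Fin 64 → Prop}, (∀ a b : Fin 64, L a → L b → 4 ≤ a.1 → 4 ≤ b.1 → (xr a b).1 < 4) →
        (∀ a, L a → L (n a)) → ∀ b, L b → (xr b (n b)).1 < 4 := by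
      intro L hdiff hmap b hb
      by_cases hb4 : b.1 < 4
      · rw [hlow n hn0 b hb4, (xr_facts.1 b).1]; exact Nat.succ_pos 3
      · refine hdiff b (n b) hb (hmap b hb) (not_lt.1 hb4) (not_lt.1 fun hlt => hb4 ?_)
        have h4 := hlow n⁻¹ (inv_mem hn0) (n b) hlt
        rw [show n⁻¹ (n b) = b from n.symm_apply_apply b] at h4
        rw [h4]; exact hlt
    have e : xr (xr b c) (n (xr b c)) = xr (xr b (n b)) (xr c (n c)) := by
      rw [h.lin n hn0.1, xr_assoc, ← xr_assoc c, xr_comm c (n b), xr_assoc (n b), ← xr_assoc b]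
    rw [e]
    exact Nat.xor_lt_two_pow (n := 2) (hstep line1_diff h1 b hb) (hstep line2_diff h2 c hc')
  -- the stabiliser of the series is a 2-group
  have hfour : ∀ g ∈ Cm, g ^ 4 = 1 := by
    intro g hg
    refine Equiv.ext fun a => ?_
    set c := xr a (g a) with hc
    set z := xr c (g c) with hz
    have hca : g a = xr a c := by rw [hc, (xr_facts.2 _ _).2]
    have hcc : g c = xr c z := by rw [hz, (xr_facts.2 _ _).2]
    have hzz : g z = z := hlow g hg z ((hK hg).2 c (hA g hg a))
    have h2 : g (g a) = xr a z := by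
      rw [hca, h.lin g hg.1, hca, hcc, xr_assoc, (xr_facts.2 c z).2]
    rw [show g ^ 4 = g * g * (g * g) by rw [← pow_two, ← pow_two, ← pow_mul]]
    simp only [Perm.mul_apply]
    rw [h2, h.lin g hg.1, h.lin g hg.1, h2, hzz, hzz, xr_assoc, (xr_facts.1 z).1, (xr_facts.1 a).2.1]
    rfl
  have hC2 : IsPGroup 2 Cm := fun x => ⟨2, Subtype.ext (by simpa using hfour x x.2)⟩
  obtain ⟨c, -, hc'⟩ := h.syl Cm inf_le_left hC2
  rw [Subgroup.eq_of_le_of_card_ge hDC (card_le_of_conj_mem hc')]
  exact ⟨hg, mem_Cn.2 hc⟩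

/-- there is no core -/
theorem core : Oi M = ⊥ := by
  haveI := Fact.mk Nat.prime_two
  set O := Oi M with hO
  have hodd : ∀ x ∈ O, Odd (orderOf x) := fun x hx => A8ThreeClass.odd_of_mem (A8ThreeClass.Oi_card_odd M) hx
  have hOD : ∀ x ∈ O, x ∈ DG → x = 1 := fun x hx hxD => by
    obtain ⟨k, hk⟩ := DG_two ⟨x, hxD⟩
    refine A8ThreeClass.orderOf_one_of_two_group_odd ⟨k, orderOf_dvd_of_pow_eq_one ?_⟩ (hodd x hx)
    exact congrArg Subtype.val hk
  have hOM : ∀ x ∈ M, ∀ y ∈ O, x * y * x⁻¹ ∈ O := fun x hx y hy =>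
    A8ThreeClass.Oi_conj (Subgroup.le_normalizer hx) hy
  have h7 : ∀ x ∈ O, x * dl 7 = dl 7 * x → x = 1 := fun x hx hc =>
    hOD x hx (h.cent_seven (A8ThreeClass.Oi_le M hx) hc)
  have ht2 : dl 7 * dl 7 = 1 := by rw [← dl_mul, ← dl_one]; exact congrArg dl (by decide +kernel)
  have hti : (dl 7)⁻¹ = dl 7 := inv_eq_of_mul_eq_one_right ht2
  have he : ∀ d : Fin 8, d = 1 ∨ d = 6 → ∀ y ∈ O, y * dl d = dl d * y → y = 1 := by
    intro d hd y hy hye
    obtain ⟨hfix, hmod⟩ := e_ok d hd
    set e := dl d with he'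
    set t := dl 7 with ht
    have hte : t * e = e * t := by
      rw [ht, he', ← dl_mul, ← dl_mul]
      rcases hd with rfl | rfl <;> exact congrArg dl (by decide +kernel)
    set K0 := O ⊓ Cn e with hK0
    let f : K0 → K0 := fun u => ⟨(u : Perm (Fin 64))⁻¹ * (t * u * t), mul_mem (O.inv_mem u.2.1) (by
        have := hOM t (h.le (dl_mem 7)) u u.2.1
        rwa [hti] at this), mem_Cn.2 (Commute.mul_left (mem_Cn.1 u.2.2).inv_left
          (((show Commute t e from hte).mul_left (mem_Cn.1 u.2.2)).mul_left (show Commute t e from hte)))⟩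
    have hf : Function.Injective f := fun u w e0 => by
      have e0' : (u : Perm (Fin 64))⁻¹ * (t * u * t) = (w : Perm (Fin 64))⁻¹ * (t * w * t) := congrArg Subtype.val e0
      refine Subtype.ext ?_
      have h1 := h7 ((w : Perm (Fin 64)) * (u : Perm (Fin 64))⁻¹) (mul_mem w.2.1 (inv_mem u.2.1)) (by
        have e1 : t * (w : Perm (Fin 64)) * t = (w : Perm (Fin 64)) * (u : Perm (Fin 64))⁻¹ * (t * u * t) := by
          rw [mul_assoc _ (u : Perm (Fin 64))⁻¹, e0']; group
        calc (w : Perm (Fin 64)) * (u : Perm (Fin 64))⁻¹ * t =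
            (w : Perm (Fin 64)) * (u : Perm (Fin 64))⁻¹ * (t * u * t) * (t⁻¹ * (u : Perm (Fin 64))⁻¹) := by group
          _ = t * (w : Perm (Fin 64)) * t * (t⁻¹ * (u : Perm (Fin 64))⁻¹) := by rw [e1]
          _ = _ := by group)
      exact (mul_inv_eq_one.1 h1).symm
    obtain ⟨u, hu⟩ := Finite.injective_iff_surjective.1 hf ⟨y, hy, mem_Cn.2 hye⟩
    have hu' : (u : Perm (Fin 64))⁻¹ * (t * u * t) = y := congrArg Subtype.val hu
    have hty : t * y * t = y⁻¹ := by
      rw [← hu', mul_inv_rev, mul_inv_rev, mul_inv_rev, hti, inv_inv]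
      calc t * ((u : Perm (Fin 64))⁻¹ * (t * u * t)) * t = t * (u : Perm (Fin 64))⁻¹ * t * u * (t * t) := by group
        _ = t * ((u : Perm (Fin 64))⁻¹ * t) * u := by rw [ht2]; group
    have hyt : ∀ a, y (actF 7 (y a)) = actF 7 a := by
      intro a
      have e1 : y * t * y = t := by
        calc y * t * y = y * (t * y * t) * t⁻¹ := by group
          _ = t := by rw [hty, mul_inv_cancel, one_mul, hti]
      exact congrArg (fun g => g a) e1
    have hyM := A8ThreeClass.Oi_le M hy
    have hyC : ∀ c ∈ comF e, y c = c := by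
      intro c hc
      have hyc : y c ∈ comF e := by
        have e1 : comF e = (comF e).image y := by
          rw [← h.com_image hyM, show y * e * y⁻¹ = e from mul_inv_eq_iff_eq_mul.2 hye]
        rw [e1]; exact Finset.mem_image_of_mem y hc
      have h2 : (y ^ 2) c = c := by
        have := hyt c
        rw [(hfix _ hyc).1, (hfix _ hc).1] at this
        rw [pow_two, Perm.mul_apply]; exact this
      obtain ⟨m, hm⟩ := hodd y hy
      have e2 : y = (y ^ 2) ^ (m + 1) := by
        rw [← pow_mul, show 2 * (m + 1) = orderOf y + 1 by omega, pow_succ, pow_orderOf_eq_one, one_mul]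
      rw [e2]
      exact pow_fix h2 _
    have hyF : ∀ c, actF d c = c → xr c (y c) ∈ comF e := by
      intro c hc
      have hyc : ∀ b, actF d b = b → actF d (y b) = y b := fun b hb => by
        have := congrArg (fun g => g b) hye
        simp only [Perm.mul_apply] at this
        rw [he', dl_apply, hb, dl_apply] at this
        exact this.symm
      have hadd : ∀ p ∈ comF e, ∀ q ∈ comF e, xr p q ∈ comF e := by
        rw [he']
        rcases hd with rfl | rfl <;> decide +kernel
      have h2 : ∀ b, actF d b = b → xr b ((y ^ 2) b) ∈ comF e := by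
        intro b hb
        rw [pow_two, Perm.mul_apply]
        set w := xr (y b) (actF 7 (y b)) with hw
        have hwC : w ∈ comF e := hmod _ (hyc b hb)
        have e1 : y (y b) = xr w (actF 7 b) := by
          have := hyt b
          rw [show actF 7 (y b) = xr (y b) w by rw [hw, (xr_facts.2 _ _).2], h.lin y hyM, hyC w hwC] at this
          rw [← this, xr_comm (y (y b)) w, (xr_facts.2 w _).2]
        rw [e1, xr_comm w, ← xr_assoc]
        exact hadd _ (hmod b hb) _ hwC
      let F : Subgroup (Perm (Fin 64)) :=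
        { carrier := {u | u ∈ M ∧ (∀ b, actF d b = b → actF d (u b) = u b) ∧
            (∀ b, actF d b = b → actF d (u⁻¹ b) = u⁻¹ b) ∧ ∀ b, actF d b = b → xr b (u b) ∈ comF e}
          one_mem' := ⟨one_mem _, fun b hb => hb, fun b hb => by simpa using hb, fun b hb => by
            rw [Perm.one_apply, (xr_facts.1 b).1]
            have h0 : (0 : Fin 64) ∈ comF e := Finset.mem_image.2 ⟨0, Finset.mem_univ _, by
              rw [he', h.zero (h.le (dl_mem d)), (xr_facts.1 0).1]⟩
            exact h0⟩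
          mul_mem' := by
            rintro p q ⟨hp, hp1, hp2, hp3⟩ ⟨hq, hq1, hq2, hq3⟩
            refine ⟨mul_mem hp hq, fun b hb => hp1 _ (hq1 b hb), fun b hb => ?_, fun b hb => ?_⟩
            · rw [mul_inv_rev, Perm.mul_apply]; exact hq2 _ (hp2 b hb)
            · have e2 : xr b ((p * q) b) = xr (xr b (q b)) (xr (q b) (p (q b))) := by
                rw [xr_assoc, (xr_facts.2 (q b) _).2, Perm.mul_apply]
              rw [e2]; exact hadd _ (hq3 b hb) _ (hp3 _ (hq1 b hb))
          inv_mem' := by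
            rintro p ⟨hp, hp1, hp2, hp3⟩
            refine ⟨inv_mem hp, hp2, by rw [inv_inv]; exact hp1, fun b hb => ?_⟩
            have := hp3 _ (hp2 b hb)
            rw [show p (p⁻¹ b) = b from p.apply_symm_apply b, xr_comm] at this
            exact this }
      have hy2 : y ^ 2 ∈ F := by
        refine ⟨pow_mem hyM 2, fun b hb => ?_, fun b hb => ?_, h2⟩
        · rw [pow_two, Perm.mul_apply]; exact hyc _ (hyc b hb)
        · have hinv : ∀ b, actF d b = b → actF d (y⁻¹ b) = y⁻¹ b := fun b hb => by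
            have := congrArg (fun g => g b) (show y⁻¹ * e = e * y⁻¹ from (show Commute y e from hye).inv_left.eq)
            simp only [Perm.mul_apply] at this
            rw [he', dl_apply, hb, dl_apply] at this
            exact this.symm
          rw [pow_two, mul_inv_rev, Perm.mul_apply]; exact hinv _ (hinv b hb)
      obtain ⟨m, hm⟩ := hodd y hy
      have e2 : y = (y ^ 2) ^ (m + 1) := by
        rw [← pow_mul, show 2 * (m + 1) = orderOf y + 1 by omega, pow_succ, pow_orderOf_eq_one, one_mul]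
      exact (e2 ▸ pow_mem hy2 (m + 1) : y ∈ F).2.2.2 c hc
    refine A8ThreeClass.orderOf_one_of_two_group_odd ⟨2, orderOf_dvd_of_pow_eq_one (Equiv.ext fun a => ?_)⟩ (hodd y hy)
    set c := xr a (y a) with hc
    have hca : y a = xr a c := by rw [hc, (xr_facts.2 _ _).2]
    set w := xr a (actF d a) with hw
    have hwC : w ∈ comF e := Finset.mem_image.2 ⟨a, Finset.mem_univ _, rfl⟩
    have hcfix : actF d c = c := by
      have h1 : actF d (y a) = y (actF d a) := by
        have := congrArg (fun g => g a) hye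
        simp only [Perm.mul_apply] at this
        rw [he', dl_apply, dl_apply] at this
        exact this.symm
      rw [hc, ← dl_apply, h.lin _ (h.le (dl_mem d)), dl_apply, dl_apply, h1,
        show actF d a = xr a w by rw [hw, (xr_facts.2 _ _).2], h.lin y hyM, hyC w hwC,
        xr_assoc, ← xr_assoc w, xr_comm w (y a), xr_assoc (y a), (xr_facts.1 w).1, (xr_facts.1 (y a)).2.1]
    set v := xr c (y c) with hv
    have hcc : y c = xr c v := by rw [hv, (xr_facts.2 _ _).2]
    have hvv : y v = v := hyC v (hyF c hcfix)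
    have h2 : y (y a) = xr a v := by rw [hca, h.lin y hyM, hca, hcc, xr_assoc, (xr_facts.2 c v).2]
    rw [show y ^ (2 ^ 2) = y * y * (y * y) by rw [show (2 : ℕ) ^ 2 = 4 from rfl, ← pow_two, ← pow_two, ← pow_mul]]
    simp only [Perm.mul_apply]
    rw [h2, h.lin y hyM, h.lin y hyM, h2, hvv, hvv, xr_assoc, (xr_facts.1 v).1, (xr_facts.1 a).2.1]
    rfl
  -- generation by the centralisers of a four group
  let E : Subgroup (Perm (Fin 64)) :=
    { carrier := {x | ∃ d : Fin 8, (d = 0 ∨ d = 1 ∨ d = 6 ∨ d = 7) ∧ dl d = x}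
      one_mem' := ⟨0, Or.inl rfl, dl_one⟩
      mul_mem' := by
        rintro _ _ ⟨p, hp, rfl⟩ ⟨q, hq, rfl⟩
        have hall : ∀ p q : Fin 8, (p = 0 ∨ p = 1 ∨ p = 6 ∨ p = 7) → (q = 0 ∨ q = 1 ∨ q = 6 ∨ q = 7) →
            (md p q = 0 ∨ md p q = 1 ∨ md p q = 6 ∨ md p q = 7) ∧ md p q = md q p := by decide +kernel
        exact ⟨_, (hall p q hp hq).1, dl_mul p q⟩
      inv_mem' := by
        rintro _ ⟨p, hp, rfl⟩
        have hall : ∀ p : Fin 8, (p = 0 ∨ p = 1 ∨ p = 6 ∨ p = 7) → idv p = p := by decide +kernel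
        exact ⟨p, hp, by rw [dl_inv, hall p hp]⟩ }
  have hED : E ≤ DG := by rintro _ ⟨p, -, rfl⟩; exact dl_mem p
  have hEc : IsMulCommutative E := ⟨⟨fun ⟨_, p, hp, ep⟩ ⟨_, q, hq, eq⟩ => Subtype.ext (by
    subst ep; subst eq
    have hall : ∀ p q : Fin 8, (p = 0 ∨ p = 1 ∨ p = 6 ∨ p = 7) → (q = 0 ∨ q = 1 ∨ q = 6 ∨ q = 7) →
        md p q = md q p := by decide +kernel
    show dl p * dl q = dl q * dl p
    rw [← dl_mul, ← dl_mul, hall p q hp hq])⟩⟩
  have hE2 : ∀ x ∈ E, x ^ 2 = 1 := by
    rintro _ ⟨p, hp, rfl⟩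
    have hall : ∀ p : Fin 8, (p = 0 ∨ p = 1 ∨ p = 6 ∨ p = 7) → md p p = 0 := by decide +kernel
    rw [pow_two, ← dl_mul, hall p hp, dl_one]
  have hE4 : 2 ^ 2 ≤ Nat.card E := by
    let f : Fin 4 → E := fun i => ⟨dl ([0, 1, 6, 7].getD i.1 0), _, (by revert i; decide), rfl⟩
    have hf : Function.Injective f := fun i j e0 => by
      have := dl_inj (congrArg Subtype.val e0)
      revert this; revert i j; decide
    simpa using Nat.card_le_card_of_injective f hf
  refine eq_bot_iff.2 (Coprime.le_of_hyperplane_centralizer_le (p := 2) hEc hE2 hE4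
    (fun x hx => mem_normalizer_of_conj (hOM x (h.le (hED hx)))) ?_ ?_)
  · obtain ⟨n, hn⟩ := IsPGroup.iff_card.1 (DG_two.to_le hED)
    rw [hn]
    exact ((Nat.coprime_two_right.2 (A8ThreeClass.Oi_card_odd M)).symm).pow_left n
  · intro B hB hidx x hx
    obtain ⟨z, hz, hz1⟩ : ∃ z ∈ B, z ≠ 1 := by
      by_contra h'
      simp only [not_exists, not_and, not_not] at h'
      rw [(Subgroup.eq_bot_iff_forall B).2 h', Subgroup.relIndex_bot_left] at hidx
      omega
    obtain ⟨d, hd, rfl⟩ := hB hz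
    have hc : x * dl d = dl d * x := (hx.2 _ hz).symm
    refine Subgroup.mem_bot.2 ?_
    rcases hd with rfl | rfl | rfl | rfl
    · exact absurd dl_one hz1
    · exact he 1 (Or.inl rfl) x hx.1 hc
    · exact he 6 (Or.inr rfl) x hx.1 hc
    · exact h7 x hx.1 hc

/-- the possible orders, with the facts on the groups -/
theorem small : Nat.card M = 8 ∨ Small ↥M := by
  haveI := Fact.mk Nat.prime_two
  set z : M := ⟨dl 7, h.le (dl_mem 7)⟩ with hz
  have hz2 : orderOf z = 2 := by
    refine orderOf_eq_prime ?_ ?_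
    · exact Subtype.ext (by
        show dl 7 ^ 2 = 1
        rw [pow_two, ← dl_mul, ← dl_one]; exact congrArg dl (by decide +kernel))
    · intro e
      have h2 := congrArg Subtype.val e
      exact absurd (dl_inj ((show dl 7 = 1 from h2).trans dl_one.symm)) (by decide)
  have hmem : ∀ p : DihedralGroup 4, (⟨dlh p, h.le ⟨p, rfl⟩⟩ : M) ∈ Subgroup.centralizer ({z} : Set M) := by
    intro p
    rw [Subgroup.mem_centralizer_singleton_iff]
    have h7 : ∀ d : Fin 8, md d 7 = md 7 d := by decide +kernel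
    refine Subtype.ext ?_
    show dl (dih p) * dl 7 = dl 7 * dl (dih p)
    rw [← dl_mul, ← dl_mul, h7]
  let f : DihedralGroup 4 →* ↥(Subgroup.centralizer ({z} : Set M)) :=
    MonoidHom.mk' (fun p => ⟨⟨dlh p, h.le ⟨p, rfl⟩⟩, hmem p⟩) fun p q => Subtype.ext (Subtype.ext (map_mul dlh p q))
  have hf : Function.Bijective f := by
    refine ⟨fun p q e => dlh_inj (congrArg (fun u : ↥(Subgroup.centralizer ({z} : Set M)) => ((u : M) : Perm (Fin 64))) e),
      fun u => ?_⟩
    obtain ⟨⟨g, hg⟩, hgc⟩ := u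
    obtain ⟨p, hp⟩ := h.cent_seven hg (congrArg Subtype.val (Subgroup.mem_centralizer_singleton_iff.1 hgc))
    exact ⟨p, Subtype.ext (Subtype.ext hp)⟩
  have hO : oddCore ↥M = ⊥ := (Subgroup.map_eq_bot_iff_of_injective _ M.subtype_injective).1 h.core
  rcases Cfsg.Agent.S3035.result z hz2 ⟨(MulEquiv.ofBijective f hf).symm⟩ with e | ⟨⟨e⟩⟩ | ⟨⟨e⟩⟩ | ⟨⟨e⟩⟩ | ⟨⟨e⟩⟩
  · refine Or.inl ?_
    rw [hO, sup_bot_eq] at e
    rw [← Nat.card_congr (Subgroup.topEquiv (G := M)).toEquiv, ← e,
      ← Nat.card_congr (MulEquiv.ofBijective f hf).toEquiv, DihedralGroup.nat_card]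
  · exact Or.inr (Small.of_equiv e small_S4)
  · exact Or.inr (Small.of_equiv e small_S5)
  · exact Or.inr (Small.of_equiv e small_SLT)
  · exact Or.inr (Small.of_equiv e small_A6)

end AM

end CfsgLib.M24Syl
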