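import Cfsg.Agent.Lib.M24Syl.Model

/-!
Facts about the table: the involutions outside the abelian subgroup of order 64 and their centralisers.
-/

set_option autoImplicit false
set_option linter.style.longLine false

namespace CfsgLib.M24Syl

/-- an involution or the identity -/
def inv2 (i : ℕ) : Bool := mS i i == 0

/-- the sixteen involutions with centraliser of order 128 -/
def isT (i : ℕ) : Bool := i / 64 == 7 && inv2 i

/-- the sixty-four involutions with centraliser of order 64 -/
def isE (i : ℕ) : Bool := Nat.ble 64 i && !(i / 64 == 7) && inv2 i

/-- commuting indices -/
def cmt (i j : ℕ) : Bool := mS i j == mS j i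

/-- the centraliser of an index -/
def cen (i : ℕ) : List ℕ := (List.range 512).filter (cmt i)

/-- the two normal subgroups of order eight in the abelian subgroup -/
def wSet (k : ℕ) : List ℕ := if k < 2 then [0, 1, 2, 3, 8, 9, 10, 11] else [0, 1, 2, 3, 16, 17, 18, 19]

/-- their distinguished central involutions -/
def vEl (k : ℕ) : ℕ := if k < 2 then 1 else 2

/-- membership in `{1, v}` -/
def inV (k c : ℕ) : Bool := c == 0 || c == vEl k

/-- the chosen involution with large centraliser -/
def tEl (k : ℕ) : ℕ := [448, 464, 448, 456].getD k 0

/-- representatives of the remaining involutions -/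
def sEls (k : ℕ) : List ℕ := [[64, 384], [112, 416], [128, 320], [140, 324]].getD k []

/-- the elementary abelian subgroup of order 32 -/
def pSet (k : ℕ) : List ℕ :=
  let s := (sEls k).headD 0
  wSet k ++ (wSet k).map (mS (tEl k)) ++ (wSet k).map (mS s) ++ (wSet k).map (mS (mS (tEl k) s))

/-- the elements acting trivially on the subgroup of order 32 modulo `v` -/
def kerB (k g : ℕ) : Bool := (pSet k).all fun p => inV k (cmI g p)

/-- two representatives modulo the kernel -/
def aEl (k : ℕ) : ℕ := if k < 2 then 4 else 32

/-- the second representative -/
def bEl (k : ℕ) : ℕ := if k < 2 then 128 else 64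

/-- the centraliser of the subgroup of order eight -/
def cW (k g : ℕ) : Bool := (wSet k).all (cmt g)

theorem base_ok : ((List.range 64).all fun a => (List.range 64).all fun b =>
    mS a b == Nat.xor a b && cmt a b) && ((List.range 512).all fun i => Nat.blt i 64 ||
      (List.range 64).any fun a => !cmt i a) = true := by decide +kernel

theorem normal_ok : ((List.range 512).all fun g => (List.range 64).all fun a => Nat.blt (cjI g a) 64) = true := by
  decide +kernel

theorem centre_ok : ((List.range 512).all fun i => (List.range 4).all (cmt i) &&
    (Nat.blt i 4 || !(gI.all (cmt i)))) = true := by decide +kernel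

theorem roots_ok : (((List.range 512).filter fun i => mS i i == 1).length == 48 &&
    ((List.range 512).filter fun i => mS i i == 2).length == 48 &&
    ((List.range 512).filter fun i => mS i i == 3).length == 16) = true := by decide +kernel

theorem count_ok : ((List.range 512).all fun i => !(Nat.ble 64 i && inv2 i) ||
    ((cen i).length == if isT i then 128 else 64) &&
      (!isT i || (List.range 512).all fun g => Nat.blt (cmI i g) 4)) = true := by decide +kernel

theorem central_mod_ok : ((List.range 64).all fun i => !(Nat.blt 128 (cen i).length) ||
    (List.range 512).all fun g => Nat.blt (cmI i g) 4) = true := by decide +kernel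

end CfsgLib.M24Syl
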