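import Cfsg.Agent.Lib.M24Syl.Syl
import Cfsg.Agent.Lib.M24Syl.Table

/-!
The dictionary between the table and a Sylow 2-subgroup of a finite group.
-/

set_option autoImplicit false
set_option linter.style.haveILetI false
set_option linter.unusedSectionVars false
set_option linter.style.longLine false

open Cfsg

namespace CfsgLib.M24Syl

variable {G : Type*} [Group G] [Finite G]

/-- a Sylow 2-subgroup with the table, and its unique abelian subgroup of order 64 -/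
structure Ctx (S : Sylow 2 G) (A : Subgroup G) (φ : ℕ → G) : Prop where
  hyp : Hyp φ (S : Subgroup G)
  memA : ∀ x : G, x ∈ A ↔ ∃ i < 64, φ i = x
  uniq : ∀ B : Subgroup G, B ≤ (S : Subgroup G) → IsMulCommutative ↥B → Nat.card ↥B = 64 → B = A

theorem xor_facts {a b : ℕ} (ha : a < 64) (hb : b < 64) :
    mS a b = Nat.xor a b ∧ cmt a b = true := by
  have h := base_ok
  simp only [Bool.and_eq_true, List.all_eq_true, List.mem_range, beq_iff_eq] at h
  exact h.1 a ha b hb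

theorem cjI_lt {g a : ℕ} (hg : g < 512) (ha : a < 512) : cjI g a < 512 :=
  mS_lt (mS_lt hg ha) (invI_spec hg).1

theorem cmI_lt {a b : ℕ} (ha : a < 512) (hb : b < 512) : cmI a b < 512 :=
  mS_lt (mS_lt ha hb) (mS_lt (invI_spec ha).1 (invI_spec hb).1)

theorem mem_cen {i j : ℕ} : j ∈ cen i ↔ j < 512 ∧ cmt i j = true := by
  simp [cen]

theorem inv2_invol_cases {i : ℕ} (h : inv2 i = true) : i < 64 ∨ isT i = true ∨ isE i = true := by
  unfold isT isE
  rw [h]
  rcases Nat.lt_or_ge i 64 with h1 | h1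
  · exact Or.inl h1
  · refine Or.inr ?_
    by_cases h7 : i / 64 = 7
    · exact Or.inl (by simp [h7])
    · exact Or.inr (by simp [h7, h1])

namespace Ctx

variable {S : Sylow 2 G} {A : Subgroup G} {φ : ℕ → G} (C : Ctx S A φ)
include C

theorem mem {i : ℕ} (hi : i < 512) : φ i ∈ (S : Subgroup G) := C.hyp.mem i hi

theorem mul {i j : ℕ} (hi : i < 512) (hj : j < 512) : φ (mS i j) = φ i * φ j := C.hyp.mul i hi j hj

theorem one : φ 0 = 1 := by
  have h := C.mul (show 0 < 512 by norm_num) (show 0 < 512 by norm_num)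
  rw [(invI_spec (show 0 < 512 by norm_num)).2.2.2.1] at h
  exact right_eq_mul.1 h

theorem inj {i j : ℕ} (hi : i < 512) (hj : j < 512) (e : φ i = φ j) : i = j := C.hyp.inj i hi j hj e

theorem surj {x : G} (hx : x ∈ (S : Subgroup G)) : ∃ i < 512, φ i = x := C.hyp.surj x hx

theorem inv {i : ℕ} (hi : i < 512) : φ (invI i) = (φ i)⁻¹ := by
  refine eq_inv_of_mul_eq_one_right ?_
  rw [← C.mul hi (invI_spec hi).1, (invI_spec hi).2.1, C.one]

theorem conj {g a : ℕ} (hg : g < 512) (ha : a < 512) : φ (cjI g a) = φ g * φ a * (φ g)⁻¹ := by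
  rw [cjI, C.mul (mS_lt hg ha) (invI_spec hg).1, C.mul hg ha, C.inv hg]

theorem comm {a b : ℕ} (ha : a < 512) (hb : b < 512) : φ (cmI a b) = φ a * φ b * (φ a)⁻¹ * (φ b)⁻¹ := by
  rw [cmI, C.mul (mS_lt ha hb) (mS_lt (invI_spec ha).1 (invI_spec hb).1), C.mul ha hb,
    C.mul (invI_spec ha).1 (invI_spec hb).1, C.inv ha, C.inv hb, mul_assoc (φ a * φ b)]

theorem cmt_iff {a b : ℕ} (ha : a < 512) (hb : b < 512) : cmt a b = true ↔ φ a * φ b = φ b * φ a := by
  rw [← C.mul ha hb, ← C.mul hb ha, cmt, beq_iff_eq]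
  exact ⟨fun h => by rw [h], C.inj (mS_lt ha hb) (mS_lt hb ha)⟩

theorem inv2_iff {i : ℕ} (hi : i < 512) : inv2 i = true ↔ φ i * φ i = 1 := by
  rw [← C.mul hi hi, ← C.one, inv2, beq_iff_eq]
  exact ⟨fun h => by rw [h], C.inj (mS_lt hi hi) (by norm_num)⟩

theorem A_le : A ≤ (S : Subgroup G) := fun x hx => by
  obtain ⟨i, hi, rfl⟩ := (C.memA x).1 hx
  exact C.mem (by omega)

theorem memA_iff {i : ℕ} (hi : i < 512) : φ i ∈ A ↔ i < 64 := by
  refine ⟨fun h => ?_, fun h => (C.memA _).2 ⟨i, h, rfl⟩⟩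
  obtain ⟨a, ha, e⟩ := (C.memA _).1 h
  exact C.inj (by omega) hi e ▸ ha

theorem A_comm {x y : G} (hx : x ∈ A) (hy : y ∈ A) : x * y = y * x := by
  obtain ⟨a, ha, rfl⟩ := (C.memA x).1 hx
  obtain ⟨b, hb, rfl⟩ := (C.memA y).1 hy
  exact (C.cmt_iff (by omega) (by omega)).1 (xor_facts ha hb).2

theorem A_sq {x : G} (hx : x ∈ A) : x * x = 1 := by
  obtain ⟨a, ha, rfl⟩ := (C.memA x).1 hx
  refine (C.inv2_iff (by omega)).1 ?_
  rw [inv2, (xor_facts ha ha).1, show Nat.xor a a = a ^^^ a from rfl, Nat.xor_self]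
  rfl

theorem cardA : Nat.card A = 64 := by
  have h : Function.Bijective (fun i : Fin 64 => (⟨φ i, (C.memA _).2 ⟨i, i.2, rfl⟩⟩ : A)) := by
    refine ⟨fun i j e => Fin.ext (C.inj (by omega) (by omega) (congrArg Subtype.val e)), fun x => ?_⟩
    obtain ⟨i, hi, e⟩ := (C.memA _).1 x.2
    exact ⟨⟨i, hi⟩, Subtype.ext e⟩
  rw [← Nat.card_eq_of_bijective _ h, Nat.card_fin]

theorem A_two : IsPGroup 2 A := fun x => ⟨1, Subtype.ext (by
  have := C.A_sq x.2
  simpa [pow_two] using this)⟩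

theorem A_normal {s : G} (hs : s ∈ (S : Subgroup G)) {x : G} (hx : x ∈ A) : s * x * s⁻¹ ∈ A := by
  obtain ⟨g, hg, rfl⟩ := C.surj hs
  obtain ⟨a, ha, rfl⟩ := (C.memA x).1 hx
  rw [← C.conj hg (by omega), C.memA_iff (cjI_lt hg (by omega))]
  have h := normal_ok
  simp only [List.all_eq_true, List.mem_range, Nat.blt_eq] at h
  exact h g hg a ha

theorem self {s : G} (hs : s ∈ (S : Subgroup G)) (hc : ∀ x ∈ A, s * x = x * s) : s ∈ A := by
  obtain ⟨i, hi, rfl⟩ := C.surj hs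
  rw [C.memA_iff hi]
  have h := base_ok
  simp only [Bool.and_eq_true, List.all_eq_true, List.any_eq_true, List.mem_range, Bool.or_eq_true,
    Nat.blt_eq, Bool.not_eq_true', decide_eq_true_eq] at h
  refine (h.2 i hi).resolve_right ?_
  rintro ⟨a, ha, he⟩
  rw [(C.cmt_iff hi (by omega)).2 (hc _ ((C.memA _).2 ⟨a, ha, rfl⟩))] at he
  exact Bool.noConfusion he

/-- every element carrying `A` into the Sylow subgroup normalises it -/
theorem normA {g : G} (h : ∀ x ∈ A, g * x * g⁻¹ ∈ (S : Subgroup G)) : ∀ x ∈ A, g * x * g⁻¹ ∈ A := by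
  intro x hx
  have e : A.map (MulAut.conj g).toMonoidHom = A := by
    refine C.uniq _ ?_ ?_ ?_
    · rintro _ ⟨y, hy, rfl⟩; exact h y hy
    · haveI : IsMulCommutative A := ⟨⟨fun u v => Subtype.ext (C.A_comm u.2 v.2)⟩⟩
      infer_instance
    · rw [Subgroup.card_map_of_injective (MulAut.conj g).injective, C.cardA]
  exact e.le ⟨x, hx, rfl⟩

theorem mem_centS {i : ℕ} (hi : i < 512) {x : G} :
    x ∈ (S : Subgroup G) ⊓ A8ThreeClass.Cn (φ i) ↔ ∃ j ∈ cen i, φ j = x := by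
  constructor
  · rintro ⟨hx, hc⟩
    obtain ⟨j, hj, rfl⟩ := C.surj hx
    exact ⟨j, mem_cen.2 ⟨hj, (C.cmt_iff hi hj).2 (A8ThreeClass.mem_Cn.1 hc).symm⟩, rfl⟩
  · rintro ⟨j, hj, rfl⟩
    obtain ⟨hj, hc⟩ := mem_cen.1 hj
    exact ⟨C.mem hj, A8ThreeClass.mem_Cn.2 ((C.cmt_iff hi hj).1 hc).symm⟩

theorem card_centS {i : ℕ} (hi : i < 512) :
    Nat.card ↥((S : Subgroup G) ⊓ A8ThreeClass.Cn (φ i)) = (cen i).length := by
  classical
  have e : (((S : Subgroup G) ⊓ A8ThreeClass.Cn (φ i) : Subgroup G) : Set G) = φ '' ↑(cen i).toFinset := by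
    ext x
    rw [SetLike.mem_coe, C.mem_centS hi]
    simp
  rw [← SetLike.coe_sort_coe, Nat.card_coe_set_eq, e, Set.ncard_image_of_injOn, Set.ncard_coe_finset,
    List.toFinset_card_of_nodup]
  · exact List.nodup_range.filter _
  · intro a ha b hb h
    simp only [List.coe_toFinset, Set.mem_setOf_eq, mem_cen] at ha hb
    exact C.inj ha.1 hb.1 h

/-- an involution outside `A` whose centraliser has its Sylow subgroup inside `S` is not conjugate into `A` -/
theorem not_conj_A_of_into {i : ℕ} (hi : i < 512) (h64 : 64 ≤ i)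
    (hmax : Into (A8ThreeClass.Cn (φ i)) ((S : Subgroup G) ⊓ A8ThreeClass.Cn (φ i))) (g : G) :
    g * φ i * g⁻¹ ∉ A := by
  intro ha
  set a := g * φ i * g⁻¹ with had
  have hA : A.map (MulAut.conj g⁻¹).toMonoidHom ≤ A8ThreeClass.Cn (φ i) := by
    rintro _ ⟨x, hx, rfl⟩
    refine A8ThreeClass.mem_Cn.2 ?_
    have h := Commute.map (C.A_comm hx ha : Commute x a) (MulAut.conj g⁻¹).toMonoidHom
    simpa [had, mul_assoc] using h
  obtain ⟨c, hc, hcA⟩ := hmax _ hA (C.A_two.map _)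
  have hx : ∀ x ∈ A, c * g⁻¹ * x * (c * g⁻¹)⁻¹ ∈ (S : Subgroup G) ⊓ A8ThreeClass.Cn (φ i) := fun x hx => by
    have := hcA _ ⟨x, hx, rfl⟩
    simpa [mul_assoc] using this
  have hN := C.normA fun x hx' => (hx x hx').1
  have := hN a ha
  have e : c * g⁻¹ * a * (c * g⁻¹)⁻¹ = φ i := by
    calc c * g⁻¹ * a * (c * g⁻¹)⁻¹ = c * φ i * c⁻¹ := by rw [had]; group
      _ = φ i := by rw [(A8ThreeClass.mem_Cn.1 hc).eq, mul_inv_cancel_right]
  rw [e, C.memA_iff hi] at this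
  omega

end Ctx

end CfsgLib.M24Syl
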