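import Cfsg.Agent.Lib.A8ThreeClass.Closed

/-!
The strongly closed subgroup with two classes, when its centraliser only has a normal 2-complement.
-/

set_option autoImplicit false
set_option linter.style.haveILetI false
set_option linter.unusedSectionVars false
set_option linter.style.longLine false

open Cfsg
open CfsgLib.A8ThreeClass

namespace CfsgLib.M24Syl

variable {G : Type*} [Group G] [Finite G]

theorem odd_mem2 {a o c : G} (ho : o ∈ Oc a) (hca : c ∈ Cn a) (h2 : ∃ k, orderOf c = 2 ^ k)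
    (hodd : Odd (orderOf (o * c))) : o * c ∈ Oc a := by
  have key : ∀ n : ℕ, (o * c) ^ n * (c ^ n)⁻¹ ∈ Oc a := by
    intro n
    induction n with
    | zero => simp
    | succ n ih =>
      have e : (o * c) ^ (n + 1) * (c ^ (n + 1))⁻¹ = o * (c * ((o * c) ^ n * (c ^ n)⁻¹) * c⁻¹) := by
        rw [pow_succ', pow_succ']; group
      rw [e]
      exact mul_mem ho (Oc_conj hca ih)
  obtain ⟨k, hk⟩ := h2
  have h := key (2 ^ k)
  rw [← hk, pow_orderOf_eq_one, inv_one, mul_one, hk] at h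
  rcases eq_or_ne (orderOf (o * c)) 1 with h1 | h1
  · rw [orderOf_eq_one_iff.1 h1]; exact one_mem _
  obtain ⟨m, -, hm⟩ := Nat.exists_mul_mod_eq_one_of_coprime ((Nat.coprime_two_left.2 hodd).pow_left k)
    (by have := orderOf_pos (o * c); omega)
  have e : o * c = ((o * c) ^ 2 ^ k) ^ m := by
    rw [← pow_mul, ← pow_mod_orderOf, hm, pow_one]
  rw [e]
  exact pow_mem h m

/-- elements which centralise `A` split -/
theorem cent_split2 {A : Subgroup G} (hnpc : HasNormalPComplement 2 ↥(Subgroup.centralizer (A : Set G))) :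
    ∀ n ∈ Subgroup.centralizer (A : Set G), ∃ w : G, ∃ c : G, n = w * c ∧
      c ∈ Subgroup.centralizer (A : Set G) ∧ (∃ k, orderOf c = 2 ^ k) ∧
      ∀ b ∈ A, Split A b → w ∈ Oc b := by
  haveI := Fact.mk Nat.prime_two
  set K := Subgroup.centralizer (A : Set G) with hK
  obtain ⟨P, N₀, hN₀, hcp⟩ := hnpc
  haveI := hN₀
  have hq := Transfer.isPGroup_quotient_of_isComplement' hcp
  have hco := Transfer.coprime_card_of_isComplement' hcp
  intro n hn
  obtain ⟨w, hw, p, hp, e⟩ := Subgroup.mem_sup_of_normal_left.1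
    (show (⟨n, hn⟩ : K) ∈ N₀ ⊔ (P : Subgroup K) from hcp.sup_eq_top ▸ Subgroup.mem_top _)
  obtain ⟨j, hj⟩ := IsPGroup.iff_orderOf.1 P.2 ⟨p, hp⟩
  rw [← Subgroup.orderOf_coe, ← Subgroup.orderOf_coe] at hj
  refine ⟨w, p, (congrArg Subtype.val e).symm, p.2, ⟨j, hj⟩, fun b hb hsp => ?_⟩
  have hKb : K ≤ Cn b := fun x hx => mem_Cn.2 (hx b hb).symm
  set U : Subgroup G := N₀.map K.subtype with hU
  have hUb : U ≤ Cn b := (Subgroup.map_subtype_le _).trans hKb
  have hUn : ∀ m ∈ Subgroup.normalizer (A : Set G), ∀ u ∈ U, m * u * m⁻¹ ∈ U := by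
    rintro m hm _ ⟨u, hu, rfl⟩
    have hmK : m * (u : G) * m⁻¹ ∈ K := by
      intro y hy
      have hy' : m⁻¹ * y * m ∈ A := by
        simpa [mul_assoc] using (Subgroup.mem_normalizer_iff.1 (inv_mem hm) y).1 hy
      have e := u.2 _ hy'
      calc y * (m * (u : G) * m⁻¹) = m * ((m⁻¹ * y * m) * u) * m⁻¹ := by group
        _ = m * (u * (m⁻¹ * y * m)) * m⁻¹ := by rw [e]
        _ = _ := by group
    refine ⟨⟨_, hmK⟩, (Transfer.mem_iff_coprime_orderOf hco hq).2 ?_, rfl⟩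
    rw [← Subgroup.orderOf_coe]
    show (orderOf (m * (u : G) * m⁻¹)).Coprime 2
    rw [Transfer.orderOf_conj, Subgroup.orderOf_coe]
    exact Transfer.coprime_orderOf_of_mem hco hu
  set U' := U.subgroupOf (Cn b)
  set O' := oddCore ↥(Cn b)
  haveI hO' : O'.Normal := Transfer.pPrimeCore_normal 2 _
  have hJ : (U' ⊔ O').Normal := by
    refine ⟨fun x hx g => ?_⟩
    have hle : (U' ⊔ O').map (MulAut.conj g).toMonoidHom ≤ U' ⊔ O' := by
      rw [Subgroup.map_sup, sup_le_iff]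
      constructor
      · rintro _ ⟨u, hu, rfl⟩
        obtain ⟨o, ho, m, hm, hmb, hg⟩ := hsp g g.2
        obtain ⟨o', ho', rfl⟩ := ho
        have he : g * u * g⁻¹ = o' * (⟨m, hmb⟩ * u * ⟨m, hmb⟩⁻¹) * o'⁻¹ := by
          refine Subtype.ext ?_
          show (g : G) * u * (g : G)⁻¹ = (o' : G) * (m * u * m⁻¹) * (o' : G)⁻¹
          rw [hg]
          show (o' : G) * m * u * ((o' : G) * m)⁻¹ = _
          group
        show g * u * g⁻¹ ∈ _
        rw [he]
        have ho'' : o' ∈ U' ⊔ O' := Subgroup.mem_sup_right ho'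
        exact mul_mem (mul_mem ho'' (Subgroup.mem_sup_left (hUn m hm _ hu))) (inv_mem ho'')
      · rintro _ ⟨u, hu, rfl⟩
        exact Subgroup.mem_sup_right (hO'.conj_mem u hu g)
    exact hle ⟨x, hx, rfl⟩
  have hJo : (Nat.card ↥(U' ⊔ O')).Coprime 2 := by
    refine Nat.Coprime.coprime_dvd_left (SelfCent.card_sup_dvd_mul U' O') (Nat.Coprime.mul_left ?_ ?_)
    · rw [Nat.card_congr (Subgroup.subgroupOfEquivOfLe hUb).toEquiv, hU,
        Subgroup.card_map_of_injective K.subtype_injective]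
      exact hco
    · exact Transfer.pPrimeCore_coprime 2
  have hwU : (w : G) ∈ U := ⟨w, hw, rfl⟩
  exact ⟨⟨w, hUb hwU⟩, Transfer.le_pPrimeCore hJ hJo (Subgroup.mem_sup_left hwU), rfl⟩

/-- the balance condition -/
theorem balance2 {A : Subgroup G} (h2 : ∀ c ∈ A, c * c = 1)
    (hnpc : HasNormalPComplement 2 ↥(Subgroup.centralizer (A : Set G)))
    {a b : G} (ha : a ∈ A) (hb : b ∈ A) (hsp : Split A b) : Oc a ⊓ Cn b ≤ Oc b := by
  have hcomm : ∀ x ∈ A, ∀ y ∈ A, x * y = y * x := by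
    intro x hx y hy
    have hi : ∀ u ∈ A, u⁻¹ = u := fun u hu => inv_eq_of_mul_eq_one_right (h2 u hu)
    calc x * y = (x * y)⁻¹ := (hi _ (mul_mem hx hy)).symm
      _ = y⁻¹ * x⁻¹ := mul_inv_rev x y
      _ = y * x := by rw [hi x hx, hi y hy]
  rintro u ⟨hua, hub⟩
  have hodd : ∀ {v : G} {c : G}, v ∈ Oc c → Odd (orderOf v) := fun hv =>
    (Oc_card_odd _).of_dvd_nat (Subgroup.orderOf_dvd_natCard _ hv)
  obtain ⟨o, ho, n, hn, hnb, rfl⟩ := hsp u hub
  have hnA : n ∈ Subgroup.centralizer (A : Set G) := by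
    intro c hc
    have hca : c ∈ Cn a := mem_Cn.2 (hcomm c hc a ha)
    have hcb : c ∈ Cn b := mem_Cn.2 (hcomm c hc b hb)
    set c' := n * c * n⁻¹ with hc'def
    have hc' : c' ∈ A := (Subgroup.mem_normalizer_iff.1 hn c).1 hc
    have hcb' : c' ∈ Cn b := mem_Cn.2 (hcomm _ hc' b hb)
    set v := (o * n) * c * (o * n)⁻¹ * c⁻¹ with hvdef
    have hva : v ∈ Oc a := by
      have : v = (o * n) * (c * (o * n)⁻¹ * c⁻¹) := by rw [hvdef]; group
      rw [this]
      exact mul_mem hua (Oc_conj hca (inv_mem hua))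
    have hvd : v = o * (c' * o⁻¹ * c'⁻¹) * (c' * c⁻¹) := by rw [hvdef, hc'def]; group
    have ho' : o * (c' * o⁻¹ * c'⁻¹) ∈ Oc b := mul_mem ho (Oc_conj hcb' (inv_mem ho))
    have hd : c' * c⁻¹ ∈ A := mul_mem hc' (inv_mem hc)
    have hvb : v ∈ Oc b := by
      rw [hvd]
      exact odd_mem h2 ho' hd (mul_mem hcb' (inv_mem hcb)) (hvd ▸ hodd hva)
    have hdO : c' * c⁻¹ ∈ Oc b := by
      rw [hvd] at hvb
      exact (Subgroup.mul_mem_cancel_left _ ho').1 hvb
    have h1 : c' * c⁻¹ = 1 := Invol.eq_one_of_odd_of_sq (hodd hdO) (h2 _ hd)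
    have h3 : n * c * n⁻¹ = c := mul_inv_eq_one.1 h1
    exact (mul_inv_eq_iff_eq_mul.1 h3).symm
  obtain ⟨w, c, rfl, hc, hc2, hw⟩ := cent_split2 hnpc n hnA
  rw [← mul_assoc] at hua ⊢
  exact odd_mem2 (mul_mem ho (hw b hb hsp)) (mem_Cn.2 (hc b hb).symm) hc2 (hodd hua)

/-- **A strongly closed elementary abelian subgroup with two classes and controlled centralisers.** -/
theorem closed_main2 (T : Sylow 2 G) {A : Subgroup G} (h2 : ∀ c ∈ A, c * c = 1)
    (h8 : 8 ≤ Nat.card A) (hAT : A ≤ (T : Subgroup G))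
    (hsc : ∀ x ∈ A, ∀ g : G, g * x * g⁻¹ ∈ (T : Subgroup G) → g * x * g⁻¹ ∈ A)
    (hnpc : HasNormalPComplement 2 ↥(Subgroup.centralizer (A : Set G)))
    (hC : ∀ a ∈ A, a ≠ 1 → Split A a)
    (hab : ∃ a ∈ A, ∃ b ∈ A, a ≠ 1 ∧ b ≠ 1 ∧ ¬ IsConj a b) :
    ∀ g : G, ∃ o ∈ oddCore G, ∃ n ∈ Subgroup.normalizer (A : Set G), g = o * n := by
  haveI := Fact.mk Nat.prime_two
  have hcomm : ∀ x ∈ A, ∀ y ∈ A, x * y = y * x := by
    intro x hx y hy
    have hi : ∀ u ∈ A, u⁻¹ = u := fun u hu => inv_eq_of_mul_eq_one_right (h2 u hu)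
    calc x * y = (x * y)⁻¹ := (hi _ (mul_mem hx hy)).symm
      _ = y⁻¹ * x⁻¹ := mul_inv_rev x y
      _ = y * x := by rw [hi x hx, hi y hy]
  obtain ⟨hW2, hWC⟩ := Cfsg.Agent.S0217.result (p := 2) A hcomm (fun a ha => by rw [pow_two]; exact h2 a ha)
    (by norm_num; exact h8) Oc (fun a _ _ => Oc_le a)
    (fun a _ _ => by
      rw [← even_iff_two_dvd, Nat.not_even_iff_odd]; exact Oc_card_odd a)
    (fun a ha _ c hc x hx => Oc_conj (mem_Cn.2 (hcomm c hc a ha)) hx)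
    (fun a _ _ => OddOrder.odd_order_solvable (Oc_card_odd a))
    (fun a ha _ b hb hb1 => balance2 h2 hnpc ha hb (hC b hb hb1))
  set W : Subgroup G := ⨆ a : {a : G // a ∈ A ∧ a ≠ 1}, Oc (a : G) with hWdef
  have hnW : ∀ n ∈ Subgroup.normalizer (A : Set G), ∀ x ∈ W, n * x * n⁻¹ ∈ W := by
    intro n hn x hx
    have : W.map (MulAut.conj n).toMonoidHom ≤ W := by
      rw [hWdef, Subgroup.map_iSup]
      refine iSup_le fun a => ?_
      rintro _ ⟨y, hy, rfl⟩
      refine Subgroup.mem_iSup_of_mem (⟨n * a * n⁻¹, (Subgroup.mem_normalizer_iff.1 hn _).1 a.2.1,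
        fun e => a.2.2 (by simpa using conj_eq_one_iff.1 e)⟩ : {a : G // a ∈ A ∧ a ≠ 1}) ?_
      exact Oc_equiv n a hy
    exact this ⟨x, hx, rfl⟩
  set M : Subgroup G := W ⊔ Subgroup.normalizer (A : Set G) with hMdef
  have hNM : Subgroup.normalizer (A : Set G) ≤ M := le_sup_right
  have hCM : ∀ a ∈ A, a ≠ 1 → Cn a ≤ M := by
    intro a ha ha1 g hg
    obtain ⟨o, ho, n, hn, -, rfl⟩ := hC a ha ha1 g hg
    exact mul_mem (Subgroup.mem_sup_left (le_iSup (fun a : {a : G // a ∈ A ∧ a ≠ 1} => Oc (a : G))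
      ⟨a, ha, ha1⟩ ho)) (hNM hn)
  have hAN : A ≤ Subgroup.normalizer (A : Set G) := Subgroup.le_normalizer
  have hTN : (T : Subgroup G) ≤ Subgroup.normalizer (A : Set G) := by
    intro t ht
    refine Subgroup.mem_normalizer_iff.2 fun x => ⟨fun hx => hsc x hx t
      (mul_mem (mul_mem ht (hAT hx)) (inv_mem ht)), fun hx => ?_⟩
    have := hsc _ hx t⁻¹ (mul_mem (mul_mem (inv_mem ht) (hAT hx)) (by simpa using ht))
    simpa [mul_assoc] using this
  have ord : ∀ x ∈ A, x ≠ 1 → orderOf x = 2 := fun x hx h1 => Invol.orderOf_two_of_mul_self (h2 x hx) h1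
  obtain ⟨a, ha, b, hb, ha1, hb1, hnab⟩ := hab
  have key : ∀ c ∈ A, c ≠ 1 → ∀ g : G, g * c * g⁻¹ ∈ M := by
    intro c hc hc1 g
    obtain ⟨d, hd, hd1, hnd⟩ : ∃ d ∈ A, d ≠ 1 ∧ ¬ IsConj (g * c * g⁻¹) d := by
      by_cases h : IsConj (g * c * g⁻¹) a
      · exact ⟨b, hb, hb1, fun h' => hnab (h.symm.trans h')⟩
      · exact ⟨a, ha, ha1, h⟩
    set x := g * c * g⁻¹ with hx
    have hx2 : orderOf x = 2 := Invol.conj_orderOf_two (ord c hc hc1) g
    have hd2 := ord d hd hd1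
    have hev := Invol.even_of_not_isConj hx2 hd2 hnd
    set j := Invol.centralInvol x d with hjdef
    have hjd := Invol.centralInvol_comm_right hx2 hd2 hev
    have hjx := Invol.centralInvol_comm_left hx2 hd2 hev
    have hj2 := Invol.orderOf_centralInvol x d hev
    obtain ⟨e, he, he1, g₂, hg₂⟩ : ∃ e ∈ A, e ≠ 1 ∧ ∃ g₂ : G, g₂ * e * g₂⁻¹ = x * j := by
      rcases Invol.left_mul_centralInvol_isConj hx2 hd2 hev with h | h
      · obtain ⟨u, hu⟩ := isConj_iff.1 h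
        exact ⟨c, hc, hc1, u * g, by rw [← hu, hx]; group⟩
      · obtain ⟨u, hu⟩ := isConj_iff.1 h
        exact ⟨d, hd, hd1, u, hu⟩
    have hxj2 : orderOf (x * j) = 2 := hg₂ ▸ Invol.conj_orderOf_two (ord e he he1) g₂
    have hcm : Commute x (x * j) := (Commute.refl x).mul_right hjx.symm
    have hP : IsPGroup 2 ↥(Subgroup.zpowers x ⊔ Subgroup.zpowers (x * j)) := by
      refine IsPGroup.to_sup_of_normal_right' (Transfer.isPGroup_zpowers ⟨1, by rw [hx2]; rfl⟩)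
        (Transfer.isPGroup_zpowers ⟨1, by rw [hxj2]; rfl⟩) ?_
      rw [Subgroup.zpowers_le]
      refine mem_normalizer_of_conj fun y hy => ?_
      obtain ⟨k, rfl⟩ := Subgroup.mem_zpowers_iff.1 hy
      rw [((hcm).zpow_right k).eq, mul_inv_cancel_right]
      exact Subgroup.zpow_mem_zpowers _ k
    obtain ⟨T', hT'⟩ := hP.exists_le_sylow
    obtain ⟨h, hh⟩ := MulAction.exists_smul_eq G T T'
    have hmem : ∀ y ∈ (T' : Subgroup G), h⁻¹ * y * h ∈ (T : Subgroup G) := by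
      intro y hy
      rw [← hh] at hy
      obtain ⟨t, ht, rfl⟩ := hy
      convert ht using 1
      simp [mul_assoc]
      rfl
    have h1 : h⁻¹ * x * h ∈ A := by
      have e1 : h⁻¹ * x * h = (h⁻¹ * g) * c * (h⁻¹ * g)⁻¹ := by rw [hx]; group
      rw [e1]
      exact hsc c hc _ (e1 ▸ hmem x (hT' (Subgroup.mem_sup_left (Subgroup.mem_zpowers x))))
    have h3 : h⁻¹ * (x * j) * h ∈ A := by
      have e1 : h⁻¹ * (x * j) * h = (h⁻¹ * g₂) * e * (h⁻¹ * g₂)⁻¹ := by rw [← hg₂]; group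
      rw [e1]
      exact hsc e he _ (e1 ▸ hmem _ (hT' (Subgroup.mem_sup_right (Subgroup.mem_zpowers _))))
    have hjA : h⁻¹ * j * h ∈ A := by
      have e1 : h⁻¹ * j * h = (h⁻¹ * x * h)⁻¹ * (h⁻¹ * (x * j) * h) := by group
      rw [e1]; exact mul_mem (inv_mem h1) h3
    have hjM : j ∈ M := hCM d hd hd1 (mem_Cn.2 hjd)
    -- a conjugate of `j` inside `M` lies in `A`
    have hTM : (T : Subgroup G) ≤ M := hTN.trans hNM
    have hjP : IsPGroup 2 ↥((Subgroup.zpowers j).subgroupOf M) :=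
      (Transfer.isPGroup_zpowers (⟨1, by rw [hj2]; rfl⟩ : ∃ k : ℕ, orderOf j = 2 ^ k)).comap_subtype
    obtain ⟨R, hR⟩ := hjP.exists_le_sylow
    obtain ⟨m, hm⟩ := MulAction.exists_smul_eq M R (T.subtype hTM)
    have hjT : (m : G) * j * (m : G)⁻¹ ∈ (T : Subgroup G) := by
      have : m * ⟨j, hjM⟩ * m⁻¹ ∈ (T.subtype hTM : Subgroup M) := by
        rw [← hm]
        exact ⟨⟨j, hjM⟩, hR (Subgroup.mem_zpowers j), rfl⟩
      exact this
    have hjA2 : (m : G) * j * (m : G)⁻¹ ∈ A := by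
      have e1 : (m : G) * j * (m : G)⁻¹ = ((m : G) * h) * (h⁻¹ * j * h) * ((m : G) * h)⁻¹ := by group
      rw [e1]
      exact hsc _ hjA _ (e1 ▸ hjT)
    have hne : (m : G) * j * (m : G)⁻¹ ≠ 1 := fun e1 => Invol.ne_one_of_orderOf_two hj2 (conj_eq_one_iff.1 e1)
    have hxm : (m : G) * x * (m : G)⁻¹ ∈ M := hCM _ hjA2 hne (mem_Cn.2 (hjx.symm.map (MulAut.conj (m : G)).toMonoidHom))
    have := mul_mem (mul_mem (inv_mem m.2) hxm) m.2
    simpa [mul_assoc] using this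
  -- the normal closure and the Frattini argument
  set L := Subgroup.normalClosure (A : Set G) with hL
  have hLM : L ≤ M := by
    refine (Subgroup.closure_le M).2 fun y hy => ?_
    obtain ⟨c, hc, hcy⟩ := Group.mem_conjugatesOfSet_iff.1 hy
    obtain ⟨g, rfl⟩ := isConj_iff.1 hcy
    rcases eq_or_ne c 1 with rfl | hc1
    · simp
    · exact key c hc hc1 g
  haveI : L.Normal := Subgroup.normalClosure_normal
  have hMtop : M = ⊤ := by
    rw [eq_top_iff]
    intro g _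
    obtain ⟨Q, hQ⟩ : ∃ Q : Sylow 2 L, (Q : Subgroup L) = (T : Subgroup G).subgroupOf L := by
      obtain ⟨Q, hQ⟩ := (T.2.comap_subtype (K := L)).exists_le_sylow
      obtain ⟨T', hT'⟩ := (Q.2.map L.subtype).exists_le_sylow
      obtain ⟨u, hu⟩ := MulAction.exists_smul_eq G T T'
      refine ⟨Q, (Subgroup.eq_of_le_of_card_ge hQ ?_).symm⟩
      let f : ↥(Q : Subgroup L) → ↥((T : Subgroup G).subgroupOf L) := fun y => ⟨⟨u⁻¹ * ((y : L) : G) * u,
        by simpa using (inferInstance : L.Normal).conj_mem _ (y : L).2 u⁻¹⟩, by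
          have hy : ((y : L) : G) ∈ (T' : Subgroup G) := hT' ⟨y, y.2, rfl⟩
          rw [← hu] at hy
          obtain ⟨t, ht, e⟩ := hy
          show u⁻¹ * ((y : L) : G) * u ∈ (T : Subgroup G)
          rw [← e]; convert ht using 1; simp [mul_assoc]; rfl⟩
      exact Nat.card_le_card_of_injective f fun y₁ y₂ e => Subtype.ext (Subtype.ext
        (mul_left_cancel (a := u⁻¹) (mul_right_cancel (b := u)
          (congrArg (fun z : ↥((T : Subgroup G).subgroupOf L) => ((z : L) : G)) e))))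
    have := Sylow.normalizer_sup_eq_top Q
    obtain ⟨n, hn, l, hl, rfl⟩ := Subgroup.mem_sup_of_normal_right.1
      (this ▸ Subgroup.mem_top g)
    refine mul_mem (hNM ?_) (hLM hl)
    have hn' : ∀ x ∈ A, n * x * n⁻¹ ∈ A := fun x hx => hsc x hx n (by
      have hxQ : x ∈ (Q : Subgroup L).map L.subtype := by
        rw [hQ]; exact ⟨⟨x, Subgroup.subset_normalClosure hx⟩, hAT hx, rfl⟩
      have h := (Subgroup.mem_normalizer_iff.1 hn x).1 hxQ
      rw [hQ] at h
      obtain ⟨y, hy, e⟩ := h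
      rw [← e]; exact hy)
    exact mem_normalizer_of_conj hn' 
  haveI hWn : W.Normal := ⟨fun x hx g => by
    have : (⊤ : Subgroup G) ≤ Subgroup.normalizer (W : Set G) := by
      rw [← hMtop]
      refine sup_le Subgroup.le_normalizer fun n hn => ?_
      exact mem_normalizer_of_conj (hnW n hn)
    exact (Subgroup.mem_normalizer_iff.1 (this (Subgroup.mem_top g)) x).1 hx⟩
  intro g
  obtain ⟨o, ho, n, hn, rfl⟩ := Subgroup.mem_sup_of_normal_left.1
    (show g ∈ W ⊔ Subgroup.normalizer (A : Set G) from hMdef ▸ hMtop ▸ Subgroup.mem_top g)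
  refine ⟨o, Transfer.le_pPrimeCore hWn ?_ ho, n, hn, rfl⟩
  exact ((Nat.prime_two.coprime_iff_not_dvd).2 hW2).symm

end CfsgLib.M24Syl
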