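import Cfsg.Agent.Lib.M24Syl.LStep

/-!
The involutions with centraliser of order 64 are not conjugate into the abelian subgroup, which is therefore
strongly closed.
-/

set_option autoImplicit false
set_option linter.style.haveILetI false
set_option linter.unusedSectionVars false
set_option linter.style.longLine false

open Cfsg
open CfsgLib.A8ThreeClass (Cn mem_Cn mem_normalizer_of_conj)

namespace CfsgLib.M24Syl

variable {G : Type*} [Group G] [Finite G] {S : Sylow 2 G} {A : Subgroup G} {φ : ℕ → G}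

/-- the facts on a centraliser of order 64 -/
theorem e_facts {i : ℕ} (hi : i < 512) (he : isE i = true) :
    64 ≤ i ∧ inv2 i = true ∧ (cen i).length = 64 ∧ ∃ k < 4, ∃ s < 512, ∃ w ∈ wSet k, mS s w = i ∧
      cen i = cen s ∧ tEl k ∈ cen i ∧
      (∀ z, (z ∈ wSet k ∨ ∃ u ∈ wSet k, mS s u = z) →
        z ∈ pSet k ∧ z ∈ cen i ∧ (∀ x ∈ cen i, cmt z x = true) ∧ z ≠ tEl k ∧ mS (tEl k) z ∈ pSet k) ∧
      (∀ z ∈ cen i, (∀ x ∈ cen i, cmt z x = true) → z ∈ wSet k ∨ ∃ u ∈ wSet k, mS s u = z) ∧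
      (∀ p ∈ pSet k, ∃ z, (z ∈ wSet k ∨ ∃ u ∈ wSet k, mS s u = z) ∧ (p = z ∨ p = mS (tEl k) z)) ∧
      (∃ a ∈ cen i, ∃ b ∈ cen i, cmI a b = vEl k) ∧ (∀ a ∈ cen i, ∀ b ∈ cen i, inV k (cmI a b) = true) ∧
      (∀ j ∈ cen i, 64 ≤ j → inv2 j = true → (j ∈ wSet k ∨ ∃ u ∈ wSet k, mS s u = j) ∨ j ∈ pSet k ∨
        ∀ u ∈ wSet k, mS j (mS s u) < 64) := by
  have h : (64 ≤ i ∧ i / 64 ≠ 7) ∧ inv2 i = true := by
    simpa [isE, Nat.ble_eq] using he
  obtain ⟨⟨h64, h7⟩, hinv⟩ := h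
  have hc := count_ok
  simp only [List.all_eq_true, List.mem_range, Bool.or_eq_true, Bool.and_eq_true, Bool.not_eq_true',
    Bool.and_eq_false_iff, Nat.blt_eq, beq_iff_eq] at hc
  obtain ⟨h1, -⟩ := (hc i hi).resolve_left (by
    rintro (e | e)
    · rw [Nat.ble_eq_true_of_le h64] at e; exact Bool.noConfusion e
    · rw [hinv] at e; exact Bool.noConfusion e)
  have hT : isT i = false := by simp [isT, h7]
  rw [hT] at h1
  simp only [Bool.false_eq_true, if_false] at h1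
  refine ⟨h64, hinv, h1, ?_⟩
  have hcov := ecover_ok
  simp only [List.all_eq_true, List.any_eq_true, List.mem_range, Bool.or_eq_true, Bool.not_eq_true',
    beq_iff_eq] at hcov
  obtain ⟨k, hk, s, hs, w, hw, hsw⟩ := (hcov i hi).resolve_left (by rw [he]; simp)
  have hs5 : s < 512 := by
    have h5 : ∀ k < 4, ∀ s ∈ sEls k, s < 512 := by decide
    exact h5 k hk s hs
  have hchk := echk_ok
  simp only [List.all_eq_true, List.mem_range] at hchk
  have hchk := hchk k hk s hs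
  simp only [eChk, Bool.and_eq_true, List.all_eq_true, List.any_eq_true, List.contains_eq_mem, decide_eq_true_eq,
    Bool.or_eq_true, Bool.not_eq_true', beq_iff_eq, beq_eq_false_iff_ne, Bool.and_eq_false_iff, List.mem_range,
    List.mem_append, List.mem_map, Nat.blt_eq] at hchk
  obtain ⟨⟨⟨⟨⟨⟨⟨⟨⟨c1, c2⟩, c3⟩, c4⟩, c5⟩, c6⟩, c7⟩, c8⟩, c9⟩, c10⟩ := hchk
  have hcen : cen i = cen s := by
    refine List.filter_congr fun j hj => ?_
    rw [← hsw]
    exact c1 w hw j (List.mem_range.1 hj)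
  rw [hcen]
  refine ⟨k, hk, s, hs5, w, hw, hsw, rfl, c2,
    fun z hz => ⟨(c3 z hz).1, (c3 z hz).2, c5 z hz, (c7 z hz).1, (c7 z hz).2⟩,
    fun z hz hzc => (c4 z hz).resolve_left (fun hne => ?_), c6, c8, c9, fun j hj h64 hj2 => ?_⟩
  · rw [List.all_eq_true.2 hzc] at hne; exact Bool.noConfusion hne
  rcases c10 j hj with ((h | h) | h) | h
  · rcases h with h | h
    · rw [Nat.ble_eq_true_of_le h64] at h; exact Bool.noConfusion h
    · rw [hj2] at h; exact Bool.noConfusion h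
  · exact Or.inl h
  · exact Or.inr (Or.inl h)
  · exact Or.inr (Or.inr fun u hu => h _ ⟨u, hu, rfl⟩)

namespace Ctx

variable (C : Ctx S A φ)
include C

theorem e_not_conj {i : ℕ} (hi : i < 512) (he : isE i = true) (g : G) : g * φ i * g⁻¹ ∉ A := by
  obtain ⟨h64, hinv, hlen, k, hk, s0, hs5, w0, hw0, hsw, hcen, htc, hZ, hZconv, hPdec, ⟨va, hva, vb, hvb, hvab⟩,
    hXV, hjcase⟩ := e_facts hi he
  obtain ⟨h1, h0, hv, hWm, hT, hp, -⟩ := pw_facts hk
  set s := φ i with hsdef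
  set X := (S : Subgroup G) ⊓ Cn s with hXdef
  rcases into_or_grow (H := Cn s) (X := X) inf_le_right (S.2.to_le inf_le_left) with hmax | ⟨y, hyH, hyX, hyn, hY2⟩
  · exact C.not_conj_A_of_into hi h64 hmax g
  intro hgA
  obtain ⟨P, hP, hPn⟩ := C.exists_P hk
  obtain ⟨W, hW, hWn⟩ := C.exists_W hk
  have hw5 : ∀ u ∈ wSet k, u < 512 := fun u hu => by have := (h1 u hu).1; omega
  have ht5 : tEl k < 512 := (mem_cen.1 htc).1
  have hmX : ∀ j ∈ cen i, φ j ∈ X := fun j hj => (C.mem_centS hi).2 ⟨j, hj, rfl⟩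
  have hxX : ∀ {x : G}, x ∈ X → ∃ j ∈ cen i, j < 512 ∧ φ j = x := fun hx => by
    obtain ⟨j, hj, e⟩ := (C.mem_centS hi).1 hx
    exact ⟨j, hj, (mem_cen.1 hj).1, e⟩
  have hyi : ∀ u ∈ X, y⁻¹ * u * y ∈ X := fun u hu => by
    simpa using (Subgroup.mem_normalizer_iff.1 (inv_mem (mem_normalizer_of_conj hyn)) u).1 hu
  -- `y` preserves the centre of `X`
  have hZX : ∀ z, (z ∈ wSet k ∨ ∃ u ∈ wSet k, mS s0 u = z) →
      ∃ z', (z' ∈ wSet k ∨ ∃ u ∈ wSet k, mS s0 u = z') ∧ z' < 512 ∧ φ z' = y * φ z * y⁻¹ := by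
    intro z hz
    obtain ⟨-, hzc, hzcm, -, -⟩ := hZ z hz
    have hz5 := (mem_cen.1 hzc).1
    obtain ⟨z', hz', hz'5, e⟩ := hxX (hyn _ (hmX z hzc))
    refine ⟨z', hZconv z' hz' fun x hx => ?_, hz'5, e⟩
    obtain ⟨u, hu, hu5, eu⟩ := hxX (hyi _ (hmX x hx))
    refine (C.cmt_iff hz'5 (mem_cen.1 hx).1).2 ?_
    have h := (C.cmt_iff hz5 hu5).1 (hzcm u hu)
    have ex : φ x = y * φ u * y⁻¹ := by rw [eu]; group
    rw [e, ex]
    calc y * φ z * y⁻¹ * (y * φ u * y⁻¹) = y * (φ z * φ u) * y⁻¹ := by group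
      _ = y * (φ u * φ z) * y⁻¹ := by rw [h]
      _ = _ := by group
  have hyv : y ∈ Cn (φ (vEl k)) := by
    have ha5 := (mem_cen.1 hva).1
    have hb5 := (mem_cen.1 hvb).1
    obtain ⟨a', ha', ha'5, ea⟩ := hxX (hyn _ (hmX va hva))
    obtain ⟨b', hb', hb'5, eb⟩ := hxX (hyn _ (hmX vb hvb))
    have e : φ (cmI a' b') = y * φ (vEl k) * y⁻¹ := by
      rw [C.comm ha'5 hb'5, ea, eb, ← hvab, C.comm ha5 hb5]; group
    have h := hXV a' ha' b' hb'
    simp only [inV, Bool.or_eq_true, beq_iff_eq] at h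
    rcases h with h | h
    · rw [h, C.one, eq_comm, conj_eq_one_iff, ← C.one] at e
      have := C.inj (hw5 _ hv) (by norm_num) e
      unfold vEl at this
      split_ifs at this
    · rw [h] at e
      exact mem_Cn.2 (mul_inv_eq_iff_eq_mul.1 e.symm)
  -- the image of the involution with large centraliser
  obtain ⟨j, hj, hj5, ej⟩ := hxX (hyn _ (hmX _ htc))
  have htt : φ (tEl k) * φ (tEl k) = 1 := (C.inv2_iff ht5).1 (C.t_facts ht5 hT).2.1
  have hj2 : inv2 j = true := by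
    rw [C.inv2_iff hj5, ej, show y * φ (tEl k) * y⁻¹ * (y * φ (tEl k) * y⁻¹) = y * (φ (tEl k) * φ (tEl k)) * y⁻¹ by group,
      htt]
    group
  have hj64 : 64 ≤ j := by
    by_contra h
    exact C.t_not_conj ht5 hT y (ej ▸ (C.memA_iff hj5).2 (by omega))
  have hjZ : ¬(j ∈ wSet k ∨ ∃ u ∈ wSet k, mS s0 u = j) := by
    intro hjz
    obtain ⟨-, -, hjcm, -, -⟩ := hZ j hjz
    refine (hZ (tEl k) (hZconv _ htc fun x hx => ?_)).2.2.2.1 rfl
    obtain ⟨u, hu, hu5, eu⟩ := hxX (hyn _ (hmX x hx))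
    refine (C.cmt_iff ht5 (mem_cen.1 hx).1).2 ?_
    have h := (C.cmt_iff hj5 hu5).1 (hjcm u hu)
    rw [ej, eu] at h
    have h' : y * (φ (tEl k) * φ x) * y⁻¹ = y * (φ x * φ (tEl k)) * y⁻¹ := by
      simpa [mul_assoc] using h
    exact mul_left_cancel (mul_right_cancel h')
  have hyW : ∀ x ∈ W, y * x * y⁻¹ ∈ W := by
    rcases (hjcase j hj hj64 hj2).resolve_left hjZ with hjP | hjA
    · refine C.norm_W hk hP hPn hW hWn (fun x hx => ?_) hyv
      have hzP : ∀ z, (z ∈ wSet k ∨ ∃ u ∈ wSet k, mS s0 u = z) → y * φ z * y⁻¹ ∈ P := fun z hz => by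
        obtain ⟨z', hz', -, e⟩ := hZX z hz
        exact e ▸ (hP _).2 ⟨z', (hZ z' hz').1, rfl⟩
      obtain ⟨p, hp', rfl⟩ := (hP x).1 hx
      obtain ⟨z, hz, e | e⟩ := hPdec p hp'
      · rw [e]; exact hzP z hz
      · rw [e, C.mul ht5 (mem_cen.1 (hZ z hz).2.1).1, show y * (φ (tEl k) * φ z) * y⁻¹ =
          (y * φ (tEl k) * y⁻¹) * (y * φ z * y⁻¹) by group]
        exact mul_mem ((hP _).2 ⟨j, hjP, ej⟩) (hzP z hz)
    · intro x hx
      obtain ⟨u, hu, rfl⟩ := (hW x).1 hx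
      obtain ⟨z', hz', hz'5, e⟩ := hZX u (Or.inl hu)
      rcases hz' with hz' | ⟨u', hu', rfl⟩
      · exact (hW _).2 ⟨z', hz', e⟩
      · exfalso
        refine C.t_not_conj (mS_lt ht5 (hw5 u hu)) (h1 u hu).2.2 y ?_
        have e' : y * φ (mS (tEl k) u) * y⁻¹ = φ (mS j (mS s0 u')) := by
          rw [C.mul ht5 (hw5 u hu), C.mul hj5 hz'5, e, ej]; group
        rw [e']
        exact (C.memA_iff (mS_lt hj5 hz'5)).2 (hjA u' hu')
  -- move the larger group into the Sylow subgroup inside the normaliser of `W`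
  set N := Subgroup.normalizer (W : Set G) with hN
  have hSN : (S : Subgroup G) ≤ N := fun u hu => mem_normalizer_of_conj (hWn u hu)
  have hYN : X ⊔ Subgroup.zpowers y ≤ N :=
    sup_le (inf_le_left.trans hSN) (Subgroup.zpowers_le.2 (mem_normalizer_of_conj hyW))
  have hY : X ⊔ Subgroup.zpowers y ≤ Cn s := sup_le inf_le_right (Subgroup.zpowers_le.2 hyH)
  obtain ⟨h, hh, hhY⟩ := into_of_sylow S hSN _ hYN hY2
  have hsX : s ∈ X := ⟨C.mem hi, mem_Cn.2 (Commute.refl _)⟩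
  obtain ⟨l, hl, el⟩ := C.surj (hhY s (Subgroup.mem_sup_left hsX))
  have hcount : 64 < (cen l).length := by
    rw [← hlen, ← C.card_centS hi, ← C.card_centS hl]
    refine (card_lt_of_grow hyX).trans_le (card_le_of_conj_mem (c := h) fun u hu => ⟨hhY u hu, ?_⟩)
    rw [el]
    exact mem_Cn.2 ((mem_Cn.1 (hY hu)).map (MulAut.conj h).toMonoidHom)
  have hl2 : inv2 l = true := by
    rw [C.inv2_iff hl, el, show h * s * h⁻¹ * (h * s * h⁻¹) = h * (s * s) * h⁻¹ by group,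
      (C.inv2_iff hi).1 hinv]
    group
  rcases inv2_invol_cases hl2 with hlA | hlT | hlE
  swap
  · refine C.t_not_conj hl hlT (g * h⁻¹) ?_
    rw [el]
    simpa [mul_assoc] using hgA
  swap
  · have := (e_facts hl hlE).2.2.1
    omega
  -- the centraliser of `W`
  set H := Subgroup.centralizer (W : Set G) with hHdef
  set P2 := (S : Subgroup G) ⊓ H with hP2
  have hP22 : IsPGroup 2 P2 := S.2.to_le inf_le_left
  have hHN : H ≤ N := fun u hu => mem_normalizer_of_conj fun x hx => by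
    rw [← hu x hx, mul_inv_cancel_right]; exact hx
  have hWA : W ≤ A := fun x hx => by
    obtain ⟨u, hu, rfl⟩ := (hW x).1 hx
    exact (C.memA_iff (hw5 u hu)).2 (h1 u hu).1
  have hAP : A ≤ P2 := fun x hx => ⟨C.A_le hx, fun u hu => C.A_comm (hWA hu) hx⟩
  have hHn : ∀ u ∈ N, ∀ x ∈ H, u * x * u⁻¹ ∈ H := by
    intro u hu x hx z hz
    have hz' : u⁻¹ * z * u ∈ W := by
      simpa using (Subgroup.mem_normalizer_iff.1 (inv_mem hu) z).1 hz
    have e := hx _ hz'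
    calc z * (u * x * u⁻¹) = u * ((u⁻¹ * z * u) * x) * u⁻¹ := by group
      _ = u * (x * (u⁻¹ * z * u)) * u⁻¹ := by rw [e]
      _ = _ := by group
  have hi2 : Into H P2 := into_of_card inf_le_right hP22 fun Q hQ hQ2 => by
    obtain ⟨c, hc, hcQ⟩ := into_of_sylow S hSN Q (hQ.trans hHN) hQ2
    exact card_le_of_conj_mem fun x hx => ⟨hcQ x hx, hHn c hc x (hQ hx)⟩
  obtain ⟨c, hc, hcP⟩ := hi2 (P2.map (MulAut.conj h).toMonoidHom)
    (by rintro _ ⟨x, hx, rfl⟩; exact hHn h hh x hx.2) (hP22.map _)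
  have hn : ∀ x ∈ P2, c * h * x * (c * h)⁻¹ ∈ P2 := fun x hx => by
    have := hcP _ ⟨x, hx, rfl⟩
    simpa [mul_assoc] using this
  have hnA := C.normA fun x hx => (hn x (hAP hx)).1
  have hsH : s ∈ H := by
    intro x hx
    obtain ⟨u, hu, rfl⟩ := (hW x).1 hx
    have hzc := (hZ u (Or.inl hu)).2.1
    exact ((C.cmt_iff hi (hw5 u hu)).1 (mem_cen.1 hzc).2).symm
  have hsP : c * h * s * (c * h)⁻¹ ∈ P2 := hn s ⟨C.mem hi, hsH⟩
  have hxA : h * s * h⁻¹ ∈ A := el ▸ (C.memA_iff hl).2 hlA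
  have hder : ∀ u ∈ P2, ∀ x ∈ P2, u * x * u⁻¹ * x⁻¹ ∈ W := by
    intro u hu x hx
    obtain ⟨a, ha, rfl⟩ := C.surj hu.1
    obtain ⟨b, hb, rfl⟩ := C.surj hx.1
    rw [← C.comm ha hb]
    have hcw : ∀ {a : ℕ}, a < 512 → φ a ∈ H → cW k a = true := fun {a} ha haH => by
      simp only [cW, List.all_eq_true]
      exact fun z hz => (C.cmt_iff ha (hw5 z hz)).2 (haH _ ((hW _).2 ⟨z, hz, rfl⟩)).symm
    have hk2 : ∃ k' ∈ [0, 2], wSet k' = wSet k ∧ ∀ a, cW k' a = cW k a := by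
      by_cases h2 : k < 2
      · exact ⟨0, by simp, by simp [wSet, h2], fun a => by simp [cW, wSet, h2]⟩
      · exact ⟨2, by simp, by simp [wSet, h2], fun a => by simp [cW, wSet, h2]⟩
    obtain ⟨k', hk', hwk, hck⟩ := hk2
    have hcwok := cw_ok
    simp only [List.all_eq_true, List.mem_filter, List.mem_range, List.contains_eq_mem, decide_eq_true_eq] at hcwok
    refine (hW _).2 ⟨_, hwk ▸ hcwok k' hk' a ⟨ha, ?_⟩ b ⟨hb, ?_⟩, rfl⟩
    · rw [hck]; exact hcw ha hu.2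
    · rw [hck]; exact hcw hb hx.2
  have hxP : h * s * h⁻¹ ∈ P2 := hAP hxA
  have e0 : c * (h * s * h⁻¹) * c⁻¹ = c * h * s * (c * h)⁻¹ := by group
  obtain ⟨n, -, hn2, hn'⟩ := burnside_mod (H := H) (Z := W) inf_le_right hP22 hi2
    (fun z hz u hu => hu z hz) (x := h * s * h⁻¹) (c := c) hc
    (fun u hu => hder u hu _ hxP) (fun u hu => by rw [e0]; exact hder u hu _ hsP)
  rw [e0] at hn'
  have hnA2 := C.normA fun x hx => (hn2 x (hAP hx)).1
  have hA1 : n * (c * h * s * (c * h)⁻¹) * n⁻¹ ∈ A := by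
    have h0 := mul_mem (hWA hn') hxA
    rwa [inv_mul_cancel_right] at h0
  have hA2 : c * h * s * (c * h)⁻¹ ∈ A :=
    (Subgroup.mem_normalizer_iff.1 (mem_normalizer_of_conj hnA2) _).2 hA1
  have hA3 : s ∈ A := (Subgroup.mem_normalizer_iff.1 (mem_normalizer_of_conj hnA) _).2 hA2
  rw [C.memA_iff hi] at hA3
  omega

/-- **The abelian subgroup is strongly closed in the Sylow subgroup.** -/
theorem closed {x : G} (hx : x ∈ A) {g : G} (hg : g * x * g⁻¹ ∈ (S : Subgroup G)) : g * x * g⁻¹ ∈ A := by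
  obtain ⟨i, hi, e⟩ := C.surj hg
  have hi2 : inv2 i = true := by
    rw [C.inv2_iff hi, e, show g * x * g⁻¹ * (g * x * g⁻¹) = g * (x * x) * g⁻¹ by group, C.A_sq hx]
    group
  have hback : g⁻¹ * φ i * g⁻¹⁻¹ ∈ A := by
    rw [e]; simpa [mul_assoc] using hx
  rcases inv2_invol_cases hi2 with h | h | h
  · exact e ▸ (C.memA_iff hi).2 h
  · exact absurd hback (C.t_not_conj hi h g⁻¹)
  · exact absurd hback (C.e_not_conj hi h g⁻¹)

end Ctx

end CfsgLib.M24Syl
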