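import Cfsg.Agent.Lib.M24Syl.Aut

/-!
No pointwise stabiliser is transitive on a quotient of rank at least two.
-/

set_option autoImplicit false
set_option linter.style.haveILetI false
set_option linter.unusedSectionVars false
set_option linter.style.longLine false

open Cfsg
open CfsgLib.A8ThreeClass (mem_normalizer_of_conj)
open Equiv

namespace CfsgLib.M24Syl

/-- closed under addition -/
def Clo (U : Finset (Fin 64)) : Prop := (0 : Fin 64) ∈ U ∧ ∀ a ∈ U, ∀ b ∈ U, xr a b ∈ U

namespace AM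

variable {M : Subgroup (Perm (Fin 64))} (h : AM M)
include h

theorem fix_xr {g : Perm (Fin 64)} (hg : g ∈ M) {a b : Fin 64} (ha : g a = a) (hb : g b = b) :
    g (xr a b) = xr a b := by rw [h.lin g hg, ha, hb]

/-- the bound for an element of order three cycling a four group -/
theorem cyc_bound {y e : Perm (Fin 64)} (hy : y ∈ M) (he : e ∈ M) (hc : Cyc y e) :
    (fixF y ∩ fixF e).card ≤ 2 ∧ (fixF y).card ≤ 8 := by
  classical
  obtain ⟨he2, he1, hne, hcyc, hcom⟩ := hc
  set e' := y * e * y⁻¹ with he'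
  have he'M : e' ∈ M := mul_mem (mul_mem hy he) (inv_mem hy)
  have he'2 : e' * e' = 1 := by rw [he', show y * e * y⁻¹ * (y * e * y⁻¹) = y * (e * e) * y⁻¹ by group, he2]; group
  have hP : IsPGroup 2 ↥(Subgroup.zpowers e ⊔ Subgroup.zpowers e') := by
    refine (Transfer.isPGroup_zpowers ⟨1, ?_⟩).to_sup_of_normal_right' (Transfer.isPGroup_zpowers ⟨1, ?_⟩) ?_
    · rw [Invol.orderOf_two_of_mul_self he2 he1]; rfl
    · rw [Invol.orderOf_two_of_mul_self he'2 (fun e0 => he1 (conj_eq_one_iff.1 e0))]; rfl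
    · rw [Subgroup.zpowers_le]
      refine mem_normalizer_of_conj fun u hu => ?_
      obtain ⟨k, rfl⟩ := Subgroup.mem_zpowers_iff.1 hu
      rw [((show Commute e e' from hcom).zpow_right k).eq, mul_inv_cancel_right]
      exact Subgroup.zpow_mem_zpowers _ k
  obtain ⟨c, hc, hcD⟩ := h.syl _ (sup_le (Subgroup.zpowers_le.2 he) (Subgroup.zpowers_le.2 he'M)) hP
  obtain ⟨d, hd⟩ := mem_DG.1 (hcD e (Subgroup.mem_sup_left (Subgroup.mem_zpowers e)))
  obtain ⟨d', hd'⟩ := mem_DG.1 (hcD e' (Subgroup.mem_sup_right (Subgroup.mem_zpowers e')))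
  have hp : d ≠ 0 ∧ d' ≠ 0 ∧ d ≠ d' ∧ md d d' = md d' d ∧ md d d = 0 ∧ md d' d' = 0 := by
    refine ⟨?_, ?_, ?_, dl_inj ?_, dl_inj ?_, dl_inj ?_⟩
    · rintro rfl; rw [dl_one, eq_comm, conj_eq_one_iff] at hd; exact he1 hd
    · rintro rfl; rw [dl_one, eq_comm, conj_eq_one_iff, he', conj_eq_one_iff] at hd'; exact he1 hd'
    · rintro rfl; exact hne (mul_left_cancel (mul_right_cancel (hd'.symm.trans hd)))
    · rw [dl_mul, dl_mul, hd, hd', show c * e * c⁻¹ * (c * e' * c⁻¹) = c * (e * e') * c⁻¹ by group, hcom]; group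
    · rw [dl_mul, dl_one, hd, show c * e * c⁻¹ * (c * e * c⁻¹) = c * (e * e) * c⁻¹ by group, he2]; group
    · rw [dl_mul, dl_one, hd', show c * e' * c⁻¹ * (c * e' * c⁻¹) = c * (e' * e') * c⁻¹ by group, he'2]; group
  have hcomd : comF (dl d) = (comF e).image c ∧ comF (dl d') = (comF e').image c ∧
      comF (dl (md d d')) = (comF (e * e')).image c := by
    refine ⟨by rw [hd]; exact h.com_image hc e, by rw [hd']; exact h.com_image hc e', ?_⟩
    rw [← h.com_image hc, show c * (e * e') * c⁻¹ = c * e * c⁻¹ * (c * e' * c⁻¹) by group, ← hd, ← hd', ← dl_mul]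
  have himg1 : comF e' = (comF e).image y := h.com_image hy e
  have himg2 : comF (e * e') = (comF e').image y := by rw [← h.com_image hy, hcyc]
  have himg3 : comF e = (comF (e * e')).image y := by
    rw [← h.com_image hy]
    congr 1
    calc e = e' * (e * e') := by rw [hcom, ← mul_assoc, he'2, one_mul]
      _ = (y * e * y⁻¹) * (y * e' * y⁻¹) := by rw [hcyc]
      _ = y * (e * e') * y⁻¹ := by group
  have hmem : ∀ a ∈ fixF y ∩ fixF e, c a ∈ (comF (dl d) ∩ comF (dl d')) ∩ comF (dl (md d d')) := by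
    intro a ha
    simp only [fixF, Finset.mem_inter, Finset.mem_filter, Finset.mem_univ, true_and] at ha
    have hyi : y⁻¹ a = a := by conv_lhs => rw [← ha.1]; exact y.symm_apply_apply a
    have ha' : e' a = a := by rw [he', Perm.mul_apply, Perm.mul_apply, hyi, ha.2, ha.1]
    have h1 : actF d (c a) = c a := by rw [← dl_apply, hd, fix_conj, ha.2]
    have h2 : actF d' (c a) = c a := by rw [← dl_apply, hd', fix_conj, ha']
    have hmem3 : a ∈ comF e ∨ a ∈ comF e' ∨ a ∈ comF (e * e') := by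
      rcases pair_com d d' hp (c a) h1 h2 with h3 | h3 | h3
      · rw [hcomd.1] at h3; exact Or.inl ((Finset.mem_image.1 h3).elim fun u hu => c.injective hu.2 ▸ hu.1)
      · rw [hcomd.2.1] at h3; exact Or.inr (Or.inl ((Finset.mem_image.1 h3).elim fun u hu => c.injective hu.2 ▸ hu.1))
      · rw [hcomd.2.2] at h3; exact Or.inr (Or.inr ((Finset.mem_image.1 h3).elim fun u hu => c.injective hu.2 ▸ hu.1))
    have s1 : a ∈ comF e → a ∈ comF e' := fun h4 => himg1 ▸ Finset.mem_image.2 ⟨a, h4, ha.1⟩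
    have s2 : a ∈ comF e' → a ∈ comF (e * e') := fun h4 => himg2 ▸ Finset.mem_image.2 ⟨a, h4, ha.1⟩
    have s3 : a ∈ comF (e * e') → a ∈ comF e := fun h4 => himg3 ▸ Finset.mem_image.2 ⟨a, h4, ha.1⟩
    have hall : a ∈ comF e ∧ a ∈ comF e' ∧ a ∈ comF (e * e') := by
      rcases hmem3 with h4 | h4 | h4
      · exact ⟨h4, s1 h4, s2 (s1 h4)⟩
      · exact ⟨s3 (s2 h4), h4, s2 h4⟩
      · exact ⟨s3 h4, s1 (s3 h4), h4⟩
    rw [hcomd.1, hcomd.2.1, hcomd.2.2]
    exact Finset.mem_inter.2 ⟨Finset.mem_inter.2 ⟨Finset.mem_image_of_mem c hall.1,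
      Finset.mem_image_of_mem c hall.2.1⟩, Finset.mem_image_of_mem c hall.2.2⟩
  have h2 : (fixF y ∩ fixF e).card ≤ 2 :=
    (Finset.card_le_card_of_injOn c hmem c.injective.injOn).trans (pair_meet d d' hp)
  refine ⟨h2, ?_⟩
  have himage : ((fixF y).image fun a => xr a (e a)).card ≤ 4 := by
    refine (Finset.card_le_card (t := comF e) ?_).trans ?_
    · intro v hv
      obtain ⟨a, -, rfl⟩ := Finset.mem_image.1 hv
      exact Finset.mem_image.2 ⟨a, Finset.mem_univ _, rfl⟩
    · rw [← Finset.card_image_of_injective _ c.injective, ← hcomd.1]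
      exact com_ok.1 d hp.2.2.2.2.1 hp.1
  have hfib : ∀ v ∈ (fixF y).image (fun a => xr a (e a)),
      ((fixF y).filter fun a => xr a (e a) = v).card ≤ 2 := by
    intro v hv
    obtain ⟨a0, ha0, rfl⟩ := Finset.mem_image.1 hv
    replace ha0 : y a0 = a0 := (Finset.mem_filter.1 ha0).2
    refine (Finset.card_le_card_of_injOn (t := fixF y ∩ fixF e) (xr a0) (fun a ha => ?_) (fun a _ b _ hab => ?_)).trans h2
    · simp only [fixF, Finset.coe_filter, Set.mem_setOf_eq, Finset.coe_inter, Set.mem_inter_iff, Finset.mem_filter,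
        Finset.mem_univ, true_and] at ha ⊢
      refine ⟨by rw [h.lin y hy, ha0, ha.1], ?_⟩
      have e1 : e a = xr a (xr a0 (e a0)) := by rw [← ha.2, (xr_facts.2 _ _).2]
      rw [h.lin e he, e1, ← xr_assoc, xr_comm (e a0) a, xr_assoc, xr_comm a0 (e a0), (xr_facts.2 _ _).2, xr_comm]
    · change xr a0 a = xr a0 b at hab
      rw [← (xr_facts.2 a0 a).2, hab, (xr_facts.2 a0 b).2]
  calc (fixF y).card ≤ 2 * ((fixF y).image fun a => xr a (e a)).card :=
        Finset.card_le_mul_card_image _ 2 hfib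
    _ ≤ 8 := by omega

theorem seven_bound (hs : Small ↥M) (h7 : 7 ∣ Nat.card M) {y : Perm (Fin 64)} (hy : y ∈ M) (hy7 : y ^ 7 = 1)
    (hy1 : y ≠ 1) : (fixF y).card ≤ 4 := by
  classical
  obtain ⟨e', he2, he1, htop⟩ := hs.seven h7 ⟨y, hy⟩ (Subtype.ext hy7) (fun e0 => hy1 (congrArg Subtype.val e0))
  obtain ⟨e, he⟩ := e'
  have he2' : e * e = 1 := congrArg Subtype.val he2
  have he1' : e ≠ 1 := fun e0 => he1 (Subtype.ext e0)
  have hzero : ∀ a, y a = a → e a = a → a = 0 := by
    intro a hya hea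
    let F : Subgroup ↥M :=
      { carrier := {g | (g : Perm (Fin 64)) a = a}
        one_mem' := rfl
        mul_mem' := fun {p q} hp hq => by
          show (p : Perm (Fin 64)) ((q : Perm (Fin 64)) a) = a
          rw [show (q : Perm (Fin 64)) a = a from hq]; exact hp
        inv_mem' := fun {p} hp => by
          show (p : Perm (Fin 64))⁻¹ a = a
          conv_lhs => rw [← show (p : Perm (Fin 64)) a = a from hp]
          exact (p : Perm (Fin 64)).symm_apply_apply a }
    have hall : ∀ g (hg : g ∈ M), g a = a := fun g hg => by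
      have : (⟨g, hg⟩ : ↥M) ∈ F := (Subgroup.closure_le F).2 (by
        intro v hv
        simp only [Set.mem_insert_iff, Set.mem_singleton_iff] at hv
        rcases hv with rfl | rfl
        · exact hya
        · exact hea) (htop ▸ Subgroup.mem_top _)
      exact this
    have hcom : ∀ d : Fin 8, md d d = 0 → d ≠ 0 → ∀ d' : Fin 8, md d' d' = 0 → d' ≠ 0 →
        a ∈ comF (dl d) → a ∈ comF (dl d') := by
      intro d hd hd0 d' hd' hd0' ha
      have hinv : ∀ {d : Fin 8}, md d d = 0 → d ≠ 0 →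
          (⟨dl d, h.le (dl_mem d)⟩ : ↥M) * ⟨dl d, h.le (dl_mem d)⟩ = 1 ∧ (⟨dl d, h.le (dl_mem d)⟩ : ↥M) ≠ 1 :=
        fun {d} hd hd0 => ⟨Subtype.ext (by show dl d * dl d = 1; rw [← dl_mul, hd, dl_one]),
          fun e0 => hd0 (dl_inj ((congrArg Subtype.val e0 : dl d = 1).trans dl_one.symm))⟩
      obtain ⟨⟨g, hg⟩, e0⟩ := isConj_iff.1 (hs.invol h7 _ _ (hinv hd hd0).1 (hinv hd hd0).2 (hinv hd' hd0').1 (hinv hd' hd0').2)
      rw [← show g * dl d * g⁻¹ = dl d' from congrArg Subtype.val e0, h.com_image hg]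
      exact Finset.mem_image.2 ⟨a, ha, hall g hg⟩
    have h1 : actF 1 a = a := hall _ (h.le (dl_mem 1))
    have h6 : actF 6 a = a := hall _ (h.le (dl_mem 6))
    rcases pair_com 1 6 (by decide +kernel) a h1 h6 with h3 | h3 | h3
    · exact com_ok.2 a h3 (hcom 1 (by decide +kernel) (by decide) 2 (by decide +kernel) (by decide) h3)
    · exact com_ok.2 a (hcom 6 (by decide +kernel) (by decide) 1 (by decide +kernel) (by decide) h3)
        (hcom 6 (by decide +kernel) (by decide) 2 (by decide +kernel) (by decide) h3)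
    · exact com_ok.2 a (hcom (md 1 6) (by decide +kernel) (by decide +kernel) 1 (by decide +kernel) (by decide) h3)
        (hcom (md 1 6) (by decide +kernel) (by decide +kernel) 2 (by decide +kernel) (by decide) h3)
  have hcard : (comF e).card ≤ 4 := by
    obtain ⟨c, hc, hcD⟩ := h.syl (Subgroup.zpowers e) (Subgroup.zpowers_le.2 he)
      (Transfer.isPGroup_zpowers ⟨1, by rw [Invol.orderOf_two_of_mul_self he2' he1']; rfl⟩)
    obtain ⟨d, hd⟩ := mem_DG.1 (hcD e (Subgroup.mem_zpowers e))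
    rw [← Finset.card_image_of_injective _ c.injective, ← h.com_image hc e, ← hd]
    refine com_ok.1 d (dl_inj ?_) ?_
    · rw [dl_mul, dl_one, hd, show c * e * c⁻¹ * (c * e * c⁻¹) = c * (e * e) * c⁻¹ by group, he2']; group
    · rintro rfl; rw [dl_one, eq_comm, conj_eq_one_iff] at hd; exact he1' hd
  refine (Finset.card_le_card_of_injOn (fun a => xr a (e a)) (fun a _ => ?_) (fun a ha b hb hab => ?_)).trans hcard
  · exact Finset.mem_image.2 ⟨a, Finset.mem_univ _, rfl⟩
  · simp only [fixF, Finset.coe_filter, Set.mem_setOf_eq, Finset.mem_univ, true_and] at ha hb hab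
    have h0 : xr a b = 0 := by
      refine hzero _ (h.fix_xr hy ha hb) ?_
      have e1 : e a = xr a (xr b (e b)) := by rw [← hab, (xr_facts.2 _ _).2]
      rw [h.lin e he, e1, xr_assoc, xr_assoc b, (xr_facts.1 (e b)).1, (xr_facts.1 b).2.1]
    rw [← (xr_facts.2 a b).2, h0, (xr_facts.1 a).2.1]

/-- **No pointwise stabiliser is transitive on a quotient of rank at least two.** -/
theorem no_trans {U : Finset (Fin 64)} (hU : Clo U)
    (hcard : U.card = 1 ∨ U.card = 2 ∨ U.card = 4 ∨ U.card = 8 ∨ U.card = 16) :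
    ¬ ∀ a, a ∉ U → ∀ b, b ∉ U → ∃ g ∈ M, (∀ u ∈ U, g u = u) ∧ xr (g a) b ∈ U := by
  classical
  intro htr
  haveI := Fact.mk Nat.prime_two
  let M' : Subgroup ↥M :=
    { carrier := {g | ∀ u ∈ U, (g : Perm (Fin 64)) u = u}
      one_mem' := fun u _ => rfl
      mul_mem' := fun {p q} hp hq u hu => by
        show (p : Perm (Fin 64)) ((q : Perm (Fin 64)) u) = u
        rw [hq u hu]; exact hp u hu
      inv_mem' := fun {p} hp u hu => by
        show (p : Perm (Fin 64))⁻¹ u = u
        conv_lhs => rw [← hp u hu]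
        exact (p : Perm (Fin 64)).symm_apply_apply u }
  letI : MulAction ↥M' (Finset (Fin 64)) :=
    { smul := fun g T => T.image ((g : ↥M) : Perm (Fin 64))
      one_smul := fun T => show T.image ((1 : Perm (Fin 64)) : Fin 64 → Fin 64) = T from Finset.image_id
      mul_smul := fun p q T => by
        show T.image (((p : ↥M) : Perm (Fin 64)) * ((q : ↥M) : Perm (Fin 64)) : Perm (Fin 64)) =
          (T.image ((q : ↥M) : Perm (Fin 64))).image ((p : ↥M) : Perm (Fin 64))
        rw [Perm.coe_mul, Finset.image_image] }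
  have hsmul : ∀ (g : ↥M') (T : Finset (Fin 64)), g • T = T.image ((g : ↥M) : Perm (Fin 64)) := fun _ _ => rfl
  set Q := Finset.univ.filter fun a => a ∉ U with hQ
  set co : Fin 64 → Finset (Fin 64) := fun a => U.image (xr a) with hco
  have hmemco : ∀ a b, b ∈ co a ↔ xr a b ∈ U := by
    intro a b
    simp only [hco, Finset.mem_image]
    exact ⟨fun ⟨u, hu, e⟩ => by rw [← e, (xr_facts.2 _ _).2]; exact hu, fun hu => ⟨_, hu, (xr_facts.2 _ _).2⟩⟩
  have hcoeq : ∀ a b, xr a b ∈ U → co a = co b := by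
    intro a b hab
    ext c
    rw [hmemco, hmemco]
    have e : ∀ p q r : Fin 64, xr (xr p q) (xr p r) = xr q r := fun p q r => by
      rw [xr_assoc, xr_comm q, xr_assoc p r q, (xr_facts.2 p _).2, xr_comm]
    refine ⟨fun hc => ?_, fun hc => ?_⟩
    · rw [← e a b c]; exact hU.2 _ hab _ hc
    · rw [← e b a c, xr_comm b a]; exact hU.2 _ hab _ hc
  have hfib : ∀ T ∈ Q.image co, (Q.filter fun a => co a = T).card = U.card := by
    intro T hT
    obtain ⟨a, ha, rfl⟩ := Finset.mem_image.1 hT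
    rw [show (Q.filter fun b => co b = co a) = co a from ?_, Finset.card_image_of_injective]
    · intro p q e; rw [← (xr_facts.2 a p).2, e, (xr_facts.2 a q).2]
    · ext b
      simp only [Finset.mem_filter, hQ, Finset.mem_univ, true_and, hmemco]
      refine ⟨fun hb => ?_, fun hb => ⟨fun hbU => ?_, (hcoeq a b hb).symm⟩⟩
      · rw [← hmemco, ← hb.2, hmemco, (xr_facts.1 b).1]; exact hU.1
      · refine (Finset.mem_filter.1 ha).2 ?_
        rw [← (xr_facts.2 b a).2, xr_comm b a]
        exact hU.2 b hbU _ hb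
  have hQcard : Q.card + U.card = 64 := by
    have := Finset.card_filter_add_card_filter_not (s := (Finset.univ : Finset (Fin 64))) fun a => a ∉ U
    rw [Finset.card_univ, Fintype.card_fin] at this
    simpa [hQ] using this
  have hprod : Q.card = (Q.image co).card * U.card := by
    rw [Finset.card_eq_sum_card_image co Q, Finset.sum_congr rfl hfib, Finset.sum_const, smul_eq_mul]
  obtain ⟨a0, ha0⟩ : Q.Nonempty := Finset.card_pos.1 (by omega)
  have horb : MulAction.orbit ↥M' (co a0) = ↑(Q.image co) := by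
    ext T
    rw [MulAction.mem_orbit_iff, Finset.mem_coe, Finset.mem_image]
    have hco_g : ∀ (g : ↥M') a, g • co a = co (((g : ↥M) : Perm (Fin 64)) a) := by
      intro g a
      rw [hsmul, hco]
      show (U.image (xr a)).image ((g : ↥M) : Perm (Fin 64)) = U.image (xr (((g : ↥M) : Perm (Fin 64)) a))
      rw [Finset.image_image]
      refine Finset.image_congr fun u hu => ?_
      simp only [Function.comp_apply]
      rw [h.lin _ (g : ↥M).2, g.2 u hu]
    constructor
    · rintro ⟨g, rfl⟩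
      refine ⟨_, Finset.mem_filter.2 ⟨Finset.mem_univ _, fun hgU => ?_⟩, (hco_g g a0).symm⟩
      have hg2 := g.2 _ hgU
      exact (Finset.mem_filter.1 ha0).2 (((g : ↥M) : Perm (Fin 64)).injective hg2.symm ▸ hgU)
    · rintro ⟨b, hb, rfl⟩
      obtain ⟨g, hg, hgU, hgb⟩ := htr a0 (Finset.mem_filter.1 ha0).2 b (Finset.mem_filter.1 hb).2
      exact ⟨⟨⟨g, hg⟩, hgU⟩, (hco_g _ _).trans (hcoeq _ _ hgb)⟩
  have hdvd : (Q.image co).card ∣ Nat.card M' := by
    have := MulAction.index_stabilizer ↥M' (co a0)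
    rw [horb, Set.ncard_coe_finset] at this
    rw [← this]
    exact Subgroup.index_dvd_card _
  have hM' := Subgroup.card_subgroup_dvd_card M'
  have hel : ∀ p : ℕ, p.Prime → p ∣ (Q.image co).card →
      ∃ g : ↥M', ((g : ↥M) : Perm (Fin 64)) ^ p = 1 ∧ ((g : ↥M) : Perm (Fin 64)) ≠ 1 := by
    intro p hp hpd
    haveI := Fact.mk hp
    obtain ⟨g, hg⟩ := exists_prime_orderOf_dvd_card' p (hpd.trans hdvd)
    refine ⟨g, ?_, fun e0 => hp.one_lt.ne' ?_⟩
    · have := congrArg (fun u : ↥M' => ((u : ↥M) : Perm (Fin 64))) (hg ▸ pow_orderOf_eq_one g)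
      simpa using this
    · rw [← hg, orderOf_eq_one_iff]; exact Subtype.ext (Subtype.ext e0)
  have hsub : ∀ g : ↥M', U ⊆ fixF ((g : ↥M) : Perm (Fin 64)) := fun g u hu =>
    Finset.mem_filter.2 ⟨Finset.mem_univ _, g.2 u hu⟩
  rcases h.small with h8 | hs
  · rw [h8] at hM'
    have hN := hdvd.trans hM'
    rcases hcard with e | e | e | e | e <;> rw [e] at hprod hQcard <;>
      (have h1 : (Q.image co).card = 63 ∨ (Q.image co).card = 31 ∨ (Q.image co).card = 15 ∨
        (Q.image co).card = 7 ∨ (Q.image co).card = 3 := by omega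
       rcases h1 with h1 | h1 | h1 | h1 | h1 <;> rw [h1] at hN <;> omega)
  have hN := hdvd.trans hM'
  rcases hcard with e | e | e | e | e <;> rw [e] at hprod hQcard
  · have h1 : (Q.image co).card = 63 := by omega
    rw [h1] at hN
    rcases hs.card with c | c | c | c <;> rw [c] at hN <;> omega
  · have h1 : (Q.image co).card = 31 := by omega
    rw [h1] at hN
    rcases hs.card with c | c | c | c <;> rw [c] at hN <;> omega
  · have h1 : (Q.image co).card = 15 := by omega
    rw [h1] at hN hel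
    obtain ⟨y, hy3, hy1⟩ := hel 3 Nat.prime_three (by norm_num)
    obtain ⟨z, hz5, hz1⟩ := hel 5 (by norm_num) (by norm_num)
    obtain ⟨f, hf, hcyc⟩ := hs.fifteen hN (y : ↥M) (z : ↥M) (Subtype.ext hy3) (fun e0 => hy1 (congrArg Subtype.val e0))
      (Subtype.ext hz5) (fun e0 => hz1 (congrArg Subtype.val e0))
    have hfM : f ∈ M' := (Subgroup.closure_le M').2 (by
      intro v hv
      simp only [Set.mem_insert_iff, Set.mem_singleton_iff] at hv
      rcases hv with rfl | rfl
      · exact y.2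
      · exact z.2) hf
    have := (h.cyc_bound (y : ↥M).2 f.2 (hcyc.map M.subtype M.subtype_injective)).1
    have hle : U.card ≤ (fixF ((y : ↥M) : Perm (Fin 64)) ∩ fixF (f : Perm (Fin 64))).card :=
      Finset.card_le_card (Finset.subset_inter (hsub y) (hsub ⟨f, hfM⟩))
    change (fixF (((y : ↥M) : Perm (Fin 64))) ∩ fixF (f : Perm (Fin 64))).card ≤ 2 at this
    omega
  · have h1 : (Q.image co).card = 7 := by omega
    rw [h1] at hN hel
    obtain ⟨y, hy7, hy1⟩ := hel 7 (by norm_num) dvd_rfl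
    have := h.seven_bound hs hN (y : ↥M).2 hy7 hy1
    have hle := Finset.card_le_card (hsub y)
    omega
  · have h1 : (Q.image co).card = 3 := by omega
    rw [h1] at hN hel
    obtain ⟨y, hy3, hy1⟩ := hel 3 Nat.prime_three dvd_rfl
    obtain ⟨f, hcyc⟩ := hs.three (y : ↥M) (Subtype.ext hy3) (fun e0 => hy1 (congrArg Subtype.val e0))
    have := (h.cyc_bound (y : ↥M).2 f.2 (hcyc.map M.subtype M.subtype_injective)).2
    have hle := Finset.card_le_card (hsub y)
    change (fixF (((y : ↥M) : Perm (Fin 64)))).card ≤ 8 at this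
    omega

end AM

end CfsgLib.M24Syl
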