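import Cfsg.Agent.Lib.M24Syl.EStep
import Cfsg.Agent.Lib.M24Syl.Trans

/-!
Fusion in the abelian subgroup is controlled by its normaliser, whose automiser has the dihedral complement as
Sylow 2-subgroup.
-/

set_option autoImplicit false
set_option linter.style.haveILetI false
set_option linter.unusedSectionVars false
set_option linter.style.longLine false

open Cfsg
open CfsgLib.A8ThreeClass (Cn mem_Cn mem_normalizer_of_conj)
open Equiv

namespace CfsgLib.M24Syl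

variable {G : Type*} [Group G] [Finite G] {S : Sylow 2 G} {A : Subgroup G} {φ : ℕ → G}

theorem conj_ok : ((List.range 512).all fun i => (List.range 64).all fun a =>
    cjI i a == actD (i / 64) a) = true := by decide +kernel

namespace Ctx

variable (C : Ctx S A φ)
include C

/-- a 2-group containing `A` normalises it, and `A` is strongly closed in it -/
theorem two_group {R : Subgroup G} (hR : IsPGroup 2 R) (hAR : A ≤ R) :
    (∀ g : G, (∀ x ∈ A, g * x * g⁻¹ ∈ R) → ∀ x ∈ A, g * x * g⁻¹ ∈ A) ∧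
      (∀ x ∈ A, ∀ g : G, g * x * g⁻¹ ∈ R → g * x * g⁻¹ ∈ A) ∧
      (∀ r ∈ R, (∀ x ∈ A, r * x = x * r) → r ∈ A) := by
  obtain ⟨c, -, hc⟩ := into_top S R le_top hR
  have hcN := mem_normalizer_of_conj (C.normA fun x hx => hc x (hAR hx))
  refine ⟨fun g hg x hx => ?_, fun x hx g hg => ?_, fun r hr hrc => ?_⟩
  · have h := C.normA (g := c * g) (fun y hy => by simpa [mul_assoc] using hc _ (hg y hy)) x hx
    exact (Subgroup.mem_normalizer_iff.1 hcN _).2 (by simpa [mul_assoc] using h)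
  · have h := C.closed hx (g := c * g) (by simpa [mul_assoc] using hc _ hg)
    exact (Subgroup.mem_normalizer_iff.1 hcN _).2 (by simpa [mul_assoc] using h)
  · refine (Subgroup.mem_normalizer_iff.1 hcN r).2 (C.self (hc r hr) fun x hx => ?_)
    have h := hrc _ ((Subgroup.mem_normalizer_iff.1 (inv_mem hcN) x).1 hx)
    calc c * r * c⁻¹ * x = c * (r * (c⁻¹ * x * c⁻¹⁻¹)) * c⁻¹ := by group
      _ = c * (c⁻¹ * x * c⁻¹⁻¹ * r) * c⁻¹ := by rw [h]
      _ = _ := by group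

theorem le_centralizer {U : Subgroup G} (hU : U ≤ A) : A ≤ Subgroup.centralizer (U : Set G) :=
  fun _ ha _ hu => C.A_comm (hU hu) ha

/-- fusion in `A` inside the centraliser of a subgroup of `A` -/
theorem fuse {U : Subgroup G} (hU : U ≤ A) {x g : G} (hx : x ∈ A) (hg : g ∈ Subgroup.centralizer (U : Set G))
    (hgx : g * x * g⁻¹ ∈ A) :
    ∃ n ∈ Subgroup.normalizer (A : Set G), n ∈ Subgroup.centralizer (U : Set G) ∧ n * x * n⁻¹ = g * x * g⁻¹ := by
  haveI := Fact.mk Nat.prime_two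
  set y := g * x * g⁻¹ with hy
  set H := Subgroup.centralizer (U : Set G) ⊓ Cn y with hH
  have hAH : A ≤ H := fun a ha => ⟨C.le_centralizer hU ha, mem_Cn.2 (C.A_comm ha hgx)⟩
  obtain ⟨R, hR⟩ := (C.A_two.comap_subtype (K := H)).exists_le_sylow
  set R' : Subgroup G := (R : Subgroup H).map H.subtype with hR'
  have hR'2 : IsPGroup 2 R' := R.2.map _
  have hAR : A ≤ R' := fun a ha => ⟨⟨a, hAH ha⟩, hR ha, rfl⟩
  have hgA : ∀ a ∈ A, g * a * g⁻¹ ∈ H := fun a ha =>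
    ⟨mul_mem (mul_mem hg (C.le_centralizer hU ha)) ((Subgroup.centralizer (U : Set G)).inv_mem hg), mem_Cn.2 (by
      rw [hy]; exact (show Commute a x from C.A_comm ha hx).map (MulAut.conj g).toMonoidHom)⟩
  obtain ⟨T, hT⟩ := ((C.A_two.map (MulAut.conj g).toMonoidHom).comap_subtype (K := H)).exists_le_sylow
  obtain ⟨c, hc⟩ := MulAction.exists_smul_eq H T R
  have hn : ∀ a ∈ A, (c : G) * g * a * ((c : G) * g)⁻¹ ∈ R' := by
    intro a ha
    have : c * ⟨g * a * g⁻¹, hgA a ha⟩ * c⁻¹ ∈ (R : Subgroup H) := by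
      rw [← hc]
      exact ⟨⟨g * a * g⁻¹, hgA a ha⟩, hT ⟨a, ha, rfl⟩, rfl⟩
    refine ⟨_, this, ?_⟩
    simp [mul_assoc]
  refine ⟨(c : G) * g, mem_normalizer_of_conj ((C.two_group hR'2 hAR).1 _ hn), mul_mem c.2.1 hg, ?_⟩
  calc (c : G) * g * x * ((c : G) * g)⁻¹ = (c : G) * y * (c : G)⁻¹ := by rw [hy]; group
    _ = y := by rw [(mem_Cn.1 c.2.2).eq, mul_inv_cancel_right]

/-- the automiser of `A` -/
theorem exists_aut : ∃ ρ : ↥(Subgroup.normalizer (A : Set G)) →* Perm (Fin 64), AM ρ.range ∧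
    ∀ (n : ↥(Subgroup.normalizer (A : Set G))) (a : Fin 64), φ (ρ n a).1 = (n : G) * φ a.1 * (n : G)⁻¹ := by
  haveI := Fact.mk Nat.prime_two
  set N := Subgroup.normalizer (A : Set G) with hN
  have hinj : ∀ {a b : Fin 64}, φ a.1 = φ b.1 → a = b := fun {a b} e =>
    Fin.ext (C.inj (by omega) (by omega) e)
  have hex : ∀ (n : N) (a : Fin 64), ∃ b : Fin 64, φ b.1 = (n : G) * φ a.1 * (n : G)⁻¹ := fun n a => by
    obtain ⟨b, hb, e⟩ := (C.memA _).1 ((Subgroup.mem_normalizer_iff.1 n.2 _).1 ((C.memA_iff (by omega)).2 a.2))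
    exact ⟨⟨b, hb⟩, e⟩
  choose f hf using hex
  have hfinj : ∀ n : N, Function.Injective (f n) := fun n a b e => by
    have := congrArg (fun c : Fin 64 => φ c.1) e
    simp only [hf] at this
    exact hinj (mul_left_cancel (mul_right_cancel this))
  let ρ : N →* Perm (Fin 64) := MonoidHom.mk' (fun n => Equiv.ofBijective (f n) (Finite.injective_iff_bijective.1 (hfinj n)))
    fun p q => Equiv.ext fun a => hinj (by
      show φ (f (p * q) a).1 = φ (f p (f q a)).1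
      rw [hf, hf, hf, Subgroup.coe_mul]; group)
  have hρ : ∀ (n : N) (a : Fin 64), φ (ρ n a).1 = (n : G) * φ a.1 * (n : G)⁻¹ := hf
  have hxr : ∀ a b : Fin 64, φ (xr a b).1 = φ a.1 * φ b.1 := fun a b => by
    rw [← C.mul (by omega) (by omega), (xor_facts a.2 b.2).1]; rfl
  have hSN : (S : Subgroup G) ≤ N := fun s hs => mem_normalizer_of_conj fun x hx => C.A_normal hs hx
  have hdl : ∀ {i : ℕ} (hi : i < 512), ρ ⟨φ i, hSN (C.mem hi)⟩ = dl ⟨i / 64, by omega⟩ := by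
    intro i hi
    refine Equiv.ext fun a => hinj ?_
    rw [hρ, dl_apply]
    show φ i * φ a.1 * (φ i)⁻¹ = φ (actD (i / 64) a.1 % 64)
    have h := conj_ok
    simp only [List.all_eq_true, List.mem_range, beq_iff_eq] at h
    rw [← C.conj hi (by omega), h i hi a a.2, Nat.mod_eq_of_lt (actD_lt (by omega) a.2)]
  have hT : ((S.subtype hSN).mapSurjective ρ.rangeRestrict_surjective : Subgroup ρ.range).map ρ.range.subtype =
      DG := by
    rw [Sylow.coe_mapSurjective, Subgroup.map_map, Sylow.coe_subtype]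
    ext x
    constructor
    · rintro ⟨s, hs, rfl⟩
      obtain ⟨i, hi, e⟩ := C.surj hs
      exact mem_DG.2 ⟨_, ((congrArg ρ (show s = ⟨φ i, hSN (C.mem hi)⟩ from Subtype.ext e.symm)).trans (hdl hi)).symm⟩
    · intro hx
      obtain ⟨d, rfl⟩ := mem_DG.1 hx
      have hi : 64 * d.1 < 512 := by omega
      refine ⟨⟨φ (64 * d.1), hSN (C.mem hi)⟩, C.mem hi, ?_⟩
      show ρ ⟨φ (64 * d.1), hSN (C.mem hi)⟩ = dl d
      rw [hdl hi]
      exact congrArg dl (Fin.ext (by show 64 * d.1 / 64 = d.1; omega))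
  refine ⟨ρ, ⟨?_, ?_, ?_, ?_⟩, hρ⟩
  · rintro _ ⟨n, rfl⟩ a b
    refine hinj ?_
    rw [hρ, hxr, hxr, hρ, hρ]; group
  · rw [← hT]; exact Subgroup.map_subtype_le _
  · intro Q hQ hQ2
    set T : Sylow 2 ρ.range := (S.subtype hSN).mapSurjective ρ.rangeRestrict_surjective with hTdef
    obtain ⟨P, hP⟩ := (hQ2.comap_subtype (K := ρ.range)).exists_le_sylow
    obtain ⟨c, hc⟩ := MulAction.exists_smul_eq ρ.range P T
    refine ⟨c, c.2, fun x hx => ?_⟩
    rw [← hT]
    refine ⟨c * ⟨x, hQ hx⟩ * c⁻¹, ?_, rfl⟩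
    show c * ⟨x, hQ hx⟩ * c⁻¹ ∈ (T : Subgroup ρ.range)
    rw [← hc]
    exact ⟨⟨x, hQ hx⟩, hP hx, rfl⟩
  · rintro _ ⟨n, rfl⟩ z w hz hw e
    refine Fin.ext (C.centre_class (g := n) hz hw ?_)
    rw [← hρ, e]

/-- **The normaliser is not transitive on a quotient of rank at least two.** -/
theorem not_trans {U : Subgroup G} (hU : U ≤ A) (h4 : 4 * Nat.card U ≤ 64) :
    ∃ a ∈ A, a ∉ U ∧ ∃ b ∈ A, b ∉ U ∧ ∀ n ∈ Subgroup.normalizer (A : Set G),
      n ∈ Subgroup.centralizer (U : Set G) → n * a * n⁻¹ * b ∉ U := by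
  classical
  obtain ⟨ρ, hAM, hρ⟩ := C.exists_aut
  set Uf := Finset.univ.filter fun a : Fin 64 => φ a.1 ∈ U with hUf
  have hinj : ∀ {a b : Fin 64}, φ a.1 = φ b.1 → a = b := fun {a b} e =>
    Fin.ext (C.inj (by omega) (by omega) e)
  have hxr : ∀ a b : Fin 64, φ (xr a b).1 = φ a.1 * φ b.1 := fun a b => by
    rw [← C.mul (by omega) (by omega), (xor_facts a.2 b.2).1]; rfl
  have hmem : ∀ a : Fin 64, a ∈ Uf ↔ φ a.1 ∈ U := fun a => by simp [hUf]
  have hcl : Clo Uf := ⟨(hmem 0).2 (by show φ 0 ∈ U; rw [C.one]; exact one_mem _),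
    fun a ha b hb => (hmem _).2 (hxr a b ▸ mul_mem ((hmem a).1 ha) ((hmem b).1 hb))⟩
  have hcard : Uf.card = Nat.card U := by
    rw [← Nat.card_eq_finsetCard]
    refine Nat.card_eq_of_bijective (fun a : Uf => (⟨φ a.1.1, (hmem _).1 a.2⟩ : U))
      ⟨fun a b e => Subtype.ext (hinj (congrArg Subtype.val e)), fun u => ?_⟩
    obtain ⟨i, hi, e⟩ := (C.memA _).1 (hU u.2)
    exact ⟨⟨⟨i, hi⟩, (hmem _).2 (by show φ i ∈ U; rw [e]; exact u.2)⟩, Subtype.ext e⟩
  have hdiv : Uf.card = 1 ∨ Uf.card = 2 ∨ Uf.card = 4 ∨ Uf.card = 8 ∨ Uf.card = 16 := by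
    have hd : Nat.card U ∣ 2 ^ 6 := by
      have := Subgroup.card_dvd_of_le hU
      rw [C.cardA] at this
      exact this
    obtain ⟨k, hk, e⟩ := (Nat.dvd_prime_pow Nat.prime_two).1 hd
    have : k ≤ 4 := by
      by_contra hk4
      have := Nat.pow_le_pow_right (show 1 ≤ 2 by norm_num) (show 5 ≤ k by omega)
      omega
    rw [hcard, e]
    interval_cases k <;> norm_num
  by_contra hcon
  simp only [not_exists, not_and, not_forall, not_not] at hcon
  refine hAM.no_trans hcl hdiv fun a ha b hb => ?_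
  obtain ⟨n, hn, hnU, hnab⟩ := hcon (φ a.1) ((C.memA_iff (by omega)).2 a.2) (fun e => ha ((hmem a).2 e))
    (φ b.1) ((C.memA_iff (by omega)).2 b.2) (fun e => hb ((hmem b).2 e))
  refine ⟨ρ ⟨n, hn⟩, ⟨_, rfl⟩, fun u hu => hinj ?_, (hmem _).2 ?_⟩
  · rw [hρ]
    exact mul_inv_eq_iff_eq_mul.2 (hnU _ ((hmem u).1 hu)).symm
  · rw [hxr, hρ]; exact hnab

end Ctx

end CfsgLib.M24Syl
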