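import Cfsg.Agent.Lib.M24Syl.Table

/-!
The centralisers of order 64 and the elementary abelian subgroups of order 32.
-/

set_option autoImplicit false
set_option linter.style.longLine false

namespace CfsgLib.M24Syl

/-- the check for the centraliser of the involutions in one coset -/
def eChk (k s : ℕ) (X : List ℕ) : Bool :=
  let W := wSet k
  let ZX := W ++ W.map (mS s)
  let P := pSet k
  W.all (fun w => (List.range 512).all fun j => cmt (mS s w) j == cmt s j) &&
    X.contains (tEl k) && ZX.all (fun z => P.contains z && X.contains z) &&
    X.all (fun z => !(X.all (cmt z)) || ZX.contains z) && ZX.all (fun z => X.all (cmt z)) &&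
    P.all (fun p => ZX.any fun z => p == z || p == mS (tEl k) z) &&
    ZX.all (fun z => !(z == tEl k) && P.contains (mS (tEl k) z)) &&
    (X.any fun a => X.any fun b => cmI a b == vEl k) && (X.all fun a => X.all fun b => inV k (cmI a b)) &&
    X.all fun j => !(Nat.ble 64 j && inv2 j) || ZX.contains j || P.contains j ||
      (W.map (mS s)).all fun z => Nat.blt (mS j z) 64

theorem echk_ok : ((List.range 4).all fun k => (sEls k).all fun s => eChk k s (cen s)) = true := by
  decide +kernel

theorem ecover_ok : ((List.range 512).all fun i => !isE i ||
    (List.range 4).any fun k => (sEls k).any fun s => (wSet k).any fun w => mS s w == i) = true := by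
  decide +kernel

theorem pset_ok : ((List.range 4).all fun k =>
    (wSet k).all (fun w => Nat.blt w 64 && isT (mS (tEl k) w) && (pSet k).contains w &&
      (wSet k).all fun w' => (wSet k).contains (mS w w')) &&
    (wSet k).contains 0 && (wSet k).contains (vEl k) && isT (tEl k) &&
    (pSet k).all fun p => Nat.blt p 512 && inv2 p &&
      (pSet k).all fun q => cmt p q && (pSet k).contains (mS p q)) = true := by decide +kernel

theorem pnorm_ok : ((List.range 4).all fun k => gI.all fun g =>
    (pSet k).all (fun p => (pSet k).contains (cjI g p)) &&
      (wSet k).all fun w => (wSet k).contains (cjI g w)) = true := by decide +kernel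

end CfsgLib.M24Syl
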