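import Cfsg.Agent.Lib.M24Syl.Table

/-!
The action of the Sylow subgroup on the elementary abelian subgroups of order 32.
-/

set_option autoImplicit false
set_option linter.style.longLine false

namespace CfsgLib.M24Syl

theorem ker_ok : ((List.range 4).all fun k =>
    gI.all (fun g =>
      (kerB k g || kerB k (mS (invI (aEl k)) g) || kerB k (mS (invI (bEl k)) g) ||
        kerB k (mS (invI (mS (aEl k) (bEl k))) g)) &&
      (!(Nat.blt g 64) || kerB k g || kerB k (mS (invI (aEl k)) g))) &&
    !(kerB k (aEl k)) && !(kerB k (bEl k)) && !(kerB k (mS (aEl k) (bEl k))) &&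
    kerB k (mS (aEl k) (aEl k)) && kerB k (mS (bEl k) (bEl k)) && kerB k (cmI (aEl k) (bEl k))) = true := by
  decide +kernel

/-- the check for one element moving the subgroup of order eight -/
def lChk (k b : ℕ) : Bool :=
  let W := wSet k
  W.all (fun w => inV k (cmI b (cmI b w))) &&
    (kerB k b || if W.all (fun w => inV k (cmI b w)) then
      (pSet k).all fun x => !(inV k (cmI b x)) || W.contains x
    else (pSet k).all fun x => !(W.contains (cmI b x)) || W.contains x || isT x)

theorem lchk_ok : ((List.range 4).all fun k =>
    [aEl k, bEl k, mS (aEl k) (bEl k)].all (lChk k)) = true := by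
  decide +kernel

set_option maxHeartbeats 4000000 in
theorem cw_ok : ([0, 2].all fun k => let X := (List.range 512).filter (cW k)
    X.all fun a => X.all fun b => (wSet k).contains (cmI a b)) = true := by decide +kernel

end CfsgLib.M24Syl
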