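import Cfsg.Agent.Lib.M24Syl.TStep
import Cfsg.Agent.Lib.M24Syl.TableE
import Cfsg.Agent.Lib.M24Syl.TableL
import Cfsg.Agent.Lib.A8ThreeClass.CentZ
import Cfsg.Agent.Lib.Coprime.Generation

/-!
The normaliser of an elementary abelian subgroup of order 32, centralising `v`, preserves the subgroup of order
eight in it.
-/

set_option autoImplicit false
set_option linter.style.haveILetI false
set_option linter.unusedSectionVars false
set_option linter.style.longLine false

open Cfsg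
open CfsgLib.A8ThreeClass (Cn mem_Cn mem_normalizer_of_conj)

namespace CfsgLib.M24Syl

variable {G : Type*} [Group G] [Finite G] {S : Sylow 2 G} {A : Subgroup G} {φ : ℕ → G}

/-- normality in the table extends from the generators -/
theorem closed_under_conj {L : List ℕ} (hL : ∀ a ∈ L, a < 512)
    (hg : ∀ g ∈ gI, ∀ a ∈ L, cjI g a ∈ L) (C : Ctx S A φ) {g : ℕ} (hgl : g < 512) {a : ℕ} (ha : a ∈ L) :
    cjI g a ∈ L := by
  have hgI : ∀ g ∈ gI, g < 512 := by decide
  have key : ∀ j < 512, ∀ a ∈ L, cjI j a ∈ L := by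
    have hw := word_ok
    simp only [List.all_eq_true, List.any_eq_true, List.mem_range, Bool.or_eq_true, beq_iff_eq, Nat.blt_eq] at hw
    intro j
    induction j using Nat.strong_induction_on with
    | _ j ih =>
      intro hj a ha
      rcases hw j hj with rfl | ⟨k, hk, hlt⟩
      · have : cjI 0 a = a := C.inj (cjI_lt (by norm_num) (hL a ha)) (hL a ha) (by
          rw [C.conj (by norm_num) (hL a ha), C.one]; group)
        exact this.symm ▸ ha
      · set c := gI.getD k 0 with hc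
        have hcI : c ∈ gI := by
          rw [hc, List.getD_eq_getElem _ _ (show k < gI.length from hk)]
          exact List.getElem_mem _
        obtain ⟨hc1, -⟩ := invI_spec (hgI c hcI)
        set j' := mS j (invI c) with hj'
        have hj'5 : j' < 512 := mS_lt hj hc1
        have h1 := hg c hcI a ha
        have e : cjI j a = cjI j' (cjI c a) := C.inj (cjI_lt hj (hL a ha)) (cjI_lt hj'5 (hL _ h1)) (by
          rw [C.conj hj (hL a ha), C.conj hj'5 (cjI_lt (hgI c hcI) (hL a ha)), C.conj (hgI c hcI) (hL a ha),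
            hj', C.mul hj hc1, C.inv (hgI c hcI)]
          group)
        rw [e]
        exact ih j' hlt hj'5 _ h1
  exact key g hgl a ha

/-- the data of the four subgroups of order 32 -/
theorem pw_facts {k : ℕ} (hk : k < 4) :
    (∀ w ∈ wSet k, w < 64 ∧ w ∈ pSet k ∧ isT (mS (tEl k) w) = true) ∧
      0 ∈ wSet k ∧ vEl k ∈ wSet k ∧ (∀ w ∈ wSet k, ∀ w' ∈ wSet k, mS w w' ∈ wSet k) ∧
      isT (tEl k) = true ∧
      (∀ p ∈ pSet k, p < 512 ∧ inv2 p = true ∧ ∀ q ∈ pSet k, cmt p q = true ∧ mS p q ∈ pSet k) ∧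
      (∀ g ∈ gI, (∀ p ∈ pSet k, cjI g p ∈ pSet k) ∧ ∀ w ∈ wSet k, cjI g w ∈ wSet k) := by
  have h := pset_ok
  simp only [List.all_eq_true, List.mem_range, Bool.and_eq_true, List.contains_eq_mem, decide_eq_true_eq,
    Nat.blt_eq] at h
  obtain ⟨⟨⟨⟨h1, h0⟩, hv⟩, ht⟩, hp⟩ := h k hk
  have h' := pnorm_ok
  simp only [List.all_eq_true, List.mem_range, Bool.and_eq_true, List.contains_eq_mem, decide_eq_true_eq] at h'
  exact ⟨fun w hw => ⟨(h1 w hw).1.1.1, (h1 w hw).1.2, (h1 w hw).1.1.2⟩, h0, hv,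
    fun w hw w' hw' => (h1 w hw).2 w' hw', ht,
    fun p hp' => ⟨(hp p hp').1.1, (hp p hp').1.2, (hp p hp').2⟩, h' k hk⟩

namespace Ctx

variable (C : Ctx S A φ)
include C

theorem list_subgroup {L : List ℕ} (h5 : ∀ i ∈ L, i < 512) (h0 : 0 ∈ L)
    (hmul : ∀ i ∈ L, ∀ j ∈ L, mS i j ∈ L) (hsq : ∀ i ∈ L, inv2 i = true) :
    ∃ H : Subgroup G, ∀ x, x ∈ H ↔ ∃ i ∈ L, φ i = x := by
  refine ⟨{
    carrier := {x | ∃ i ∈ L, φ i = x}
    one_mem' := ⟨0, h0, C.one⟩
    mul_mem' := ?_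
    inv_mem' := ?_ }, fun x => Iff.rfl⟩
  · rintro _ _ ⟨i, hi, rfl⟩ ⟨j, hj, rfl⟩
    exact ⟨_, hmul i hi j hj, C.mul (h5 i hi) (h5 j hj)⟩
  · rintro _ ⟨i, hi, rfl⟩
    exact ⟨i, hi, (inv_eq_of_mul_eq_one_right ((C.inv2_iff (h5 i hi)).1 (hsq i hi))).symm⟩

theorem exists_P {k : ℕ} (hk : k < 4) : ∃ P : Subgroup G, (∀ x, x ∈ P ↔ ∃ i ∈ pSet k, φ i = x) ∧
    ∀ s ∈ (S : Subgroup G), ∀ x ∈ P, s * x * s⁻¹ ∈ P := by
  obtain ⟨h1, h0, -, -, -, hp, hn⟩ := pw_facts hk
  obtain ⟨P, hP⟩ := C.list_subgroup (fun i hi => (hp i hi).1) (h1 0 h0).2.1 (fun i hi j hj => ((hp i hi).2.2 j hj).2)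
    (fun i hi => (hp i hi).2.1)
  refine ⟨P, hP, fun s hs x hx => ?_⟩
  obtain ⟨g, hg, rfl⟩ := C.surj hs
  obtain ⟨p, hp', rfl⟩ := (hP x).1 hx
  exact (hP _).2 ⟨_, closed_under_conj (fun a ha => (hp a ha).1) (fun g hg a ha => (hn g hg).1 a ha) C hg hp',
    C.conj hg (hp p hp').1⟩

theorem exists_W {k : ℕ} (hk : k < 4) : ∃ W : Subgroup G, (∀ x, x ∈ W ↔ ∃ i ∈ wSet k, φ i = x) ∧
    ∀ s ∈ (S : Subgroup G), ∀ x ∈ W, s * x * s⁻¹ ∈ W := by
  obtain ⟨h1, h0, -, hm, -, hp, hn⟩ := pw_facts hk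
  obtain ⟨W, hW⟩ := C.list_subgroup (fun i hi => (hp i (h1 i hi).2.1).1) h0 hm (fun i hi => (hp i (h1 i hi).2.1).2.1)
  refine ⟨W, hW, fun s hs x hx => ?_⟩
  obtain ⟨g, hg, rfl⟩ := C.surj hs
  obtain ⟨p, hp', rfl⟩ := (hW x).1 hx
  exact (hW _).2 ⟨_, closed_under_conj (fun a ha => (hp a (h1 a ha).2.1).1) (fun g hg a ha => (hn g hg).2 a ha) C hg hp',
    C.conj hg (hp p (h1 p hp').2.1).1⟩

/-- the normaliser of the subgroup of order 32 which fixes `v` preserves the subgroup of order eight -/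
theorem norm_W {k : ℕ} (hk : k < 4) {P W : Subgroup G} (hP : ∀ x, x ∈ P ↔ ∃ i ∈ pSet k, φ i = x)
    (hPn : ∀ s ∈ (S : Subgroup G), ∀ x ∈ P, s * x * s⁻¹ ∈ P) (hW : ∀ x, x ∈ W ↔ ∃ i ∈ wSet k, φ i = x)
    (hWn : ∀ s ∈ (S : Subgroup G), ∀ x ∈ W, s * x * s⁻¹ ∈ W)
    {y : G} (hy : ∀ x ∈ P, y * x * y⁻¹ ∈ P) (hyv : y ∈ Cn (φ (vEl k))) :
    ∀ x ∈ W, y * x * y⁻¹ ∈ W := by
  haveI := Fact.mk Nat.prime_two
  obtain ⟨h1, h0, hv, -, -, hp, -⟩ := pw_facts hk
  have hker := ker_ok
  simp only [List.all_eq_true, List.mem_range, Bool.and_eq_true, Bool.not_eq_true', Bool.or_eq_true] at hker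
  obtain ⟨⟨⟨⟨⟨⟨hgen, hna⟩, hnb⟩, hnab⟩, haa⟩, hbb⟩, hab⟩ := hker k hk
  set v := φ (vEl k) with hvdef
  have hv5 : vEl k < 512 := by have := (h1 _ hv).1; omega
  have hv4 : vEl k < 4 := by unfold vEl; split_ifs <;> norm_num
  have ha5 : aEl k < 512 := by unfold aEl; split_ifs <;> norm_num
  have ha64 : aEl k < 64 := by unfold aEl; split_ifs <;> norm_num
  have hb5 : bEl k < 512 := by unfold bEl; split_ifs <;> norm_num
  -- the group `{1, v}`
  have hv2 : v * v = 1 := (C.inv2_iff hv5).1 (hp _ (h1 _ hv).2.1).2.1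
  let V : Subgroup G :=
    { carrier := {x | x = 1 ∨ x = v}
      one_mem' := Or.inl rfl
      mul_mem' := by
        rintro a b (rfl | rfl) (rfl | rfl)
        · exact Or.inl (one_mul 1)
        · exact Or.inr (one_mul v)
        · exact Or.inr (mul_one v)
        · exact Or.inl hv2
      inv_mem' := by
        rintro a (rfl | rfl)
        · exact Or.inl inv_one
        · exact Or.inr (inv_eq_of_mul_eq_one_right hv2) }
  have hinV : ∀ {c : ℕ}, c < 512 → (inV k c = true ↔ φ c ∈ V) := by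
    intro c hc
    rw [inV, Bool.or_eq_true, beq_iff_eq, beq_iff_eq]
    refine ⟨fun h => h.elim (fun h => Or.inl (by rw [h, C.one])) (fun h => Or.inr (by rw [h])), fun h => ?_⟩
    rcases h with h | h
    · exact Or.inl (C.inj hc (by norm_num) (by rw [C.one]; exact h))
    · exact Or.inr (C.inj hc hv5 h)
  -- the group `L` and the kernel of its action
  set L := Subgroup.normalizer (P : Set G) ⊓ Cn v with hLdef
  have hLP : ∀ {g : G}, g ∈ L → ∀ x ∈ P, g * x * g⁻¹ ∈ P := fun hg x hx =>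
    (Subgroup.mem_normalizer_iff.1 hg.1 x).1 hx
  have hLV : ∀ {g : G}, g ∈ L → ∀ x ∈ V, g * x * g⁻¹ ∈ V := by
    rintro g hg x (rfl | rfl)
    · exact Or.inl (by group)
    · exact Or.inr (mul_inv_eq_iff_eq_mul.2 (mem_Cn.1 hg.2).eq)
  let Kl : Subgroup G :=
    { carrier := {g | g ∈ L ∧ ∀ x ∈ P, g * x * g⁻¹ * x⁻¹ ∈ V}
      one_mem' := ⟨one_mem _, fun x _ => by simp⟩
      mul_mem' := by
        rintro g h ⟨hg, hg'⟩ ⟨hh, hh'⟩
        refine ⟨mul_mem hg hh, fun x hx => ?_⟩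
        have e : g * h * x * (g * h)⁻¹ * x⁻¹ =
            (g * (h * x * h⁻¹) * g⁻¹ * (h * x * h⁻¹)⁻¹) * (h * x * h⁻¹ * x⁻¹) := by group
        rw [e]
        exact mul_mem (hg' _ (hLP hh x hx)) (hh' x hx)
      inv_mem' := by
        rintro g ⟨hg, hg'⟩
        refine ⟨inv_mem hg, fun x hx => ?_⟩
        have hq := hg' _ (hLP (inv_mem hg) x hx)
        have e : g⁻¹ * x * g⁻¹⁻¹ * x⁻¹ = (g * (g⁻¹ * x * g⁻¹⁻¹) * g⁻¹ * (g⁻¹ * x * g⁻¹⁻¹)⁻¹)⁻¹ := by group
        rw [e]
        exact inv_mem hq }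
  have hKL : Kl ≤ L := fun g hg => hg.1
  set K' : Subgroup ↥L := Kl.subgroupOf L with hK'
  haveI hK'n : K'.Normal := by
    refine ⟨fun g hg u => ?_⟩
    refine ⟨(u * g * u⁻¹).2, fun x hx => ?_⟩
    have hx' := hLP (inv_mem u.2) x hx
    have := hLV u.2 _ (hg.2 _ hx')
    convert this using 1
    simp only [Subgroup.coe_subtype, Subgroup.coe_mul, Subgroup.coe_inv]
    group
  have hSL : (S : Subgroup G) ≤ L := fun s hs =>
    ⟨mem_normalizer_of_conj (hPn s hs), mem_Cn.2 (C.central hv4 hs)⟩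
  have hkerB : ∀ {g : ℕ}, g < 512 → (kerB k g = true ↔ φ g ∈ Kl) := by
    intro g hg
    simp only [kerB, List.all_eq_true]
    refine ⟨fun h => ⟨hSL (C.mem hg), fun x hx => ?_⟩, fun h p hp' => ?_⟩
    · obtain ⟨p, hp', rfl⟩ := (hP x).1 hx
      rw [← C.comm hg (hp p hp').1]
      exact (hinV (cmI_lt hg (hp p hp').1)).1 (h p hp')
    · rw [hinV (cmI_lt hg (hp p hp').1), C.comm hg (hp p hp').1]
      exact h.2 _ ((hP _).2 ⟨p, hp', rfl⟩)
  -- the Sylow subgroup of the quotient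
  let π : ↥L →* ↥L ⧸ K' := QuotientGroup.mk' K'
  have hπs : Function.Surjective π := QuotientGroup.mk'_surjective K'
  have hπone : ∀ u : ↥L, π u = 1 ↔ (u : G) ∈ Kl := fun u => QuotientGroup.eq_one_iff u
  let T : Sylow 2 (↥L ⧸ K') := (S.subtype hSL).mapSurjective hπs
  have hT : (T : Subgroup (↥L ⧸ K')) = ((S : Subgroup G).subgroupOf L).map π := by
    show (((S.subtype hSL).mapSurjective hπs : Sylow 2 (↥L ⧸ K')) : Subgroup (↥L ⧸ K')) = _
    rw [Sylow.coe_mapSurjective, Sylow.coe_subtype]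
  set q : ℕ → ↥L ⧸ K' := fun i => if h : i < 512 then π ⟨φ i, hSL (C.mem h)⟩ else 1 with hqdef
  have hq : ∀ {i : ℕ} (h : i < 512), q i = π ⟨φ i, hSL (C.mem h)⟩ := fun h => dif_pos h
  have hqmul : ∀ {i j : ℕ}, i < 512 → j < 512 → q (mS i j) = q i * q j := by
    intro i j hi hj
    rw [hq hi, hq hj, hq (mS_lt hi hj), ← map_mul]
    exact congrArg π (Subtype.ext (C.mul hi hj))
  have hq1 : ∀ {i : ℕ}, i < 512 → (q i = 1 ↔ kerB k i = true) := fun hi => by
    rw [hq hi, hπone, hkerB hi]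
  have hqinv : ∀ {i : ℕ}, i < 512 → q (invI i) = (q i)⁻¹ := fun {i} hi => by
    refine eq_inv_of_mul_eq_one_right ?_
    rw [← hqmul hi (invI_spec hi).1, (invI_spec hi).2.1, hq1 (by norm_num), hkerB (by norm_num), C.one]
    exact one_mem _
  set α := q (aEl k) with hα
  set β := q (bEl k) with hβ
  have hαβ5 : mS (aEl k) (bEl k) < 512 := mS_lt ha5 hb5
  have hα2 : α * α = 1 := by rw [hα, ← hqmul ha5 ha5]; exact (hq1 (mS_lt ha5 ha5)).2 haa
  have hβ2 : β * β = 1 := by rw [hβ, ← hqmul hb5 hb5]; exact (hq1 (mS_lt hb5 hb5)).2 hbb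
  have hα1 : α ≠ 1 := fun h => by rw [hα, hq1 ha5, hna] at h; exact Bool.noConfusion h
  have hβ1 : β ≠ 1 := fun h => by rw [hβ, hq1 hb5, hnb] at h; exact Bool.noConfusion h
  have hαβ1 : α * β ≠ 1 := fun h => by
    rw [hα, hβ, ← hqmul ha5 hb5, hq1 hαβ5, hnab] at h; exact Bool.noConfusion h
  have hαβne : α ≠ β := fun h => hαβ1 (by rw [← h, hα2])
  have hcomm : α * β = β * α := by
    have h := (hq1 (cmI_lt ha5 hb5)).2 hab
    rw [cmI, hqmul hαβ5 (mS_lt (invI_spec ha5).1 (invI_spec hb5).1), hqmul ha5 hb5,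
      hqmul (invI_spec ha5).1 (invI_spec hb5).1, hqinv ha5, hqinv hb5, ← hα, ← hβ,
      inv_eq_of_mul_eq_one_right hα2, inv_eq_of_mul_eq_one_right hβ2] at h
    have h' := inv_eq_of_mul_eq_one_right h
    rw [mul_inv_rev, inv_eq_of_mul_eq_one_right hα2, inv_eq_of_mul_eq_one_right hβ2] at h'
    exact h'.symm
  have hba : β * α = α * β := hcomm.symm
  have e1 : α * (α * β) = β := by rw [← mul_assoc, hα2, one_mul]
  have e2 : α * β * α = β := by rw [mul_assoc, hba, e1]
  have e3 : α * β * β = α := by rw [mul_assoc, hβ2, mul_one]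
  have e4 : β * (α * β) = α := by rw [← mul_assoc, hba, e3]
  have e5 : α * β * (α * β) = 1 := by rw [← mul_assoc, e2, hβ2]
  let T4 : Subgroup (↥L ⧸ K') :=
    { carrier := {x | x = 1 ∨ x = α ∨ x = β ∨ x = α * β}
      one_mem' := Or.inl rfl
      mul_mem' := by
        rintro a b (rfl | rfl | rfl | rfl) (rfl | rfl | rfl | rfl) <;>
          simp [hα2, hβ2, hba, e1, e2, e3, e4, e5]
      inv_mem' := by
        rintro a (rfl | rfl | rfl | rfl)
        · exact Or.inl inv_one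
        · exact Or.inr (Or.inl (inv_eq_of_mul_eq_one_right hα2))
        · exact Or.inr (Or.inr (Or.inl (inv_eq_of_mul_eq_one_right hβ2)))
        · refine Or.inr (Or.inr (Or.inr ?_))
          rw [mul_inv_rev, inv_eq_of_mul_eq_one_right hα2, inv_eq_of_mul_eq_one_right hβ2, hcomm] }
  have hqT4 : ∀ i < 512, q i ∈ T4 := by
    have hgI : ∀ g ∈ gI, g < 512 := by decide
    have hgq : ∀ g ∈ gI, q g ∈ T4 := by
      intro g hg
      have g5 := hgI g hg
      rcases (hgen g hg).1 with ((h | h) | h) | h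
      · exact Or.inl ((hq1 g5).2 h)
      · rw [← hq1 (mS_lt (invI_spec ha5).1 g5), hqmul (invI_spec ha5).1 g5, hqinv ha5, inv_mul_eq_one] at h
        exact Or.inr (Or.inl h.symm)
      · rw [← hq1 (mS_lt (invI_spec hb5).1 g5), hqmul (invI_spec hb5).1 g5, hqinv hb5, inv_mul_eq_one] at h
        exact Or.inr (Or.inr (Or.inl h.symm))
      · rw [← hq1 (mS_lt (invI_spec hαβ5).1 g5), hqmul (invI_spec hαβ5).1 g5, hqinv hαβ5, inv_mul_eq_one,
          hqmul ha5 hb5] at h
        exact Or.inr (Or.inr (Or.inr h.symm))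
    have hw := word_ok
    simp only [List.all_eq_true, List.any_eq_true, List.mem_range, Bool.or_eq_true, beq_iff_eq, Nat.blt_eq] at hw
    intro j
    induction j using Nat.strong_induction_on with
    | _ j ih =>
      intro hj
      rcases hw j hj with rfl | ⟨i, hi, hlt⟩
      · refine Or.inl ((hq1 hj).2 ?_)
        rw [hkerB hj, C.one]; exact one_mem _
      · set c := gI.getD i 0 with hc
        have hcI : c ∈ gI := by
          rw [hc, List.getD_eq_getElem _ _ (show i < gI.length from hi)]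
          exact List.getElem_mem _
        obtain ⟨hc1, -⟩ := invI_spec (hgI c hcI)
        have h := mul_mem (ih _ hlt (mS_lt hj hc1)) (hgq c hcI)
        rwa [hqmul hj hc1, hqinv (hgI c hcI), inv_mul_cancel_right] at h
  have hTT4 : (T : Subgroup (↥L ⧸ K')) = T4 := by
    refine le_antisymm ?_ ?_
    · rw [hT]
      rintro _ ⟨u, hu, rfl⟩
      obtain ⟨i, hi, e⟩ := C.surj hu
      have := hqT4 i hi
      rw [hq hi] at this
      convert this using 3
      exact e.symm
    · have hm : ∀ {i : ℕ}, i < 512 → q i ∈ (T : Subgroup (↥L ⧸ K')) := fun {i} hi => by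
        rw [hT, hq hi]; exact ⟨_, C.mem hi, rfl⟩
      rintro x (rfl | rfl | rfl | rfl)
      exacts [one_mem _, hm ha5, hm hb5, mul_mem (hm ha5) (hm hb5)]
  have hTc : ∀ x ∈ T4, ∀ z ∈ T4, x * z = z * x := by
    rintro x (rfl | rfl | rfl | rfl) z (rfl | rfl | rfl | rfl) <;>
      simp [hba, e1, e2, e3, e4]
  -- a 2-nilpotent quotient
  have hfix : ∀ n : ↥L, (∀ x ∈ (S : Subgroup G), (n : G) * x * (n : G)⁻¹ ∈ (S : Subgroup G)) →
      π n ∈ Subgroup.centralizer (T4 : Set (↥L ⧸ K')) := by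
    intro n hn
    have hnq : ∀ i < 512, ∃ j < 512, φ j = (n : G) * φ i * (n : G)⁻¹ ∧ π n * q i * (π n)⁻¹ = q j := by
      intro i hi
      obtain ⟨j, hj, e⟩ := C.surj (hn _ (C.mem hi))
      refine ⟨j, hj, e, ?_⟩
      rw [hq hi, hq hj, ← map_inv, ← map_mul, ← map_mul]
      exact congrArg π (Subtype.ext e.symm)
    have hna' : π n * α * (π n)⁻¹ = α := by
      obtain ⟨j, hj, ej, hje⟩ := hnq _ ha5
      rw [hα, hje]
      have hj64 : j < 64 := (C.memA_iff hj).1
        (ej ▸ C.normA (fun x hx => hn x (C.A_le hx)) _ ((C.memA_iff ha5).2 ha64))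
      have hne : q j ≠ 1 := fun h => hα1 (by rw [hα]; rw [h, mul_inv_eq_one, mul_eq_left] at hje; exact hje)
      have hAq : ∀ a < 64, q a = 1 ∨ q a = α := by
        have hgA : ∀ m < 6, q (2 ^ m) = 1 ∨ q (2 ^ m) = α := by
          intro m hm
          have hmI : 2 ^ m ∈ gI := by
            have h6 : ∀ m < 6, 2 ^ m ∈ gI := by decide
            exact h6 m hm
          have hm64 : Nat.blt (2 ^ m) 64 = true :=
            Nat.ble_eq_true_of_le (Nat.pow_lt_pow_right (by norm_num) hm : 2 ^ m < 2 ^ 6)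
          have g5 : 2 ^ m < 512 := lt_of_lt_of_le (Nat.pow_lt_pow_right (by norm_num) hm) (by norm_num)
          rcases (hgen _ hmI).2 with (h | h) | h
          · rw [hm64] at h; exact Bool.noConfusion h
          · exact Or.inl ((hq1 g5).2 h)
          · rw [← hq1 (mS_lt (invI_spec ha5).1 g5), hqmul (invI_spec ha5).1 g5, hqinv ha5, inv_mul_eq_one] at h
            exact Or.inr h.symm
        have hz : ∀ c < 64, c ≠ 0 → ∃ m < 6, Nat.xor c (2 ^ m) < c := by decide +kernel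
        intro a
        induction a using Nat.strong_induction_on with
        | _ a ih =>
          intro ha
          by_cases h0 : a = 0
          · subst h0
            refine Or.inl ((hq1 (by norm_num)).2 ?_)
            rw [hkerB (by norm_num), C.one]; exact one_mem _
          · obtain ⟨m, hm, hlt⟩ := hz a ha h0
            have hm64 : 2 ^ m < 64 := Nat.pow_lt_pow_right (by norm_num) hm
            have e : a = mS (Nat.xor a (2 ^ m)) (2 ^ m) := by
              rw [(xor_facts (by omega) hm64).1]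
              show a = (a ^^^ 2 ^ m) ^^^ 2 ^ m
              rw [Nat.xor_assoc, Nat.xor_self, Nat.xor_zero]
            rw [e, hqmul (by omega) (by omega)]
            rcases ih _ hlt (by omega) with h | h <;> rcases hgA m hm with h' | h' <;>
              rw [h, h'] <;> simp [hα2]
      exact (hAq j hj64).resolve_left hne
    obtain ⟨m, hm, hmS⟩ := exists_odd_pow_mem S hn
    have hnm : π n ^ m ∈ T4 := by
      rw [← map_pow, ← hTT4, hT]
      exact ⟨n ^ m, by simpa [Subgroup.mem_subgroupOf] using hmS, rfl⟩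
    have hnb' : π n * β * (π n)⁻¹ = β := by
      obtain ⟨j, hj, -, hje⟩ := hnq _ hb5
      rw [← hβ] at hje
      have hjc : q j = β ∨ q j = α * β := by
        rcases hqT4 j hj with h | h | h | h
        · rw [h, mul_inv_eq_one, mul_eq_left] at hje; exact absurd hje hβ1
        · rw [h] at hje
          exact absurd (mul_left_cancel (mul_right_cancel (hna'.trans hje.symm))) hαβne
        · exact Or.inl h
        · exact Or.inr h
      have hF : π n ∈ Cn β := by
        refine mem_of_odd_pow_sq hm (mem_Cn.2 (hTc _ hnm _ (Or.inr (Or.inr (Or.inl rfl))))) (mem_Cn.2 ?_)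
        have h2 : π n ^ 2 * β * (π n ^ 2)⁻¹ = β := by
          rw [show π n ^ 2 * β * (π n ^ 2)⁻¹ = π n * (π n * β * (π n)⁻¹) * (π n)⁻¹ by rw [pow_two]; group, hje]
          rcases hjc with h | h
          · rw [h]; rw [h] at hje; exact hje
          · rw [h] at hje ⊢
            calc π n * (α * β) * (π n)⁻¹ = (π n * α * (π n)⁻¹) * (π n * β * (π n)⁻¹) := by group
              _ = β := by rw [hna', hje, ← mul_assoc, hα2, one_mul]
        exact mul_inv_eq_iff_eq_mul.1 h2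
      exact mul_inv_eq_iff_eq_mul.2 (mem_Cn.1 hF).eq
    intro x hx
    have ha' : α * π n = π n * α := (mul_inv_eq_iff_eq_mul.1 hna').symm
    have hb' : β * π n = π n * β := (mul_inv_eq_iff_eq_mul.1 hnb').symm
    rcases hx with rfl | rfl | rfl | rfl
    · simp
    · exact ha'
    · exact hb'
    · rw [mul_assoc, hb', ← mul_assoc, ha', mul_assoc]
  have hNC : Subgroup.normalizer ((T : Subgroup (↥L ⧸ K')) : Set (↥L ⧸ K')) ≤
      Subgroup.centralizer ((T : Subgroup (↥L ⧸ K')) : Set (↥L ⧸ K')) := by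
    intro x hx
    obtain ⟨n, rfl⟩ := hπs x
    set H := Kl ⊔ (S : Subgroup G) with hH
    have hHL : H ≤ L := sup_le hKL hSL
    have hQ : (S : Subgroup G).map (MulAut.conj (n : G)).toMonoidHom ≤ H := by
      rintro _ ⟨s, hs, rfl⟩
      have hsT : π ⟨s, hSL hs⟩ ∈ (T : Subgroup (↥L ⧸ K')) := by rw [hT]; exact ⟨_, hs, rfl⟩
      have h := (Subgroup.mem_normalizer_iff.1 hx _).1 hsT
      rw [hT] at h
      obtain ⟨u, hu, e⟩ := h
      have hk : ((n * ⟨s, hSL hs⟩ * n⁻¹ * u⁻¹ : ↥L) : G) ∈ Kl := by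
        rw [← hπone, map_mul, map_mul, map_mul, map_inv, map_inv, e, mul_inv_cancel]
      have hmem := mul_mem (Subgroup.mem_sup_left (T := (S : Subgroup G)) hk) (Subgroup.mem_sup_right hu)
      simpa [mul_assoc] using hmem
    obtain ⟨c, hc, hcS⟩ := into_of_sylow S (le_sup_right (a := Kl)) _ hQ (S.2.map _)
    have hn' := hfix ⟨c * n, mul_mem (hHL hc) n.2⟩ (fun s hs => by
      have := hcS _ ⟨s, hs, rfl⟩
      simpa [mul_assoc] using this)
    have hSH : (S : Subgroup G) ≤ Subgroup.normalizer (Kl : Set G) := fun s hs =>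
      mem_normalizer_of_conj fun g hg => hK'n.conj_mem ⟨g, hKL hg⟩ hg ⟨s, hSL hs⟩
    rw [← SetLike.mem_coe, Subgroup.coe_mul_of_right_le_normalizer_left _ _ hSH] at hc
    obtain ⟨κ, hκ, σ, hσ, rfl⟩ := hc
    have hκL := hKL hκ
    have e : π n = (π ⟨σ, hSL hσ⟩)⁻¹ * π ⟨κ * σ * n, mul_mem (mul_mem hκL (hSL hσ)) n.2⟩ := by
      have : (⟨κ * σ * n, mul_mem (mul_mem hκL (hSL hσ)) n.2⟩ : ↥L) =
          ⟨κ, hκL⟩ * (⟨σ, hSL hσ⟩ * n) := Subtype.ext (mul_assoc κ σ _)
      rw [this, map_mul, map_mul, (hπone ⟨κ, hκL⟩).2 hκ, one_mul, inv_mul_cancel_left]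
    rw [hTT4, e]
    refine mul_mem (inv_mem ?_) hn'
    intro z hz
    refine hTc z hz _ ?_
    rw [← hTT4, hT]; exact ⟨_, hσ, rfl⟩
  -- elements commuting with an element of the Sylow subgroup preserve `W`
  set LW : Subgroup ↥L := (Subgroup.normalizer (W : Set G)).subgroupOf L with hLW
  set Y : Subgroup (↥L ⧸ K') := LW.map π with hY
  have hcent : ∀ bi ∈ [aEl k, bEl k, mS (aEl k) (bEl k)], kerB k bi = false →
      Cn (q bi) ≤ Y := by
    intro bi hbi hbk x hx
    have hb5' : bi < 512 := by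
      simp only [List.mem_cons, List.not_mem_nil, or_false] at hbi
      rcases hbi with rfl | rfl | rfl <;> assumption
    obtain ⟨o, rfl⟩ := hπs x
    refine ⟨o, ?_, rfl⟩
    show (o : G) ∈ Subgroup.normalizer (W : Set G)
    set b := φ bi with hbdef
    have hk' : (o : G) * b * (o : G)⁻¹ * b⁻¹ ∈ Kl := by
      have h := mem_Cn.1 hx
      rw [hq hb5'] at h
      have := (hπone (o * ⟨b, hSL (C.mem hb5')⟩ * o⁻¹ * ⟨b, hSL (C.mem hb5')⟩⁻¹)).1 (by
        rw [map_mul, map_mul, map_mul, map_inv, map_inv, h.eq]; simp [hbdef])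
      simpa using this
    have hl := lchk_ok
    simp only [List.all_eq_true, List.mem_range] at hl
    have hl := hl k hk bi hbi
    simp only [lChk, Bool.and_eq_true, List.all_eq_true, Bool.or_eq_true, hbk, Bool.false_eq_true,
      false_or] at hl
    obtain ⟨h3, h12⟩ := hl
    have hbP : ∀ x ∈ P, b * x * b⁻¹ ∈ P := hPn b (C.mem hb5')
    have hoP : ∀ x ∈ P, (o : G) * x * (o : G)⁻¹ ∈ P := hLP o.2
    have hWP : W ≤ P := fun x hx => by
      obtain ⟨i, hi, rfl⟩ := (hW x).1 hx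
      exact (hP _).2 ⟨i, (h1 i hi).2.1, rfl⟩
    have hVW : ∀ z ∈ V, z ∈ W := by
      rintro z (rfl | rfl)
      · exact one_mem _
      · exact (hW _).2 ⟨_, hv, rfl⟩
    -- the commutator with `b` is transported
    have htr : ∀ z ∈ P, ∃ d ∈ V, b * ((o : G) * z * (o : G)⁻¹) * b⁻¹ * ((o : G) * z * (o : G)⁻¹)⁻¹ =
        d * ((o : G) * (b * z * b⁻¹ * z⁻¹) * (o : G)⁻¹) := by
      intro z hz
      set κ := (o : G) * b * (o : G)⁻¹ * b⁻¹ with hκ
      set u := (o : G) * (b * z * b⁻¹) * (o : G)⁻¹ with hu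
      have hu' : u ∈ P := hoP _ (hbP z hz)
      refine ⟨_, (inv_mem hk').2 u hu', ?_⟩
      rw [hu, hκ]; group
    have hnotT : ∀ z ∈ W, ∀ i ∈ pSet k, φ i = (o : G) * z * (o : G)⁻¹ → isT i = true → False := by
      intro z hz i hi e hiT
      refine C.t_not_conj (hp i hi).1 hiT (o : G)⁻¹ ?_
      rw [e]
      have hzA : z ∈ A := by
        obtain ⟨w, hw, rfl⟩ := (hW z).1 hz
        exact (C.memA_iff (hp w (h1 w hw).2.1).1).2 (h1 w hw).1
      simpa [mul_assoc] using hzA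
    have hwit : ∀ z ∈ W, b * z * b⁻¹ * z⁻¹ ∈ W := fun z hz => mul_mem (hWn b (C.mem hb5') z hz) (inv_mem hz)
    have hmove : ∀ z ∈ W, ∀ {M : Subgroup G}, (∀ d ∈ V, d ∈ M) →
        (o : G) * (b * z * b⁻¹ * z⁻¹) * (o : G)⁻¹ ∈ M →
        ∀ i ∈ pSet k, φ i = (o : G) * z * (o : G)⁻¹ → φ (cmI bi i) ∈ M := by
      intro z hz M hVM hM i hi e
      obtain ⟨d, hd, hd'⟩ := htr z (hWP hz)
      rw [C.comm hb5' (hp i hi).1, e, ← hbdef, hd']
      exact mul_mem (hVM d hd) hM
    -- first the elements moved only inside `{1, v}`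
    have hfirst : ∀ z ∈ W, b * z * b⁻¹ * z⁻¹ ∈ V → (o : G) * z * (o : G)⁻¹ ∈ W := by
      intro z hz hzV
      obtain ⟨i, hi, e⟩ := (hP _).1 (hoP z (hWP hz))
      have hiV : inV k (cmI bi i) = true :=
        (hinV (cmI_lt hb5' (hp i hi).1)).2 (hmove z hz (fun d hd => hd) (hLV o.2 _ hzV) i hi e)
      refine (hW _).2 ⟨i, ?_, e⟩
      split_ifs at h12 with hmv
      · simp only [List.all_eq_true, Bool.or_eq_true, Bool.not_eq_true', List.contains_eq_mem,
          decide_eq_true_eq] at h12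
        exact (h12 i hi).resolve_left (by rw [hiV]; simp)
      · simp only [List.all_eq_true, Bool.or_eq_true, Bool.not_eq_true', List.contains_eq_mem,
          decide_eq_true_eq, decide_eq_false_iff_not] at h12
        rcases h12 i hi with (h | h) | h
        · refine absurd ?_ h
          obtain ⟨w, hw, ew⟩ := (hW _).1 (hVW _ ((hinV (cmI_lt hb5' (hp i hi).1)).1 hiV))
          exact C.inj (hp w (h1 w hw).2.1).1 (cmI_lt hb5' (hp i hi).1) ew ▸ hw
        · exact h
        · exact (hnotT z hz i hi e h).elim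
    refine mem_normalizer_of_conj fun z hz => ?_
    by_cases hzV : b * z * b⁻¹ * z⁻¹ ∈ V
    · exact hfirst z hz hzV
    obtain ⟨i, hi, e⟩ := (hP _).1 (hoP z (hWP hz))
    have hcz : b * (b * z * b⁻¹ * z⁻¹) * b⁻¹ * (b * z * b⁻¹ * z⁻¹)⁻¹ ∈ V := by
      obtain ⟨w, hw, rfl⟩ := (hW z).1 hz
      have hw5 := (hp w (h1 w hw).2.1).1
      rw [hbdef, ← C.comm hb5' hw5, ← C.comm hb5' (cmI_lt hb5' hw5)]
      exact (hinV (cmI_lt hb5' (cmI_lt hb5' hw5))).1 (h3 w hw)
    have hiW : φ (cmI bi i) ∈ W := hmove z hz hVW (hfirst _ (hwit z hz) hcz) i hi e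
    refine (hW _).2 ⟨i, ?_, e⟩
    split_ifs at h12 with hmv
    · exfalso
      refine hzV ?_
      obtain ⟨w, hw, rfl⟩ := (hW z).1 hz
      have hw5 := (hp w (h1 w hw).2.1).1
      rw [hbdef, ← C.comm hb5' hw5]
      exact (hinV (cmI_lt hb5' hw5)).1 (hmv w hw)
    · simp only [List.all_eq_true, Bool.or_eq_true, Bool.not_eq_true', List.contains_eq_mem,
        decide_eq_true_eq, decide_eq_false_iff_not] at h12
      rcases h12 i hi with (h | h) | h
      · refine absurd ?_ h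
        obtain ⟨w, hw, ew⟩ := (hW _).1 hiW
        exact C.inj (hp w (h1 w hw).2.1).1 (cmI_lt hb5' (hp i hi).1) ew ▸ hw
      · exact h
      · exact (hnotT z hz i hi e h).elim
  -- the odd core is generated by centralisers
  have hTY : (T : Subgroup (↥L ⧸ K')) ≤ Y := by
    rw [hT]
    exact Subgroup.map_mono fun u hu => mem_normalizer_of_conj (hWn u hu)
  have hOY : oddCore (↥L ⧸ K') ≤ Y := by
    have h4 : 4 ≤ Nat.card T4 := by
      classical
      have : ({1, α, β, α * β} : Finset (↥L ⧸ K')).card = 4 := by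
        rw [Finset.card_insert_of_notMem, Finset.card_insert_of_notMem, Finset.card_insert_of_notMem,
          Finset.card_singleton]
        · simp only [Finset.mem_singleton]
          exact fun e => hα1 (right_eq_mul.1 e)
        · simp only [Finset.mem_insert, Finset.mem_singleton, not_or]
          exact ⟨hαβne, fun e => hβ1 (left_eq_mul.1 e)⟩
        · simp only [Finset.mem_insert, Finset.mem_singleton, not_or]
          exact ⟨hα1.symm, hβ1.symm, hαβ1.symm⟩
      rw [← this, ← Nat.card_eq_finsetCard]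
      refine Nat.card_le_card_of_injective (fun x => (⟨x.1, ?_⟩ : T4)) fun x z e => Subtype.ext (congrArg Subtype.val e :)
      have := x.2
      simp only [Finset.mem_insert, Finset.mem_singleton] at this
      exact this
    haveI : IsMulCommutative T4 := ⟨⟨fun u w => Subtype.ext (hTc _ u.2 _ w.2)⟩⟩
    refine Coprime.le_of_hyperplane_centralizer_le (p := 2) (A := T4) inferInstance (fun x hx => ?_) (by simpa using h4) ?_ ?_ ?_
    · rcases hx with rfl | rfl | rfl | rfl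
      · exact one_pow 2
      · rw [pow_two, hα2]
      · rw [pow_two, hβ2]
      · rw [pow_two, ← mul_assoc, mul_assoc α β α, ← hcomm, ← mul_assoc, hα2, one_mul, hβ2]
    · intro x _
      exact mem_normalizer_of_conj fun u hu => (Transfer.pPrimeCore_normal 2 _).conj_mem u hu x
    · obtain ⟨n, hn⟩ := IsPGroup.iff_card.1 (hTT4 ▸ T.2 : IsPGroup 2 T4)
      rw [hn]
      exact ((Transfer.pPrimeCore_coprime 2 : (Nat.card (oddCore (↥L ⧸ K'))).Coprime 2).symm).pow_left n
    · intro B hB hidx x hx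
      obtain ⟨z, hz, hz1⟩ : ∃ z ∈ B, z ≠ 1 := by
        by_contra h
        simp only [not_exists, not_and, not_not] at h
        rw [(Subgroup.eq_bot_iff_forall B).2 h, Subgroup.relIndex_bot_left] at hidx
        omega
      have hxz : x ∈ Cn z := mem_Cn.2 (hx.2 z hz).symm
      rcases hB hz with rfl | rfl | rfl | rfl
      · exact absurd rfl hz1
      · exact hcent _ (by simp) hna (hα ▸ hxz)
      · exact hcent _ (by simp) hnb (hβ ▸ hxz)
      · exact hcent _ (by simp) hnab (by rw [hqmul ha5 hb5, ← hα, ← hβ]; exact hxz)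
  have hyL : y ∈ L := ⟨mem_normalizer_of_conj hy, hyv⟩
  have hmem : π ⟨y, hyL⟩ ∈ Y := by
    obtain ⟨o, ho, p, hp', e⟩ := A8ThreeClass.core_mul_sylow T hNC (π ⟨y, hyL⟩)
    rw [e]
    exact mul_mem (hOY ho) (hTY hp')
  obtain ⟨u, hu, e⟩ := hmem
  have hκ : ((u⁻¹ * ⟨y, hyL⟩ : ↥L) : G) ∈ Kl := by rw [← hπone, map_mul, map_inv, e, inv_mul_cancel]
  intro x hx
  have hWP : W ≤ P := fun z hz => by
    obtain ⟨i, hi, rfl⟩ := (hW z).1 hz
    exact (hP _).2 ⟨i, (h1 i hi).2.1, rfl⟩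
  have hmid : (u : G)⁻¹ * y * x * ((u : G)⁻¹ * y)⁻¹ ∈ W := by
    have h := hκ.2 x (hWP hx)
    simp only [Subgroup.coe_mul, Subgroup.coe_inv] at h
    have h' : (u : G)⁻¹ * y * x * ((u : G)⁻¹ * y)⁻¹ * x⁻¹ ∈ W := by
      rcases h with h | h
      · rw [h]; exact one_mem _
      · rw [h]; exact (hW _).2 ⟨_, hv, rfl⟩
    simpa using mul_mem h' hx
  have := (Subgroup.mem_normalizer_iff.1 hu _).1 hmid
  simpa [mul_assoc] using this

end Ctx

end CfsgLib.M24Syl
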