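import Cfsg.Agent.Lib.M24Syl.Recur

/-!
A group without core whose Sylow 2-subgroup has this type has a normal abelian subgroup of order 64; the
corresponding statement for the type of the Sylow 2-subgroup itself with central centre.
-/

set_option autoImplicit false
set_option linter.style.haveILetI false
set_option linter.unusedSectionVars false
set_option linter.style.longLine false

open Cfsg CfsgLib.Golay CfsgLib.Golay.SylowTwo CfsgLib.Golay.SylowQuot

namespace CfsgLib.M24Syl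

theorem sylow_equiv (P : Sylow 2 M24) : Nonempty ((P : Subgroup M24) ≃* HS pcs) := by
  haveI : Fact (Nat.Prime 2) := ⟨Nat.prime_two⟩
  have hcard : Nat.card ((HS pcs).subgroupOf M24) = 2 ^ (Nat.card M24).factorization 2 := by
    rw [Nat.card_congr (Subgroup.subgroupOfEquivOfLe HS_le).toEquiv, card_P, natCard_M24]
    have : (244823040 : ℕ).factorization 2 = 10 := by
      rw [show (244823040 : ℕ) = 2 ^ 10 * 239085 by norm_num,
        Nat.factorization_mul (by norm_num) (by norm_num), Finsupp.add_apply,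
        Nat.factorization_eq_zero_of_not_dvd (show ¬ 2 ∣ 239085 by norm_num),
        Nat.factorization_pow]
      simp [Nat.prime_two.factorization_self]
    rw [this]; norm_num
  let S : Sylow 2 M24 := Sylow.ofCard _ hcard
  exact ⟨(Sylow.equiv P S).trans (Subgroup.subgroupOfEquivOfLe HS_le)⟩

theorem quot_center_congr {X Y : Type*} [Group X] [Group Y] (e : X ≃* Y) :
    Nonempty ((X ⧸ Subgroup.center X) ≃* (Y ⧸ Subgroup.center Y)) :=
  ⟨QuotientGroup.congr _ _ e (by
    ext x
    constructor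
    · rintro ⟨y, hy, rfl⟩
      exact (Subgroup.centerCongr e ⟨y, hy⟩).2
    · intro hx
      exact ⟨e.symm x, (Subgroup.centerCongr e.symm ⟨x, hx⟩).2, e.apply_symm_apply x⟩)⟩

variable {G : Type*} [Group G] [Finite G]

/-- **The unique abelian subgroup of order 64 is normal.** -/
theorem normal_of_type (hO : oddCore G = ⊥) (S : Sylow 2 G) (e : ↥(S : Subgroup G) ≃* Quo) {A : Subgroup G}
    (huniq : ∀ B : Subgroup G, B ≤ (S : Subgroup G) → IsMulCommutative ↥B → Nat.card ↥B = 64 → B = A) :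
    A.Normal := by
  obtain ⟨φ, hφ⟩ := exists_hyp (S : Subgroup G) e
  have h1 : φ 0 = 1 := by
    have h := hφ.mul 0 (by norm_num) 0 (by norm_num)
    rw [(invI_spec (show 0 < 512 by norm_num)).2.2.2.1] at h
    exact right_eq_mul.1 h
  have hx64 : ∀ {a b : ℕ}, a < 64 → b < 64 → mS a b < 64 := fun {a b} ha hb => by
    rw [(xor_facts ha hb).1]; exact Nat.xor_lt_two_pow (n := 6) ha hb
  let B : Subgroup G :=
    { carrier := {x | ∃ i < 64, φ i = x}
      one_mem' := ⟨0, by norm_num, h1⟩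
      mul_mem' := by
        rintro _ _ ⟨a, ha, rfl⟩ ⟨b, hb, rfl⟩
        exact ⟨_, hx64 ha hb, hφ.mul a (by omega) b (by omega)⟩
      inv_mem' := by
        rintro _ ⟨a, ha, rfl⟩
        refine ⟨a, ha, (inv_eq_of_mul_eq_one_right ?_).symm⟩
        rw [← hφ.mul a (by omega) a (by omega), (xor_facts ha ha).1, show Nat.xor a a = a ^^^ a from rfl,
          Nat.xor_self, h1] }
  have hB : ∀ x, x ∈ B ↔ ∃ i < 64, φ i = x := fun x => Iff.rfl
  have hBS : B ≤ (S : Subgroup G) := by
    rintro _ ⟨i, hi, rfl⟩; exact hφ.mem i (by omega)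
  have hBc : IsMulCommutative ↥B := ⟨⟨fun ⟨_, a, ha, ea⟩ ⟨_, b, hb, eb⟩ => Subtype.ext (by
    subst ea; subst eb
    show φ a * φ b = φ b * φ a
    have h := (xor_facts ha hb).2
    rw [cmt, beq_iff_eq] at h
    rw [← hφ.mul a (by omega) b (by omega), h, hφ.mul b (by omega) a (by omega)])⟩⟩
  have hB64 : Nat.card B = 64 := by
    have hb : Function.Bijective (fun i : Fin 64 => (⟨φ i, i, i.2, rfl⟩ : B)) := by
      refine ⟨fun i j e => Fin.ext (hφ.inj i (by omega) j (by omega) (congrArg Subtype.val e)), fun x => ?_⟩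
      obtain ⟨i, hi, e⟩ := x.2
      exact ⟨⟨i, hi⟩, Subtype.ext e⟩
    rw [← Nat.card_eq_of_bijective _ hb, Nat.card_fin]
  have hBA := huniq B hBS hBc hB64
  exact Ctx.normal ⟨hφ, fun x => by rw [← hBA]; exact hB x, huniq⟩ hO

/-- **The extraspecial subgroup is normal when the centre is central.** -/
theorem extraspecial_normal {H : Type*} [Group H] [Finite H] (hO : oddCore H = ⊥) (T : Sylow 2 H)
    (e : ↥(T : Subgroup H) ≃* HS pcs)
    (hZ : ∀ z ∈ (T : Subgroup H), (∀ t ∈ (T : Subgroup H), z * t = t * z) → z ∈ Subgroup.center H)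
    {E : Subgroup H} (hE : E ≤ (T : Subgroup H)) (hEn : (E.subgroupOf (T : Subgroup H)).Normal)
    (hEx : IsExtraspecial 2 ↥E) (hE7 : Nat.card ↥E = 2 ^ 7) : E.Normal := by
  haveI := Fact.mk Nat.prime_two
  set Z : Subgroup H := (Subgroup.center ↥(T : Subgroup H)).map (T : Subgroup H).subtype with hZdef
  have hZc : Z ≤ Subgroup.center H := by
    rintro _ ⟨z, hz, rfl⟩
    exact hZ _ z.2 fun t ht => (congrArg Subtype.val (Subgroup.mem_center_iff.1 hz ⟨t, ht⟩)).symm
  haveI hZn : Z.Normal := ⟨fun z hz g => by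
    rw [Subgroup.mem_center_iff.1 (hZc hz) g, mul_inv_cancel_right]; exact hz⟩
  have hZ2 : Nat.card Z = 2 := by
    rw [hZdef, Subgroup.card_map_of_injective (T : Subgroup H).subtype_injective,
      Nat.card_congr (Subgroup.centerCongr e).toEquiv, card_center]
  have hZT : Z ≤ (T : Subgroup H) := Subgroup.map_subtype_le _
  let π : H →* H ⧸ Z := QuotientGroup.mk' Z
  have hπs : Function.Surjective π := QuotientGroup.mk'_surjective Z
  have hπone : ∀ u : H, π u = 1 ↔ u ∈ Z := fun u => QuotientGroup.eq_one_iff u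
  -- the centre of `E`
  set ZE : Subgroup H := (Subgroup.center ↥E).map E.subtype with hZE
  have hZE2 : Nat.card ZE = 2 := by rw [hZE, Subgroup.card_map_of_injective E.subtype_injective]; exact hEx.2
  have hZEE : ZE ≤ E := Subgroup.map_subtype_le _
  have hTE : ∀ t ∈ (T : Subgroup H), ∀ x ∈ E, t * x * t⁻¹ ∈ E := fun t ht x hx =>
    hEn.conj_mem ⟨x, hE hx⟩ hx ⟨t, ht⟩
  have hTZE : ∀ t ∈ (T : Subgroup H), ∀ x ∈ ZE, t * x * t⁻¹ ∈ ZE := by
    intro t ht x hx
    obtain ⟨x, hx', rfl⟩ := hx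
    refine ⟨⟨_, hTE t ht x x.2⟩, Subgroup.mem_center_iff.2 fun u => Subtype.ext ?_, rfl⟩
    show (u : H) * (t * x * t⁻¹) = t * x * t⁻¹ * u
    have hu : t⁻¹ * u * t ∈ E := by simpa using hTE t⁻¹ (inv_mem ht) u u.2
    have h : t⁻¹ * (u : H) * t * x = x * (t⁻¹ * u * t) :=
      congrArg Subtype.val (Subgroup.mem_center_iff.1 hx' ⟨_, hu⟩)
    calc (u : H) * (t * x * t⁻¹) = t * (t⁻¹ * u * t * x) * t⁻¹ := by group
      _ = t * (x * (t⁻¹ * u * t)) * t⁻¹ := by rw [h]
      _ = _ := by group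
  have hZEeq : ZE = Z := by
    refine Subgroup.eq_of_le_of_card_ge (fun x hx => ?_) (by rw [hZE2, hZ2])
    refine ⟨⟨x, hE (hZEE hx)⟩, Subgroup.mem_center_iff.2 fun t => Subtype.ext ?_, rfl⟩
    show (t : H) * x = x * t
    by_cases hx1 : x = 1
    · rw [hx1, one_mul, mul_one]
    · have hmem := hTZE t t.2 x hx
      have h2 : ∀ y ∈ ZE, y = 1 ∨ y = x := by
        intro y hy
        by_contra hy'
        simp only [not_or] at hy'
        let f : Fin 3 → ZE := ![1, ⟨x, hx⟩, ⟨y, hy⟩]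
        have hf : Function.Injective f := by
          intro i j hij
          have h := congrArg Subtype.val hij
          fin_cases i <;> fin_cases j <;> first
            | rfl
            | (simp [f] at h; exfalso; first | exact hx1 h | exact hx1 h.symm | exact hy'.1 h | exact hy'.1 h.symm | exact hy'.2 h | exact hy'.2 h.symm)
        have := Nat.card_le_card_of_injective f hf
        rw [hZE2, Nat.card_fin] at this
        omega
      rcases h2 _ hmem with h | h
      · exact absurd (conj_eq_one_iff.1 h) hx1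
      · exact mul_inv_eq_iff_eq_mul.1 h
  have hZE' : Z ≤ E := hZEeq ▸ hZEE
  -- the quotient has no core
  have hOQ : oddCore (H ⧸ Z) = ⊥ := by
    set K := (oddCore (H ⧸ Z)).comap π with hK
    haveI hKn : K.Normal := (Transfer.pPrimeCore_normal 2 _).comap π
    have hZK : Z ≤ K := fun z hz => Subgroup.mem_comap.2 (by rw [(hπone z).2 hz]; exact one_mem _)
    obtain ⟨R, -⟩ := ((T.2.to_le hZT).comap_subtype (K := K)).exists_le_sylow
    have hRZ : ∀ p ∈ (R : Subgroup K), (p : H) ∈ Z := by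
      intro p hp
      rw [← hπone]
      refine A8ThreeClass.orderOf_one_of_two_group_odd ?_ ?_
      · obtain ⟨j, hj⟩ := IsPGroup.iff_orderOf.1 R.2 ⟨p, hp⟩
        refine ⟨j, (orderOf_map_dvd π (p : H)).trans ?_⟩
        rw [Subgroup.orderOf_coe, ← hj, ← Subgroup.orderOf_coe ⟨p, hp⟩]
      · exact (Nat.coprime_two_right.1 (Transfer.pPrimeCore_coprime 2)).of_dvd_nat
          (Subgroup.orderOf_dvd_natCard _ (Subgroup.mem_comap.1 p.2))
    have hc : Subgroup.normalizer ((R : Subgroup K) : Set K) ≤ Subgroup.centralizer ((R : Subgroup K) : Set K) :=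
      fun y _ z hz => Subtype.ext ((Subgroup.mem_center_iff.1 (hZc (hRZ z hz)) (y : H)).symm)
    have hOK : A8ThreeClass.Oi K = ⊥ := by
      refine eq_bot_iff.2 ((Transfer.le_pPrimeCore (p := 2) ?_ ?_).trans hO.le)
      · exact ⟨fun x hx g => A8ThreeClass.Oi_conj (by rw [Subgroup.normalizer_eq_top]; trivial) hx⟩
      · exact Nat.coprime_two_right.2 (A8ThreeClass.Oi_card_odd K)
    refine eq_bot_iff.2 fun q hq => ?_
    obtain ⟨x, rfl⟩ := hπs q
    obtain ⟨o, ho, p, hp, ep⟩ := A8ThreeClass.core_mul_sylow R hc ⟨x, hq⟩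
    have ho' : (o : H) ∈ A8ThreeClass.Oi K := ⟨o, ho, rfl⟩
    rw [hOK, Subgroup.mem_bot] at ho'
    have hx' : x = (o : H) * (p : H) := congrArg Subtype.val ep
    rw [Subgroup.mem_bot, hπone, hx', ho', one_mul]
    exact hRZ p hp
  -- the Sylow subgroup of the quotient
  let S : Sylow 2 (H ⧸ Z) := T.mapSurjective hπs
  let ψ : ↥(T : Subgroup H) →* H ⧸ Z := π.comp (T : Subgroup H).subtype
  have hker : ψ.ker = Subgroup.center ↥(T : Subgroup H) := by
    ext u
    rw [MonoidHom.mem_ker]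
    show π (u : H) = 1 ↔ _
    rw [hπone]
    exact ⟨fun ⟨z, hz, e⟩ => Subtype.ext e ▸ hz, fun hu => ⟨u, hu, rfl⟩⟩
  have hrange : ψ.range = (S : Subgroup (H ⧸ Z)) := by
    show ψ.range = ((T.mapSurjective hπs : Sylow 2 (H ⧸ Z)) : Subgroup (H ⧸ Z))
    rw [Sylow.coe_mapSurjective, MonoidHom.range_comp, Subgroup.range_subtype]
  obtain ⟨eq⟩ := quot_center_congr e
  let eS : ↥(S : Subgroup (H ⧸ Z)) ≃* Quo :=
    (MulEquiv.subgroupCongr hrange.symm).trans ((QuotientGroup.quotientKerEquivRange ψ).symm.trans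
      ((QuotientGroup.quotientMulEquivOfEq hker).trans eq))
  set A := E.map π with hA
  have hAc : IsMulCommutative ↥A := ⟨⟨fun ⟨_, x, hx, ex⟩ ⟨_, y, hy, ey⟩ => Subtype.ext (by
    subst ex; subst ey
    show π x * π y = π y * π x
    rw [← map_mul, ← map_mul, ← mul_inv_eq_one, ← map_inv, ← map_mul, hπone, ← hZEeq]
    refine ⟨⟨x, hx⟩ * ⟨y, hy⟩ * (⟨y, hy⟩ * ⟨x, hx⟩)⁻¹, ?_, rfl⟩
    rw [← hEx.1.2.2, commutator_def]
    have h := Subgroup.commutator_mem_commutator (Subgroup.mem_top (⟨x, hx⟩ : E)) (Subgroup.mem_top (⟨y, hy⟩ : E))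
    rw [commutatorElement_def] at h
    rw [SetLike.mem_coe]
    convert h using 1
    group)⟩⟩
  have hA64 : Nat.card A = 64 := by
    let χ : ↥E →* H ⧸ Z := π.comp E.subtype
    have hk : χ.ker = Z.subgroupOf E := by ext u; exact hπone _
    have hr : χ.range = A := by rw [hA, MonoidHom.range_comp, Subgroup.range_subtype]
    have h := χ.ker.card_mul_index
    rw [Subgroup.index_ker, hr, hk, Nat.card_congr (Subgroup.subgroupOfEquivOfLe hZE').toEquiv, hZ2, hE7] at h
    omega
  have hAS : A ≤ (S : Subgroup (H ⧸ Z)) := by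
    rintro _ ⟨x, hx, rfl⟩
    rw [← hrange]
    exact ⟨⟨x, hE hx⟩, rfl⟩
  have hu := (Props.congr eS.symm props_Quo).2.2
  have huniq : ∀ B : Subgroup (H ⧸ Z), B ≤ (S : Subgroup (H ⧸ Z)) → IsMulCommutative ↥B → Nat.card ↥B = 64 →
      B = A := by
    intro B hB hBc hB64
    have hcongr : ∀ {X : Subgroup (H ⧸ Z)}, X ≤ (S : Subgroup (H ⧸ Z)) → IsMulCommutative ↥X →
        IsMulCommutative ↥(X.subgroupOf (S : Subgroup (H ⧸ Z))) := fun {X} _ hXc =>
      ⟨⟨fun u v => Subtype.ext (Subtype.ext (congrArg Subtype.val (hXc.is_comm.comm ⟨_, u.2⟩ ⟨_, v.2⟩) :))⟩⟩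
    have h := hu (B.subgroupOf _) (A.subgroupOf _) (hcongr hB hBc)
      (by rw [Nat.card_congr (Subgroup.subgroupOfEquivOfLe hB).toEquiv, hB64]) (hcongr hAS hAc)
      (by rw [Nat.card_congr (Subgroup.subgroupOfEquivOfLe hAS).toEquiv, hA64])
    rw [← Subgroup.map_subgroupOf_eq_of_le hB, h, Subgroup.map_subgroupOf_eq_of_le hAS]
  have hAn := normal_of_type hOQ S eS huniq
  have hEeq : E = A.comap π := by
    refine le_antisymm (Subgroup.le_comap_map π E) fun x hx => ?_
    obtain ⟨y, hy, ey⟩ := hx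
    have hxy : y⁻¹ * x ∈ Z := by rw [← hπone, map_mul, map_inv, ey, inv_mul_cancel]
    simpa using mul_mem hy (hZE' hxy)
  rw [hEeq]
  exact hAn.comap π

end CfsgLib.M24Syl
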