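import Cfsg.Agent.Lib.Golay.SylowQuot.Main

/-!
A table for the quotient of a Sylow 2-subgroup of the largest group on 24 points by its centre: the index `i`
stands for the product of the element `i % 64` of the abelian subgroup and the element `i / 64` of a dihedral
complement. The tables were found by computer and are checked here.
-/

set_option autoImplicit false
set_option linter.style.haveILetI false
set_option linter.unusedSectionVars false
set_option linter.style.longLine false

namespace CfsgLib.M24Syl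

open Cfsg CfsgLib.Golay CfsgLib.Golay.SylowTwo CfsgLib.Golay.SylowQuot

/-- the action of the complement -/
def aTab : ℕ := 0xf3dfbfebbe39d35db7cb3c31b2dbafaaba299259a78a382175c7de6da6585545d64d245034c3ce2ca2481441c60c2040db7d35ebbe39fbff3dcb3c319e6964aeaa68beeb6c8e286059751569b61979f71d4934111c61442ca2483ce34c0c2040beeb6caeaa689649e68608e2ffef7cefae78d74df6c70cf275c7de6586da5d65544d245034c3ce2482ca1c61440c20409259a7aaba29bafb2d8218a3d74df6efae78ffef7cc70cf259751561969b71d79f4934111c61442482ca34c3ce0c20409e6964aeaa68b6cbee8608e2db7d35ebbe39f3dfbfc31cb351559761969b79f71d4934111441c62482ca3ce34c0c2040b2dbafaaba299a79258218a3f3dfbfebbe39db7d35c31cb37de75c6586da5545d64d24503ce34c2482ca1441c60c2040d74df6efae78f7cffecf2c709259a7aaba29b2dbaf8a382151559769b61971d79f4934111441c62ca24834c3ce0c2040ffef7cefae78df6d74cf2c70beeb6caeaa689e69648e28607de75c6da6585d65544d24503ce34c2ca2481c61440c2040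

/-- the multiplication of the complement -/
def dTab : ℕ := 0x5397721ab3e5063dd74f1948b0e6baf9c22de54c1fac688

/-- the inverses in the complement -/
def iTab : ℕ := 0xfab888

/-- the action -/
def actD (d a : ℕ) : ℕ := (aTab >>> (6 * (64 * d + a))) % 64

/-- the product in the complement -/
def mD (d e : ℕ) : ℕ := (dTab >>> (3 * (8 * d + e))) % 8

/-- the inverse in the complement -/
def iD (d : ℕ) : ℕ := (iTab >>> (3 * d)) % 8

/-- multiplication -/
def mS (i j : ℕ) : ℕ := Nat.xor (i % 64) (actD (i / 64) (j % 64)) + 64 * mD (i / 64) (j / 64)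

/-- inverse -/
def invI (i : ℕ) : ℕ := actD (iD (i / 64)) (i % 64) + 64 * iD (i / 64)

/-- the packed generators -/
def gL : List ℕ := [943991892970374580361961780749373472, 801059755886131716676583717237065998, 134494768305445120429282804774976688, 398801231526973045664453934096683009, 882347074556571235891377114639350816, 636894972491819688304172678947867649, 275828268776101517265707963176756494, 938975783065555951975173221976882222]

/-- the indices of the generators -/
def gI : List ℕ := [1, 2, 4, 8, 16, 32, 64, 128]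

/-- the words of the complement -/
def dW : List (List ℕ) := [[], [6], [7], [6, 7], [7, 6], [6, 7, 6], [7, 6, 7], [6, 7, 6, 7]]

/-- the packed element of an index -/
def rep (i : ℕ) : ℕ :=
  (((List.range 6).filter fun k => i.testBit k) ++ dW.getD (i / 64) []).foldl
    (fun P k => mulP P (gL.getD k idP)) idP

theorem act_ok : ((List.range 8).all fun d => (List.range 64).all fun a =>
    Nat.blt (actD d a) 64 &&
      ((List.range 6).all fun k => actD d (Nat.xor a (2 ^ k)) == Nat.xor (actD d a) (actD d (2 ^ k))) &&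
      (List.range 8).all fun e => actD (mD d e) a == actD d (actD e a)) = true := by decide +kernel

theorem dih_ok : ((List.range 8).all fun d => Nat.blt (iD d) 8 && mD d (iD d) == 0 && mD (iD d) d == 0 &&
    mD 0 d == d && mD d 0 == d &&
      (List.range 8).all fun e => Nat.blt (mD d e) 8 &&
        (List.range 8).all fun f => mD (mD d e) f == mD d (mD e f)) = true := by decide +kernel

theorem actD_lt {d a : ℕ} (hd : d < 8) (ha : a < 64) : actD d a < 64 := by
  have h := act_ok
  simp only [List.all_eq_true, List.mem_range, Bool.and_eq_true, Nat.blt_eq] at h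
  exact (h d hd a ha).1.1

theorem actD_comp {d e a : ℕ} (hd : d < 8) (he : e < 8) (ha : a < 64) : actD (mD d e) a = actD d (actD e a) := by
  have h := act_ok
  simp only [List.all_eq_true, List.mem_range, Bool.and_eq_true, beq_iff_eq] at h
  exact (h d hd a ha).2 e he

theorem actD_xor {d a b : ℕ} (hd : d < 8) (ha : a < 64) (hb : b < 64) :
    actD d (Nat.xor a b) = Nat.xor (actD d a) (actD d b) := by
  have h := act_ok
  simp only [List.all_eq_true, List.mem_range, Bool.and_eq_true, beq_iff_eq] at h
  have hstep : ∀ a < 64, ∀ k < 6, actD d (Nat.xor a (2 ^ k)) = Nat.xor (actD d a) (actD d (2 ^ k)) :=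
    fun a ha k hk => (h d hd a ha).1.2 k hk
  have hz : ∀ c < 64, c ≠ 0 → ∃ k < 6, ∃ c' < c, c = Nat.xor c' (2 ^ k) := by decide +kernel
  revert hb
  induction b using Nat.strong_induction_on with
  | _ b ih =>
    intro hb
    by_cases hb0 : b = 0
    · subst hb0
      have h0 : ∀ d < 8, actD d 0 = 0 := by decide +kernel
      rw [h0 d hd]
      show actD d (a ^^^ 0) = actD d a ^^^ 0
      simp
    · obtain ⟨k, hk, c, hc, rfl⟩ := hz b hb hb0
      have hc64 : c < 64 := by omega
      have hac : Nat.xor a c < 64 := Nat.xor_lt_two_pow (n := 6) ha hc64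
      rw [show Nat.xor a (Nat.xor c (2 ^ k)) = Nat.xor (Nat.xor a c) (2 ^ k) from (Nat.xor_assoc a c _).symm,
        hstep _ hac k hk, ih c hc hc64, hstep c hc64 k hk]
      exact Nat.xor_assoc _ _ _

theorem mD_spec {d e : ℕ} (hd : d < 8) (he : e < 8) :
    mD d e < 8 ∧ ∀ f < 8, mD (mD d e) f = mD d (mD e f) := by
  have h := dih_ok
  simp only [List.all_eq_true, List.mem_range, Bool.and_eq_true, Nat.blt_eq, beq_iff_eq] at h
  exact (h d hd).2 e he

theorem mS_parts {i j : ℕ} (hi : i < 512) (hj : j < 512) :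
    mS i j % 64 = Nat.xor (i % 64) (actD (i / 64) (j % 64)) ∧ mS i j / 64 = mD (i / 64) (j / 64) ∧
      mS i j < 512 := by
  have h1 : Nat.xor (i % 64) (actD (i / 64) (j % 64)) < 64 :=
    Nat.xor_lt_two_pow (n := 6) (Nat.mod_lt _ (by norm_num)) (actD_lt (by omega) (Nat.mod_lt _ (by norm_num)))
  have h2 := (mD_spec (d := i / 64) (e := j / 64) (by omega) (by omega)).1
  unfold mS
  omega

theorem mS_lt {i j : ℕ} (hi : i < 512) (hj : j < 512) : mS i j < 512 := (mS_parts hi hj).2.2

theorem mS_assoc {i j k : ℕ} (hi : i < 512) (hj : j < 512) (hk : k < 512) :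
    mS (mS i j) k = mS i (mS j k) := by
  obtain ⟨a1, a2, a3⟩ := mS_parts hi hj
  obtain ⟨b1, b2, b3⟩ := mS_parts hj hk
  conv_lhs => rw [mS, a1, a2]
  conv_rhs => rw [mS, b1, b2]
  rw [(mD_spec (by omega) (by omega)).2 _ (by omega), actD_comp (by omega) (by omega) (Nat.mod_lt _ (by norm_num)),
    actD_xor (by omega) (Nat.mod_lt _ (by norm_num)) (actD_lt (by omega) (Nat.mod_lt _ (by norm_num)))]
  congr 1
  exact Nat.xor_assoc _ _ _

theorem one_ok : ((List.range 512).all fun i => Nat.blt (invI i) 512 && mS i (invI i) == 0 &&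
    mS (invI i) i == 0 && mS 0 i == i && mS i 0 == i) = true := by decide +kernel

theorem invI_spec {i : ℕ} (hi : i < 512) :
    invI i < 512 ∧ mS i (invI i) = 0 ∧ mS (invI i) i = 0 ∧ mS 0 i = i ∧ mS i 0 = i := by
  have h := one_ok
  simp only [List.all_eq_true, List.mem_range, Bool.and_eq_true, Nat.blt_eq, beq_iff_eq] at h
  obtain ⟨⟨⟨⟨a, b⟩, c⟩, d⟩, e⟩ := h i hi
  exact ⟨a, b, c, d, e⟩

/-- conjugation of indices -/
def cjI (p i : ℕ) : ℕ := mS (mS p i) (invI p)

/-- commutator of indices -/
def cmI (a b : ℕ) : ℕ := mS (mS a b) (mS (invI a) (invI b))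

theorem word_ok : ((List.range 512).all fun j => j == 0 ||
    (List.range 8).any fun k =>
      Nat.blt (mS j (invI (gI.getD k 0))) j) = true := by decide +kernel

theorem gens_ok : ((List.range 8).all fun k => inL (els pcs) (gL.getD k idP) && validP (gL.getD k idP)) = true := by
  decide +kernel

theorem step_ok : ((List.range 512).all fun i => (List.range 8).all fun k =>
    eqP (rep (mS i (gI.getD k 0))) (mulP (rep i) (gL.getD k idP)) ||
      eqP (rep (mS i (gI.getD k 0))) (mulP zc (mulP (rep i) (gL.getD k idP)))) = true := by decide +kernel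

theorem faith_ok : ((List.range 512).all fun i => i == 0 || !triv (rep i)) = true := by decide +kernel

theorem rep_valid (i : ℕ) : validP (rep i) = true ∧ toPerm (rep i) ∈ HS pcs := by
  have h := gens_ok
  simp only [List.all_eq_true, List.mem_range, Bool.and_eq_true] at h
  have hg : ∀ k, validP (gL.getD k idP) = true ∧ toPerm (gL.getD k idP) ∈ HS pcs := by
    intro k
    by_cases hk : k < 8
    · exact ⟨(h k hk).2, inL_valid (h k hk).2 (h k hk).1⟩
    · rw [List.getD_eq_default _ _ (by have : gL.length = 8 := rfl; omega)]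
      exact ⟨validP_idP, by rw [toPerm_idP]; exact one_mem _⟩
  have key : ∀ (g : ℕ → ℕ), (∀ k, validP (g k) = true ∧ toPerm (g k) ∈ HS pcs) → ∀ (l : List ℕ) (P : ℕ),
      validP P = true → toPerm P ∈ HS pcs → validP (l.foldl (fun P k => mulP P (g k)) P) = true ∧
        toPerm (l.foldl (fun P k => mulP P (g k)) P) ∈ HS pcs := by
    intro g hg l
    induction l with
    | nil => exact fun P h1 h2 => ⟨h1, h2⟩
    | cons a l ih =>
      intro P h1 h2
      rw [List.foldl_cons]
      refine ih _ (validP_mulP h1 (hg a).1) ?_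
      rw [toPerm_mulP h1 (hg a).1]
      exact mul_mem h2 (hg a).2
  rw [rep]
  exact key (fun k => gL.getD k idP) hg _ idP validP_idP (by rw [toPerm_idP]; exact one_mem _)

attribute [local irreducible] rep

/-- the element of the quotient of an index -/
noncomputable def f0 (i : ℕ) : Quo := img (rep i)

theorem f0_zero : f0 0 = 1 := by
  rw [f0, show rep 0 = idP by decide +kernel,
    img_eq (show toPerm idP ∈ HS pcs by rw [toPerm_idP]; exact one_mem _), QuotientGroup.eq_one_iff]
  exact mem_center.2 (Or.inl (Subtype.ext toPerm_idP))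

theorem f0_step {i k : ℕ} (hi : i < 512) (hk : k < 8) :
    f0 (mS i (gI.getD k 0)) = f0 i * img (gL.getD k idP) := by
  have h := step_ok
  simp only [List.all_eq_true, List.mem_range, Bool.or_eq_true] at h
  have hg := gens_ok
  simp only [List.all_eq_true, List.mem_range, Bool.and_eq_true] at hg
  obtain ⟨hgi, hgv⟩ := hg k hk
  have hgm := inL_valid hgv hgi
  obtain ⟨hPv, hPm⟩ := rep_valid i
  obtain ⟨hQv, -⟩ := rep_valid (mS i (gI.getD k 0))
  have hm : toPerm (mulP (rep i) (gL.getD k idP)) ∈ HS pcs := by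
    rw [toPerm_mulP hPv hgv]; exact mul_mem hPm hgm
  rw [f0, f0, ← img_mul hPv hgv hPm hgm]
  rcases h i hi k hk with e | e
  · exact img_congr hQv (validP_mulP hPv hgv) e
  · have hz : img zc = 1 := by
      rw [img_eq zc_mem, QuotientGroup.eq_one_iff]
      exact mem_center.2 (Or.inr rfl)
    rw [img_congr hQv (validP_mulP zc_valid (validP_mulP hPv hgv)) e,
      img_mul zc_valid (validP_mulP hPv hgv) zc_mem hm, hz, one_mul]

theorem f0_mul {i : ℕ} (hi : i < 512) : ∀ j < 512, f0 (mS i j) = f0 i * f0 j := by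
  have hw := word_ok
  simp only [List.all_eq_true, List.any_eq_true, List.mem_range, Bool.or_eq_true, beq_iff_eq, Nat.blt_eq] at hw
  have hg : ∀ k < 8, gI.getD k 0 < 512 := by decide
  intro j
  induction j using Nat.strong_induction_on with
  | _ j ih =>
    intro hj
    rcases hw j hj with rfl | ⟨k, hk, hlt⟩
    · rw [f0_zero, mul_one, (invI_spec hi).2.2.2.2]
    · obtain ⟨g1, -, g3, -, -⟩ := invI_spec (hg k hk)
      set j' := mS j (invI (gI.getD k 0)) with hj'
      have hj'512 : j' < 512 := by omega
      have e : mS j' (gI.getD k 0) = j := by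
        rw [hj', mS_assoc hj g1 (hg k hk), g3, (invI_spec hj).2.2.2.2]
      rw [← e, ← mS_assoc hi hj'512 (hg k hk), f0_step (mS_lt hi hj'512) hk, ih j' hlt hj'512,
        f0_step hj'512 hk, mul_assoc]

theorem f0_inj {i j : ℕ} (hi : i < 512) (hj : j < 512) (e : f0 i = f0 j) : i = j := by
  obtain ⟨hI, h1, h2, -, -⟩ := invI_spec hi
  obtain ⟨-, -, -, h4, -⟩ := invI_spec hj
  have hk : f0 (mS (invI i) j) = 1 := by
    rw [f0_mul hI j hj, ← e, ← f0_mul hI i hi, h2, f0_zero]
  obtain ⟨hPv, hPm⟩ := rep_valid (mS (invI i) j)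
  rw [f0, img_eq hPm, QuotientGroup.eq_one_iff] at hk
  have h := faith_ok
  simp only [List.all_eq_true, List.mem_range, Bool.or_eq_true, beq_iff_eq, Bool.not_eq_true'] at h
  have h0 : mS (invI i) j = 0 := by
    refine (h _ (mS_lt hI hj)).resolve_right fun ht => ?_
    rcases mem_center.1 hk with h3 | h3
    · have h3' : toPerm (rep (mS (invI i) j)) = toPerm idP := (congrArg Subtype.val h3).trans toPerm_idP.symm
      have := eqP_of_toPerm_eq hPv validP_idP h3'
      simp [triv, this] at ht
    · have := eqP_of_toPerm_eq hPv zc_valid (congrArg Subtype.val h3)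
      simp [triv, this] at ht
  have := mS_assoc hi hI hj
  rw [h1, h4, h0, (invI_spec hi).2.2.2.2] at this
  exact this.symm

/-- `S` is described by `φ` on the indices below 512. -/
structure Hyp {G : Type*} [Group G] (φ : ℕ → G) (S : Subgroup G) : Prop where
  mem : ∀ i < 512, φ i ∈ S
  surj : ∀ x ∈ S, ∃ i < 512, φ i = x
  inj : ∀ i < 512, ∀ j < 512, φ i = φ j → i = j
  mul : ∀ i < 512, ∀ j < 512, φ (mS i j) = φ i * φ j

theorem f0_surj (y : Quo) : ∃ i < 512, f0 i = y := by
  have hb : Function.Bijective (fun i : Fin 512 => f0 i) := by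
    refine (Nat.bijective_iff_injective_and_card _).2 ⟨fun i j e => Fin.ext (f0_inj i.2 j.2 e), ?_⟩
    rw [Nat.card_fin, card_Quo]
  obtain ⟨i, hi⟩ := hb.2 y
  exact ⟨i, i.2, hi⟩

/-- A subgroup isomorphic to the quotient has this table. -/
theorem exists_hyp {G : Type*} [Group G] (S : Subgroup G) (e : S ≃* Quo) : ∃ φ : ℕ → G, Hyp φ S := by
  refine ⟨fun i => (e.symm (f0 i) : G), ⟨fun i _ => SetLike.coe_mem _, fun x hx => ?_, fun i hi j hj h => ?_,
    fun i hi j hj => ?_⟩⟩
  · obtain ⟨i, hi, h⟩ := f0_surj (e ⟨x, hx⟩)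
    exact ⟨i, hi, by show (e.symm (f0 i) : G) = x; rw [h, e.symm_apply_apply]⟩
  · exact f0_inj hi hj (e.symm.injective (Subtype.ext h))
  · show (e.symm (f0 (mS i j)) : G) = _
    rw [f0_mul hi j hj, map_mul]; rfl

end CfsgLib.M24Syl
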