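import Cfsg.Agent.Lib.M24Syl.Model

/-!
The dihedral complement as permutations of the 64 indices.
-/

set_option autoImplicit false
set_option linter.style.longLine false

namespace CfsgLib.M24Syl

/-- addition of indices -/
def xr (a b : Fin 64) : Fin 64 := ⟨Nat.xor a b, Nat.xor_lt_two_pow (n := 6) a.2 b.2⟩

/-- multiplication in the complement -/
def md (d e : Fin 8) : Fin 8 := ⟨mD d e % 8, Nat.mod_lt _ (by norm_num)⟩

/-- inversion in the complement -/
def idv (d : Fin 8) : Fin 8 := ⟨iD d % 8, Nat.mod_lt _ (by norm_num)⟩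

/-- the action as a function -/
def actF (d : Fin 8) (a : Fin 64) : Fin 64 := ⟨actD d a % 64, Nat.mod_lt _ (by norm_num)⟩

theorem actF_ok : ∀ d : Fin 8, ∀ a : Fin 64, actF (idv d) (actF d a) = a ∧ actF d (actF (idv d) a) = a := by
  decide +kernel

/-- the elements of the complement as permutations -/
def dl (d : Fin 8) : Equiv.Perm (Fin 64) :=
  ⟨actF d, actF (idv d), fun a => (actF_ok d a).1, fun a => (actF_ok d a).2⟩

theorem dl_apply (d : Fin 8) (a : Fin 64) : dl d a = actF d a := rfl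

theorem actF_comp : ∀ d e : Fin 8, ∀ a : Fin 64, actF (md d e) a = actF d (actF e a) := by decide +kernel

theorem dl_mul (d e : Fin 8) : dl (md d e) = dl d * dl e := Equiv.ext fun a => actF_comp d e a

theorem dl_one : dl 0 = 1 := Equiv.ext fun a => by
  have h : ∀ a : Fin 64, actF 0 a = a := by decide +kernel
  exact h a

theorem dl_faithful : ∀ d : Fin 8, (∀ a : Fin 64, actF d a = a) → d = 0 := by decide +kernel

theorem md_inj : ∀ d e : Fin 8, md (idv d) e = 0 → d = e := by decide +kernel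

theorem idv_ok : ∀ d : Fin 8, md (idv d) d = 0 ∧ md d (idv d) = 0 := by decide +kernel

theorem dl_inj {d e : Fin 8} (h : dl d = dl e) : d = e := by
  refine md_inj d e (dl_faithful _ fun a => ?_)
  rw [← dl_apply, dl_mul, ← h, ← dl_mul, (idv_ok d).1, dl_one]
  rfl

theorem dl_inv (d : Fin 8) : (dl d)⁻¹ = dl (idv d) := by
  refine inv_eq_of_mul_eq_one_right ?_
  rw [← dl_mul, (idv_ok d).2, dl_one]

/-- the fixed indices -/
def fixF (g : Equiv.Perm (Fin 64)) : Finset (Fin 64) := Finset.univ.filter fun a => g a = a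

/-- the commutators with the indices -/
def comF (g : Equiv.Perm (Fin 64)) : Finset (Fin 64) := Finset.univ.image fun a => xr a (g a)

theorem xr_facts : (∀ a : Fin 64, xr a a = 0 ∧ xr a 0 = a ∧ xr 0 a = a) ∧
    (∀ a b : Fin 64, xr a b = xr b a ∧ xr a (xr a b) = b) := by decide +kernel

theorem xr_comm (a b : Fin 64) : xr a b = xr b a := (xr_facts.2 a b).1

theorem xr_assoc (a b c : Fin 64) : xr (xr a b) c = xr a (xr b c) := Fin.ext (Nat.xor_assoc a.1 b.1 c.1)

theorem pair_com : ∀ d e : Fin 8, (d ≠ 0 ∧ e ≠ 0 ∧ d ≠ e ∧ md d e = md e d ∧ md d d = 0 ∧ md e e = 0) →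
    ∀ c : Fin 64, actF d c = c → actF e c = c →
      (c ∈ comF (dl d) ∨ c ∈ comF (dl e) ∨ c ∈ comF (dl (md d e))) := by decide +kernel

theorem pair_meet : ∀ d e : Fin 8, (d ≠ 0 ∧ e ≠ 0 ∧ d ≠ e ∧ md d e = md e d ∧ md d d = 0 ∧ md e e = 0) →
    ((comF (dl d) ∩ comF (dl e)) ∩ comF (dl (md d e))).card ≤ 2 := by decide +kernel

theorem com_ok : (∀ d : Fin 8, md d d = 0 → d ≠ 0 → (comF (dl d)).card ≤ 4) ∧
    (∀ c : Fin 64, c ∈ comF (dl 1) → c ∈ comF (dl 2) → c = 0) := by decide +kernel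

/-- the fixed indices of the central element -/
def isCt (a : Fin 64) : Prop := actF 7 a = a

instance (a : Fin 64) : Decidable (isCt a) := by unfold isCt; infer_instance

/-- the first line -/
def inL1 (a : Fin 64) : Prop := isCt a ∧ actF 1 a = a

instance (a : Fin 64) : Decidable (inL1 a) := by unfold inL1; infer_instance

/-- the second line -/
def inL2 (a : Fin 64) : Prop := isCt a ∧ actF 2 a = a

instance (a : Fin 64) : Decidable (inL2 a) := by unfold inL2; infer_instance

theorem low_lines : ∀ a : Fin 64, a.1 < 4 → inL1 a ∧ inL2 a := by decide +kernel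

theorem com_seven : ∀ a : Fin 64, (xr a (actF 7 a)).1 < 4 := by decide +kernel

theorem com_ct : ∀ d : Fin 8, ∀ a : Fin 64, isCt a → (xr a (actF d a)).1 < 4 := by decide +kernel

theorem ct_dec : ∀ a : Fin 64, isCt a → ∃ b c : Fin 64, inL1 b ∧ inL2 c ∧ xr b c = a := by decide +kernel

theorem line1_diff : ∀ a b : Fin 64, inL1 a → inL1 b → 4 ≤ a.1 → 4 ≤ b.1 → (xr a b).1 < 4 := by decide +kernel

theorem line2_diff : ∀ a b : Fin 64, inL2 a → inL2 b → 4 ≤ a.1 → 4 ≤ b.1 → (xr a b).1 < 4 := by decide +kernel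

theorem line_of_invol : ∀ d : Fin 8, (md d d = 0 ∧ d ≠ 0 ∧ d ≠ 7) →
    ((∀ a : Fin 64, (isCt a → actF d a = a → inL1 a) ∧ (inL1 a → actF d a = a)) ∨
      (∀ a : Fin 64, (isCt a → actF d a = a → inL2 a) ∧ (inL2 a → actF d a = a))) := by decide +kernel

theorem line_ne : ∃ a : Fin 64, inL1 a ∧ ¬ inL2 a := by decide +kernel

theorem e_ok : ∀ d : Fin 8, d = 1 ∨ d = 6 →
    (∀ c ∈ comF (dl d), actF 7 c = c ∧ actF d c = c) ∧
    (∀ c : Fin 64, actF d c = c → xr c (actF 7 c) ∈ comF (dl d)) := by decide +kernel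

/-- the rotations and reflections -/
def dih : DihedralGroup 4 → Fin 8
  | .r i => [0, 3, 7, 4].getD i.val 0
  | .sr i => [1, 2, 6, 5].getD i.val 0

theorem dih4_ok : (∀ p q : DihedralGroup 4, dih (p * q) = md (dih p) (dih q)) ∧
    (∀ d : Fin 8, ∃ p, dih p = d) ∧ (∀ p q : DihedralGroup 4, dih p = dih q → p = q) := by decide +kernel

end CfsgLib.M24Syl
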