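import Cfsg.Agent.Lib.M24Syl.Fusion
import Cfsg.Agent.Lib.M24Syl.Closed2
import Cfsg.Agent.Lib.A8ThreeClass.CentZ
import Cfsg.Agent.Lib.ZStar.Main

/-!
By induction from `A` downwards, the centraliser of every subgroup `U` of `A` is the product of its odd core and
the part normalising `A`; for the trivial subgroup this is the normality of `A`.
-/

set_option autoImplicit false
set_option linter.style.haveILetI false
set_option linter.unusedSectionVars false
set_option linter.style.longLine false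

open Cfsg
open CfsgLib.A8ThreeClass (Cn mem_Cn mem_normalizer_of_conj Oi Oi_le Oi_conj Oi_card_odd le_Oi Oc le_Oc Split)

namespace CfsgLib.M24Syl

variable {G : Type*} [Group G] [Finite G] {S : Sylow 2 G} {A : Subgroup G} {φ : ℕ → G}

/-- the centraliser is the product of its core and the part normalising `A` -/
def Spl (A U : Subgroup G) : Prop :=
  ∀ g ∈ Subgroup.centralizer (U : Set G), ∃ o ∈ Oi (Subgroup.centralizer (U : Set G)),
    ∃ m ∈ Subgroup.normalizer (A : Set G), m ∈ Subgroup.centralizer (U : Set G) ∧ g = o * m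

namespace Ctx

variable (C : Ctx S A φ)
include C

/-- adjoining an element of `A` -/
theorem exists_ext {U : Subgroup G} (hU : U ≤ A) {a : G} (ha : a ∈ A) (haU : a ∉ U) :
    ∃ V : Subgroup G, V ≤ A ∧ Nat.card V = 2 * Nat.card U ∧ (∀ x, x ∈ V ↔ x ∈ U ∨ x * a ∈ U) := by
  have haa := C.A_sq ha
  refine ⟨{
    carrier := {x | x ∈ U ∨ x * a ∈ U}
    one_mem' := Or.inl (one_mem _)
    mul_mem' := ?_
    inv_mem' := ?_ }, ?_, ?_, fun x => Iff.rfl⟩
  · have hA : ∀ {x}, x * a ∈ U → x ∈ A := fun {x} hx => by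
      simpa using mul_mem (hU hx) (inv_mem ha)
    rintro x y (hx | hx) (hy | hy)
    · exact Or.inl (mul_mem hx hy)
    · exact Or.inr (by rw [mul_assoc]; exact mul_mem hx hy)
    · refine Or.inr ?_
      rw [mul_assoc, C.A_comm (hU hy) ha, ← mul_assoc]; exact mul_mem hx hy
    · refine Or.inl ?_
      have e : x * y = x * a * (y * a) := by
        rw [C.A_comm (hA hy) ha, mul_assoc x a, ← mul_assoc a a, haa, one_mul]
      rw [e]; exact mul_mem hx hy
  · rintro x (hx | hx)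
    · exact Or.inl (inv_mem hx)
    · refine Or.inr ?_
      have hxA : x ∈ A := by simpa using mul_mem (hU hx) (inv_mem ha)
      rw [inv_eq_of_mul_eq_one_right (C.A_sq hxA)]; exact hx
  · rintro x (hx | hx)
    · exact hU hx
    · simpa using mul_mem (hU hx) (inv_mem ha)
  · have hb : Function.Bijective (fun p : U × Bool =>
        (⟨if p.2 then (p.1 : G) * a else p.1, by
          split_ifs
          · exact Or.inr (by rw [mul_assoc, haa, mul_one]; exact p.1.2)
          · exact Or.inl p.1.2⟩ : {x : G // x ∈ U ∨ x * a ∈ U})) := by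
      refine ⟨?_, fun x => ?_⟩
      · rintro ⟨u, b⟩ ⟨u', b'⟩ e
        have e' := congrArg Subtype.val e
        cases b <;> cases b' <;> simp only [Bool.false_eq_true, if_false, if_true] at e'
        · rw [Subtype.ext e']
        · exact absurd (by rw [show a = (u' : G)⁻¹ * u by rw [e']; group]; exact mul_mem (inv_mem u'.2) u.2) haU
        · exact absurd (by rw [show a = (u : G)⁻¹ * u' by rw [← e']; group]; exact mul_mem (inv_mem u.2) u'.2) haU
        · rw [Subtype.ext (mul_right_cancel e')]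
      · rcases x.2 with hx | hx
        · exact ⟨(⟨x, hx⟩, false), rfl⟩
        · exact ⟨(⟨x * a, hx⟩, true), Subtype.ext (by simp [mul_assoc, haa])⟩
    have := (Nat.card_eq_of_bijective _ hb).symm
    rw [Nat.card_prod, Nat.card_eq_fintype_card (α := Bool), Fintype.card_bool, mul_comm] at this
    exact this

/-- an element fixing the coset of `a` splits, using the splitting for the larger subgroup -/
theorem lift_cent {U V : Subgroup G} (hU : U ≤ A) {a : G} (ha : a ∈ A)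
    (hV : ∀ x, x ∈ V ↔ x ∈ U ∨ x * a ∈ U) (hsp : Spl A V) {g : G}
    (hg : g ∈ Subgroup.centralizer (U : Set G)) (hga : g * a * g⁻¹ * a ∈ U) :
    g ∈ Subgroup.normalizer ((Subgroup.centralizer (V : Set G) : Subgroup G) : Set G) ∧
      ∃ o ∈ Oi (Subgroup.centralizer (V : Set G)), ∃ m ∈ Subgroup.normalizer (A : Set G),
        m ∈ Subgroup.centralizer (U : Set G) ∧ g = o * m ∧ m * a * m⁻¹ = g * a * g⁻¹ := by
  have haa := C.A_sq ha
  have hVA : ∀ x ∈ V, x ∈ A := fun x hx => by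
    rcases (hV x).1 hx with h | h
    · exact hU h
    · simpa using mul_mem (hU h) (inv_mem ha)
  have haV : a ∈ V := (hV a).2 (Or.inr (by rw [haa]; exact one_mem _))
  have hUV : U ≤ V := fun x hx => (hV x).2 (Or.inl hx)
  have hnorm : ∀ {u : G}, u ∈ Subgroup.centralizer (U : Set G) → u * a * u⁻¹ * a ∈ U →
      u ∈ Subgroup.normalizer ((Subgroup.centralizer (V : Set G) : Subgroup G) : Set G) := by
    intro u hu hua
    have huV : ∀ x ∈ V, u * x * u⁻¹ ∈ V := by
      intro x hx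
      rcases (hV x).1 hx with h | h
      · exact (hV _).2 (Or.inl (by rw [← hu x h, mul_inv_cancel_right]; exact h))
      · refine (hV _).2 (Or.inr ?_)
        have e : u * x * u⁻¹ * a = u * (x * a) * u⁻¹ * (u * a * u⁻¹ * a) := by
          calc u * x * u⁻¹ * a = u * x * (a * a) * u⁻¹ * a := by rw [haa]; group
            _ = _ := by group
        rw [e]
        refine mul_mem ?_ hua
        rw [← hu _ h, mul_inv_cancel_right]; exact h
    have hun := mem_normalizer_of_conj huV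
    refine mem_normalizer_of_conj fun c hc z hz => ?_
    have hz' := (Subgroup.mem_normalizer_iff.1 (inv_mem hun) z).1 hz
    have e := hc _ hz'
    calc z * (u * c * u⁻¹) = u * ((u⁻¹ * z * u⁻¹⁻¹) * c) * u⁻¹ := by group
      _ = u * (c * (u⁻¹ * z * u⁻¹⁻¹)) * u⁻¹ := by rw [e]
      _ = _ := by group
  have hgA : g * a * g⁻¹ ∈ A := by simpa using mul_mem (hU hga) (inv_mem ha)
  obtain ⟨n, hn, hnU, hna⟩ := C.fuse hU ha hg hgA
  have hna' : n * a * n⁻¹ * a ∈ U := by rw [hna]; exact hga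
  have hh : n⁻¹ * g ∈ Subgroup.centralizer (V : Set G) := by
    intro x hx
    have hmem : n⁻¹ * g ∈ Subgroup.centralizer (U : Set G) := mul_mem (inv_mem hnU) hg
    rcases (hV x).1 hx with h | h
    · exact hmem x h
    · have hac : n⁻¹ * g * a = a * (n⁻¹ * g) := by
        calc n⁻¹ * g * a = n⁻¹ * (g * a * g⁻¹) * g := by group
          _ = n⁻¹ * (n * a * n⁻¹) * g := by rw [hna]
          _ = a * (n⁻¹ * g) := by group
      have hxa := hmem _ h
      calc x * (n⁻¹ * g) = x * a * (a⁻¹ * (n⁻¹ * g)) := by group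
        _ = x * a * ((n⁻¹ * g) * a⁻¹) := by
          rw [(show Commute a (n⁻¹ * g) from hac.symm).inv_left.eq]
        _ = x * a * (n⁻¹ * g) * a⁻¹ := by group
        _ = (n⁻¹ * g) * (x * a) * a⁻¹ := by rw [hxa]
        _ = _ := by group
  obtain ⟨o, ho, m, hm, hmV, e⟩ := hsp _ hh
  refine ⟨hnorm hg hga, n * o * n⁻¹, Oi_conj (hnorm hnU hna') ho, n * m, mul_mem hn hm,
    mul_mem hnU (fun x hx => hmV x (hUV hx)), ?_, ?_⟩
  · calc g = n * (n⁻¹ * g) := by group
      _ = _ := by rw [e]; group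
  · have hma : m * a = a * m := (hmV a haV).symm
    calc n * m * a * (n * m)⁻¹ = n * (m * a) * m⁻¹ * n⁻¹ := by group
      _ = n * a * n⁻¹ := by rw [hma]; group
      _ = _ := hna

/-- the centraliser of `A` is the product of its core and `A` -/
theorem cent_A : ∀ g ∈ Subgroup.centralizer (A : Set G),
    ∃ o ∈ Oi (Subgroup.centralizer (A : Set G)), ∃ a ∈ A, g = o * a := by
  haveI := Fact.mk Nat.prime_two
  set K := Subgroup.centralizer (A : Set G) with hK
  have hAK : A ≤ K := C.le_centralizer le_rfl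
  obtain ⟨P, hP⟩ := (C.A_two.comap_subtype (K := K)).exists_le_sylow
  have hPA : ∀ p ∈ (P : Subgroup K), (p : G) ∈ A := fun p hp =>
    (C.two_group (R := (P : Subgroup K).map K.subtype) (P.2.map _) (fun a ha => ⟨⟨a, hAK ha⟩, hP ha, rfl⟩)).2.2 _
      ⟨p, hp, rfl⟩ fun x hx => (p.2 x hx).symm
  have hN : Subgroup.normalizer ((P : Subgroup K) : Set K) ≤ Subgroup.centralizer ((P : Subgroup K) : Set K) :=
    fun x _ y hy => Subtype.ext (x.2 (y : G) (hPA y hy))
  intro g hg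
  obtain ⟨o, ho, p, hp, e⟩ := A8ThreeClass.core_mul_sylow P hN ⟨g, hg⟩
  exact ⟨o, ⟨o, ho, rfl⟩, p, hPA p hp, congrArg Subtype.val e⟩

theorem spl_top : Spl A A := fun g hg =>
  ⟨1, one_mem _, g, mem_normalizer_of_conj fun x hx => by rw [← hg x hx, mul_inv_cancel_right]; exact hx, hg,
    (one_mul g).symm⟩

theorem spl_step {U : Subgroup G} (hU : U ≤ A) (hne : U ≠ A)
    (IH : ∀ V : Subgroup G, V ≤ A → Nat.card U < Nat.card V → Spl A V) : Spl A U := by
  classical
  haveI := Fact.mk Nat.prime_two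
  set H := Subgroup.centralizer (U : Set G) with hH
  have hAH : A ≤ H := C.le_centralizer hU
  have hUH : U ≤ H := hU.trans hAH
  set N : Subgroup ↥H := U.subgroupOf H with hN
  haveI hNn : N.Normal := ⟨fun x hx g => by
    show (g : G) * x * (g : G)⁻¹ ∈ U
    have hx : (x : G) ∈ U := hx
    rw [← g.2 _ hx, mul_inv_cancel_right]; exact hx⟩
  let π : ↥H →* ↥H ⧸ N := QuotientGroup.mk' N
  have hπs : Function.Surjective π := QuotientGroup.mk'_surjective N
  have hπone : ∀ u : ↥H, π u = 1 ↔ (u : G) ∈ U := fun u => QuotientGroup.eq_one_iff u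
  have hπeq : ∀ u v : ↥H, π u = π v ↔ (u : G)⁻¹ * v ∈ U := fun u v => by
    rw [← inv_mul_eq_one, ← map_inv, ← map_mul, hπone]; rfl
  obtain ⟨T0, hT0⟩ := (C.A_two.comap_subtype (K := H)).exists_le_sylow
  set R := (T0 : Subgroup H).map H.subtype with hR
  have hR2 : IsPGroup 2 R := T0.2.map _
  have hAR : A ≤ R := fun a ha => ⟨⟨a, hAH ha⟩, hT0 ha, rfl⟩
  let T : Sylow 2 (↥H ⧸ N) := T0.mapSurjective hπs
  have hTmem : ∀ u : ↥H, π u ∈ (T : Subgroup (↥H ⧸ N)) ↔ (u : G) ∈ R := by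
    intro u
    show π u ∈ ((T0.mapSurjective hπs : Sylow 2 (↥H ⧸ N)) : Subgroup (↥H ⧸ N)) ↔ _
    rw [Sylow.coe_mapSurjective]
    constructor
    · rintro ⟨t, ht, e⟩
      have hu : (u : G) = (t : G) * ((t : G)⁻¹ * u) := by group
      rw [hu]
      exact mul_mem ⟨t, ht, rfl⟩ (hAR (hU ((hπeq t u).1 e)))
    · rintro ⟨t, ht, e⟩
      exact ⟨t, ht, congrArg π (Subtype.ext e)⟩
  have hinvA : ∀ {x : G}, x ∈ A → x⁻¹ = x := fun hx => inv_eq_of_mul_eq_one_right (C.A_sq hx)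
  -- the core of the quotient comes from the core of the centraliser
  have hcore : ∀ x : ↥H, π x ∈ oddCore (↥H ⧸ N) → ∃ o ∈ Oi H, ∃ u ∈ U, (x : G) = o * u := by
    intro x hx
    set K := ((oddCore (↥H ⧸ N)).comap π).map H.subtype with hK
    have hKH : K ≤ H := Subgroup.map_subtype_le _
    have hUK : U ≤ K := fun u hu => ⟨⟨u, hUH hu⟩, Subgroup.mem_comap.2 (by
      rw [(hπone ⟨u, hUH hu⟩).2 hu]; exact one_mem _), rfl⟩
    obtain ⟨P, hP⟩ := ((C.A_two.to_le hU).comap_subtype (K := K)).exists_le_sylow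
    have hPU : ∀ p ∈ (P : Subgroup K), (p : G) ∈ U := by
      intro p hp
      obtain ⟨h, hh, e⟩ := p.2
      rw [← show (h : G) = p from e, ← hπone]
      refine A8ThreeClass.orderOf_one_of_two_group_odd ?_ ?_
      · obtain ⟨j, hj⟩ := IsPGroup.iff_orderOf.1 P.2 ⟨p, hp⟩
        refine ⟨j, (orderOf_map_dvd π h).trans ?_⟩
        rw [← Subgroup.orderOf_coe h, show (h : G) = p from e, Subgroup.orderOf_coe, ← hj, ← Subgroup.orderOf_coe ⟨p, hp⟩]
      · exact (Nat.coprime_two_right.1 (Transfer.pPrimeCore_coprime 2)).of_dvd_nat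
          (Subgroup.orderOf_dvd_natCard _ hh)
    have hPc : Subgroup.normalizer ((P : Subgroup K) : Set K) ≤ Subgroup.centralizer ((P : Subgroup K) : Set K) :=
      fun y _ z hz => Subtype.ext ((hKH y.2) (z : G) (hPU z hz))
    have hKn : ∀ g ∈ H, g ∈ Subgroup.normalizer (K : Set G) := fun g hg => mem_normalizer_of_conj fun k hk => by
      obtain ⟨k', hk', rfl⟩ := hk
      refine ⟨⟨g, hg⟩ * k' * ⟨g, hg⟩⁻¹, Subgroup.mem_comap.2 ?_, rfl⟩
      rw [map_mul, map_mul, map_inv]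
      exact (Transfer.pPrimeCore_normal 2 _).conj_mem _ hk' _
    obtain ⟨o, ho, p, hp, e⟩ := A8ThreeClass.core_mul_sylow P hPc ⟨(x : G), x, hx, rfl⟩
    refine ⟨o, ?_, p, hPU p hp, congrArg Subtype.val e⟩
    exact le_Oi (U := Oi K) ((Oi_le K).trans hKH) (Oi_card_odd K) (fun g hg u hu => Oi_conj (hKn g hg) hu)
      ⟨o, ho, rfl⟩
  -- any element with a quotient image normalising the image of `A` normalises `A`
  set Ab : Subgroup (↥H ⧸ N) := (A.subgroupOf H).map π with hAb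
  have hAbmem : ∀ u : ↥H, π u ∈ Ab ↔ (u : G) ∈ A := fun u => by
    constructor
    · rintro ⟨a, ha, e⟩
      have hu : (u : G) = (a : G) * ((a : G)⁻¹ * u) := by group
      rw [hu]
      exact mul_mem ha (hU ((hπeq a u).1 e))
    · exact fun hu => ⟨u, hu, rfl⟩
  have hUA : ∀ x ∈ A, x ∉ U → Nat.card U < Nat.card A := fun x hx hxU =>
    lt_of_le_of_ne (Nat.le_of_dvd Nat.card_pos (Subgroup.card_dvd_of_le hU)) fun e =>
      hxU ((Subgroup.eq_of_le_of_card_ge hU e.ge).ge hx)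
  by_cases hiso : ∃ a ∈ A, a ∉ U ∧ ∀ n ∈ Subgroup.normalizer (A : Set G),
      n ∈ Subgroup.centralizer (U : Set G) → n * a * n⁻¹ * a ∈ U
  · -- an isolated involution
    obtain ⟨a, ha, haU, hfix⟩ := hiso
    obtain ⟨V, hVA, hVc, hV⟩ := C.exists_ext hU ha haU
    have hspV : Spl A V := IH V hVA (by have := Nat.card_pos (α := U); omega)
    set z := π ⟨a, hAH ha⟩ with hz
    have hz1 : z ≠ 1 := fun e => haU ((hπone _).1 e)
    have hz2 : orderOf z = 2 := Invol.orderOf_two_of_mul_self (by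
      rw [hz, ← map_mul, hπone]; show a * a ∈ U; rw [C.A_sq ha]; exact one_mem _) hz1
    have hstab : ∀ g : ↥H, (g : G) * a * (g : G)⁻¹ ∈ A → (g : G) * a * (g : G)⁻¹ * a ∈ U := fun g hgA => by
      obtain ⟨n, hn, hnU, hna⟩ := C.fuse hU ha g.2 hgA
      exact hna ▸ hfix n hn hnU
    have hzi : IsIsolatedInvolution z := by
      refine Invol.isolated_of_sylow T hz2 ((hTmem _).2 (hAR ha)) fun q hq => ?_
      obtain ⟨g, rfl⟩ := hπs q
      rw [hz, ← map_inv, ← map_mul, ← map_mul] at hq ⊢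
      have h1 := (C.two_group hR2 hAR).2.1 a ha (g : G) ((hTmem _).1 hq)
      refine (hπeq _ _).2 ?_
      show ((g : G) * a * (g : G)⁻¹)⁻¹ * a ∈ U
      rw [hinvA h1]; exact hstab g h1
    have hcz := ZStar.commutatorsInCore_of_isolated hzi
    -- the core absorbs that of the larger centraliser
    have hVH : Subgroup.centralizer (V : Set G) ≤ H := Subgroup.centralizer_le fun x hx => (hV x).2 (Or.inl hx)
    have hdec : ∀ g ∈ H, ∃ o ∈ Oi H, ∃ g' ∈ H, g = o * g' ∧ g' * a * g'⁻¹ * a ∈ U := by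
      intro g hg
      set q := π ⟨g, hg⟩ with hq
      have hzz : z * z = 1 := by
        have := pow_orderOf_eq_one z
        rwa [hz2, pow_two] at this
      have hc : q * z * q⁻¹ * z ∈ oddCore (↥H ⧸ N) := by
        have h1 := hcz q
        have e : q * z * q⁻¹ * z = (z * q * z⁻¹ * q⁻¹)⁻¹ := by
          rw [mul_inv_rev, mul_inv_rev, mul_inv_rev, inv_inv, inv_inv, inv_eq_of_mul_eq_one_right hzz, mul_assoc,
            mul_assoc]
        rw [e]; exact inv_mem h1
      obtain ⟨p, hp, hpe⟩ := A8ThreeClass.inverted_conj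
        (U := oddCore (↥H ⧸ N)) (Nat.coprime_two_right.1 (Transfer.pPrimeCore_coprime 2)) hc hzz (by
          rw [show q * z * q⁻¹ * z * z = q * z * q⁻¹ by rw [mul_assoc (q * z * q⁻¹), hzz, mul_one],
            show q * z * q⁻¹ * (q * z * q⁻¹) = q * (z * z) * q⁻¹ by group, hzz]
          group)
      rw [mul_assoc (q * z * q⁻¹), hzz, mul_one] at hpe
      obtain ⟨p', rfl⟩ := hπs p
      obtain ⟨o, ho, u, hu, hou⟩ := hcore p' hp
      have hgH : o⁻¹ * g ∈ H := mul_mem (inv_mem (Oi_le H ho)) hg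
      refine ⟨o, ho, o⁻¹ * g, hgH, by group, ?_⟩
      have hw : π ⟨o⁻¹ * g, hgH⟩ = (π p')⁻¹ * q := by
        rw [hq, ← map_inv, ← map_mul]
        refine (hπeq _ _).2 ?_
        show (o⁻¹ * g)⁻¹ * ((p' : G)⁻¹ * g) ∈ U
        rw [hou, show (o⁻¹ * g)⁻¹ * ((o * u)⁻¹ * g) = g⁻¹ * (o * (u⁻¹ * o⁻¹)) * g by group,
          hOu o u ho hu, show g⁻¹ * u⁻¹ * g = u⁻¹ by rw [mul_assoc, hg _ (inv_mem hu)]; group]
        exact inv_mem hu
      have hc2 : π ⟨o⁻¹ * g, hgH⟩ * z = z * π ⟨o⁻¹ * g, hgH⟩ := by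
        rw [hw]
        calc (π p')⁻¹ * q * z = (π p')⁻¹ * (q * z * q⁻¹) * q := by group
          _ = (π p')⁻¹ * (π p' * z * (π p')⁻¹) * q := by rw [hpe]
          _ = _ := by group
      have h3 : π (⟨o⁻¹ * g, hgH⟩ * ⟨a, hAH ha⟩ * ⟨o⁻¹ * g, hgH⟩⁻¹ * ⟨a, hAH ha⟩) = 1 := by
        rw [map_mul, map_mul, map_mul, map_inv, ← hz, hc2, mul_inv_cancel_right, hzz]
      exact (hπone _).1 h3
    have hOV : Oi (Subgroup.centralizer (V : Set G)) ≤ Oi H :=
      A8ThreeClass.core_absorb ((Oi_le _).trans hVH) (Oi_card_odd _) fun g hg => by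
        obtain ⟨o, ho, g', hg', e, hga⟩ := hdec g hg
        exact ⟨o, ho, g', hg', e, fun u hu => Oi_conj (C.lift_cent hU ha hV hspV hg' hga).1 hu⟩
    intro g hg
    obtain ⟨o, ho, g', hg', rfl, hga⟩ := hdec g hg
    obtain ⟨-, o1, ho1, m, hm, hmU, rfl, -⟩ := C.lift_cent hU ha hV hspV hg' hga
    exact ⟨o * o1, mul_mem ho (hOV ho1), m, hm, hmU, (mul_assoc _ _ _).symm⟩
  -- two classes in a quotient of rank at least three
  simp only [not_exists, not_and, not_forall] at hiso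
  obtain ⟨a1, ha1, ha1U⟩ : ∃ a ∈ A, a ∉ U := by
    by_contra h
    simp only [not_exists, not_and, not_not] at h
    exact hne (le_antisymm hU h)
  have hd : Nat.card U ∣ 64 := by
    have := Subgroup.card_dvd_of_le hU
    rwa [C.cardA] at this
  have h4 : 4 * Nat.card U ≤ 64 := by
    by_contra hlt
    have h32 : Nat.card U = 32 := by
      have h1 := hUA a1 ha1 ha1U
      rw [C.cardA] at h1
      obtain ⟨k, hk, e⟩ := (Nat.dvd_prime_pow Nat.prime_two).1 (show Nat.card U ∣ 2 ^ 6 from hd)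
      interval_cases k <;> omega
    obtain ⟨n, hn, hnU, hna⟩ := hiso a1 ha1 ha1U
    obtain ⟨V, hVA, hVc, hV⟩ := C.exists_ext hU ha1 ha1U
    have hVeq : V = A := Subgroup.eq_of_le_of_card_ge hVA (by rw [hVc, h32, C.cardA])
    have hn1 : n * a1 * n⁻¹ ∈ A := (Subgroup.mem_normalizer_iff.1 hn a1).1 ha1
    rcases (hV _).1 (hVeq ▸ hn1) with h | h
    · exact ha1U (by
        have := hnU _ h
        rw [inv_mul_cancel_right] at this
        exact mul_left_cancel this ▸ h)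
    · exact hna h
  obtain ⟨a, ha, haU, b, hb, hbU, hab⟩ := C.not_trans hU h4
  by_cases h8 : 8 * Nat.card U ≤ 64
  swap
  · exfalso
    have h16 : Nat.card U = 16 := by
      obtain ⟨k, hk, e⟩ := (Nat.dvd_prime_pow Nat.prime_two).1 (show Nat.card U ∣ 2 ^ 6 from hd)
      interval_cases k <;> omega
    -- the three cosets
    obtain ⟨V, hVA, hVc, hV⟩ := C.exists_ext hU ha haU
    have hbV : b ∉ V := fun h => by
      rcases (hV b).1 h with h | h
      · exact hbU h
      · refine hab 1 (one_mem _) (one_mem _) ?_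
        rw [inv_one, one_mul, mul_one, C.A_comm ha hb]; exact h
    obtain ⟨W, hWA, hWc, hW⟩ := C.exists_ext hVA hb hbV
    have hWeq : W = A := Subgroup.eq_of_le_of_card_ge hWA (by rw [hWc, hVc, h16, C.cardA])
    have hcos : ∀ x ∈ A, x ∉ U → x * a ∈ U ∨ x * b ∈ U ∨ x * (a * b) ∈ U := by
      intro x hx hxU
      rcases (hW x).1 (hWeq.ge hx) with h | h <;> rcases (hV _).1 h with h' | h'
      · exact absurd h' hxU
      · exact Or.inl h'
      · exact Or.inr (Or.inl h')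
      · exact Or.inr (Or.inr (by rw [C.A_comm ha hb, ← mul_assoc]; exact h'))
    have hcongr : ∀ n ∈ Subgroup.normalizer (A : Set G), n ∈ Subgroup.centralizer (U : Set G) →
        ∀ x ∈ A, x ∉ U → n * x * n⁻¹ ∈ A ∧ n * x * n⁻¹ ∉ U := fun n hn hnU x hx hxU =>
      ⟨(Subgroup.mem_normalizer_iff.1 hn x).1 hx, fun h => hxU (by
        have := hnU _ h
        rw [inv_mul_cancel_right] at this
        exact mul_left_cancel this ▸ h)⟩
    have hinv : ∀ n ∈ Subgroup.normalizer (A : Set G), n ∈ Subgroup.centralizer (U : Set G) →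
        ∀ x ∈ A, ∀ y ∈ A, n * x * n⁻¹ * y ∈ U → n⁻¹ * y * n⁻¹⁻¹ * x ∈ U := by
      intro n hn hnU x hx y hy h
      have hc := (Subgroup.centralizer (U : Set G)).inv_mem hnU _ h
      have hnx := (Subgroup.mem_normalizer_iff.1 hn x).1 hx
      have e : n⁻¹ * y * n⁻¹⁻¹ * x = n⁻¹ * (y * (n * x * n⁻¹)) * n := by group
      rw [e, C.A_comm hy hnx, ← hc, inv_mul_cancel_right]
      exact h
    obtain ⟨n, hn, hnU, hna⟩ := hiso a ha haU
    obtain ⟨hna1, hna2⟩ := hcongr n hn hnU a ha haU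
    have hnab : n * a * n⁻¹ * (a * b) ∈ U := ((hcos _ hna1 hna2).resolve_left hna).resolve_left (hab n hn hnU)
    obtain ⟨n', hn', hnU', hnb⟩ := hiso b hb hbU
    obtain ⟨hnb1, hnb2⟩ := hcongr n' hn' hnU' b hb hbU
    rcases hcos _ hnb1 hnb2 with h | h | h
    · refine hab n'⁻¹ (inv_mem hn') (inv_mem hnU') (hinv n' hn' hnU' b hb a ha h)
    · exact hnb h
    · refine hab (n'⁻¹ * n) (mul_mem (inv_mem hn') hn) (mul_mem (inv_mem hnU') hnU) ?_
      have h2 := hinv n' hn' hnU' b hb (a * b) (mul_mem ha hb) h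
      have h3 : n'⁻¹ * (n * a * n⁻¹ * (a * b)) * n'⁻¹⁻¹ ∈ U := by
        rw [← (Subgroup.centralizer (U : Set G)).inv_mem hnU' _ hnab, mul_inv_cancel_right]; exact hnab
      have e : n'⁻¹ * n * a * (n'⁻¹ * n)⁻¹ * b =
          n'⁻¹ * (n * a * n⁻¹ * (a * b)) * n'⁻¹⁻¹ * ((n'⁻¹ * (a * b) * n'⁻¹⁻¹)⁻¹ * b) := by group
      rw [e]
      refine mul_mem h3 ?_
      rw [hinvA ((Subgroup.mem_normalizer_iff.1 (inv_mem hn') _).1 (mul_mem ha hb))]
      exact h2
  have hAb2 : ∀ x ∈ Ab, x * x = 1 := by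
    rintro _ ⟨x, hx, rfl⟩
    rw [← map_mul, hπone]
    show (x : G) * x ∈ U
    have hx2 : (x : G) * x = 1 := C.A_sq hx
    rw [hx2]; exact one_mem _
  have hAb8 : 8 ≤ Nat.card Ab := by
    let ψ : ↥(A.subgroupOf H) →* ↥H ⧸ N := π.comp (A.subgroupOf H).subtype
    have hr : Nat.card Ab = (N.subgroupOf (A.subgroupOf H)).index := by
      have hk : ψ.ker = N.subgroupOf (A.subgroupOf H) := by
        ext u; exact hπone _
      have hrange : ψ.range = Ab := by
        rw [hAb, MonoidHom.range_comp, Subgroup.range_subtype]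
      rw [← hk, Subgroup.index_ker, hrange]
    have hcm := (N.subgroupOf (A.subgroupOf H)).card_mul_index
    have e1 : Nat.card ↥(A.subgroupOf H) = 64 := by
      rw [Nat.card_congr (Subgroup.subgroupOfEquivOfLe hAH).toEquiv, C.cardA]
    have e2 : Nat.card ↥(N.subgroupOf (A.subgroupOf H)) = Nat.card U := by
      rw [Nat.card_congr (Subgroup.subgroupOfEquivOfLe (show N ≤ A.subgroupOf H from fun u hu => hU hu)).toEquiv,
        hN, Nat.card_congr (Subgroup.subgroupOfEquivOfLe hUH).toEquiv]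
    rw [e1, e2, ← hr] at hcm
    by_contra hlt
    have := Nat.card_pos (α := U)
    nlinarith
  have hAbT : Ab ≤ (T : Subgroup (↥H ⧸ N)) := by
    rintro _ ⟨x, hx, rfl⟩
    exact (hTmem x).2 (hAR hx)
  have hsc : ∀ x ∈ Ab, ∀ g, g * x * g⁻¹ ∈ (T : Subgroup (↥H ⧸ N)) → g * x * g⁻¹ ∈ Ab := by
    rintro _ ⟨x, hx, rfl⟩ q hq
    obtain ⟨g, rfl⟩ := hπs q
    rw [← map_inv, ← map_mul, ← map_mul] at hq ⊢
    exact (hAbmem _).2 ((C.two_group hR2 hAR).2.1 (x : G) hx (g : G) ((hTmem _).1 hq))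
  have hnormA : ∀ g : ↥H, π g ∈ Subgroup.normalizer (Ab : Set (↥H ⧸ N)) → (g : G) ∈ Subgroup.normalizer (A : Set G) := by
    intro g hg
    refine mem_normalizer_of_conj fun x hx => ?_
    have h := (Subgroup.mem_normalizer_iff.1 hg _).1 ((hAbmem ⟨x, hAH hx⟩).2 hx)
    rw [← map_inv, ← map_mul, ← map_mul] at h
    exact (hAbmem _).1 h
  have hpush : ∀ g : ↥H, (g : G) ∈ Subgroup.normalizer (A : Set G) → π g ∈ Subgroup.normalizer (Ab : Set (↥H ⧸ N)) := by
    intro g hg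
    refine mem_normalizer_of_conj ?_
    rintro _ ⟨x, hx, rfl⟩
    rw [← map_inv, ← map_mul, ← map_mul]
    exact (hAbmem _).2 ((Subgroup.mem_normalizer_iff.1 hg _).1 hx)
  have hnpc : HasNormalPComplement 2 ↥(Subgroup.centralizer (Ab : Set (↥H ⧸ N))) := by
    set K : Subgroup ↥H := (Subgroup.centralizer (Ab : Set (↥H ⧸ N))).comap π with hK
    refine Transfer.hasNormalPComplement_of_surjective (π.subgroupComap (Subgroup.centralizer (Ab : Set (↥H ⧸ N))))
      (MonoidHom.subgroupComap_surjective_of_surjective π _ hπs) ?_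
    set CA := Subgroup.centralizer (A : Set G) with hCA
    let O : Subgroup ↥K := ((Oi CA).subgroupOf H).subgroupOf K
    have hKA : ∀ k : ↥K, ((k : ↥H) : G) ∈ Subgroup.normalizer (A : Set G) := fun k =>
      hnormA _ (mem_normalizer_of_conj fun y hy => by
        have hk : π (k : ↥H) ∈ Subgroup.centralizer (Ab : Set (↥H ⧸ N)) := k.2
        rw [← hk y hy, mul_inv_cancel_right]; exact hy)
    haveI hOn : O.Normal := ⟨fun u hu k => by
      have hk := hKA k
      have hkC : ((k : ↥H) : G) ∈ Subgroup.normalizer (CA : Set G) := mem_normalizer_of_conj fun c hc z hz => by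
        have hz' := (Subgroup.mem_normalizer_iff.1 (inv_mem hk) z).1 hz
        have e := hc _ hz'
        calc z * (((k : ↥H) : G) * c * ((k : ↥H) : G)⁻¹) =
            ((k : ↥H) : G) * ((((k : ↥H) : G)⁻¹ * z * ((k : ↥H) : G)⁻¹⁻¹) * c) * ((k : ↥H) : G)⁻¹ := by group
          _ = ((k : ↥H) : G) * (c * (((k : ↥H) : G)⁻¹ * z * ((k : ↥H) : G)⁻¹⁻¹)) * ((k : ↥H) : G)⁻¹ := by rw [e]
          _ = _ := by group
      exact Oi_conj hkC hu⟩
    refine Transfer.hasNormalPComplement_of_le_of_isPGroup_quotient O ?_ ?_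
    · refine Nat.Coprime.coprime_dvd_left ?_ (Nat.coprime_two_right.2 (Oi_card_odd CA))
      refine Subgroup.card_dvd_of_injective (((H.subtype.comp K.subtype).comp O.subtype).codRestrict (Oi CA) fun u => u.2) ?_
      intro u v e
      exact Subtype.ext (Subtype.ext (Subtype.ext (congrArg (fun z : ↥(Oi CA) => (z : G)) e :)))
    · intro q
      obtain ⟨k, rfl⟩ := QuotientGroup.mk_surjective q
      refine ⟨2, ?_⟩
      rw [← QuotientGroup.mk_pow, QuotientGroup.eq_one_iff]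
      show ((((k ^ 2 ^ 2 : ↥K) : ↥H)) : G) ∈ Oi CA
      set x : G := ((k : ↥H) : G) with hx
      have hpow : ((((k ^ 2 ^ 2 : ↥K) : ↥H)) : G) = (x ^ 2) ^ 2 := by
        rw [← pow_mul]; simp [hx]
      rw [hpow]
      have hx2 : x ^ 2 ∈ CA := by
        intro c hc
        have hk : π (k : ↥H) ∈ Subgroup.centralizer (Ab : Set (↥H ⧸ N)) := k.2
        have h := hk _ ((hAbmem ⟨c, hAH hc⟩).2 hc)
        rw [← map_mul, ← map_mul, hπeq] at h
        have h : (c * x)⁻¹ * (x * c) ∈ U := h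
        have e0 : (c * x)⁻¹ * (x * c) = x⁻¹ * c⁻¹ * x * c := by group
        rw [e0] at h
        have hxc : x⁻¹ * c⁻¹ * x = x⁻¹ * c⁻¹ * x * c * c⁻¹ := by group
        have hxu : x⁻¹ * (x⁻¹ * c⁻¹ * x * c) * x = x⁻¹ * c⁻¹ * x * c := by
          rw [mul_assoc, (k : ↥H).2 _ h, inv_mul_cancel_left]
        have hc2 : c⁻¹ = c := hinvA hc
        have hsq : (x⁻¹ * c⁻¹ * x * c) * (x⁻¹ * c⁻¹ * x * c) = 1 := C.A_sq (hU h)
        have e2 : (x ^ 2)⁻¹ * c⁻¹ * x ^ 2 = c⁻¹ := by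
          calc (x ^ 2)⁻¹ * c⁻¹ * x ^ 2 = x⁻¹ * (x⁻¹ * c⁻¹ * x * c) * x * (x⁻¹ * c⁻¹ * x * c) * c⁻¹ := by
                rw [pow_two]; group
            _ = (x⁻¹ * c⁻¹ * x * c) * (x⁻¹ * c⁻¹ * x * c) * c⁻¹ := by rw [hxu]
            _ = c⁻¹ := by rw [hsq, one_mul]
        rw [hc2] at e2
        calc c * x ^ 2 = x ^ 2 * ((x ^ 2)⁻¹ * c * x ^ 2) := by group
          _ = x ^ 2 * c := by rw [e2]
      obtain ⟨o, ho, c, hc, e⟩ := C.cent_A _ hx2
      rw [e, pow_two, show o * c * (o * c) = o * (c * o) * c by group, (Oi_le CA ho) c hc,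
        show o * (o * c) * c = o * o * (c * c) by group, C.A_sq hc, mul_one]
      exact mul_mem ho ho
  have hspl : ∀ y ∈ Ab, y ≠ 1 → Split Ab y := by
    rintro _ ⟨x, hx, rfl⟩ hx1 q hq
    obtain ⟨g, rfl⟩ := hπs q
    have hxA : (x : G) ∈ A := hx
    have hxU : (x : G) ∉ U := fun h => hx1 ((hπone x).2 h)
    obtain ⟨V, hVA, hVc, hV⟩ := C.exists_ext hU hxA hxU
    have hspV : Spl A V := IH V hVA (by have := Nat.card_pos (α := U); omega)
    have hget : ∀ g : ↥H, π g ∈ Cn (π x) → (g : G) * x * (g : G)⁻¹ * x ∈ U := by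
      intro g hg
      have h : π (g * x * g⁻¹ * x) = 1 := by
        rw [map_mul, map_mul, map_mul, map_inv, (mem_Cn.1 hg).eq, mul_inv_cancel_right, ← map_mul, hπone]
        show (x : G) * x ∈ U
        rw [C.A_sq hxA]; exact one_mem _
      exact (hπone _).1 h
    obtain ⟨hgn, o, ho, m, hm, hmU, e, hma⟩ := C.lift_cent hU hxA hV hspV g.2 (hget g hq)
    have hVH : Subgroup.centralizer (V : Set G) ≤ H := Subgroup.centralizer_le fun z hz => (hV z).2 (Or.inl hz)
    set O := ((Oi (Subgroup.centralizer (V : Set G))).subgroupOf H).map π with hO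
    have hxV : (x : G) ∈ V := (hV _).2 (Or.inr (by rw [C.A_sq hxA]; exact one_mem _))
    have hOc : O ≤ Oc (π x) := by
      refine le_Oc ?_ ?_ ?_
      · rintro _ ⟨u, hu, rfl⟩
        refine mem_Cn.2 ?_
        have h := Oi_le _ hu _ hxV
        exact (Commute.map (show Commute u x from Subtype.ext h.symm) π)
      · refine (Oi_card_odd (Subgroup.centralizer (V : Set G))).of_dvd_nat ((Subgroup.card_map_dvd _ _).trans ?_)
        rw [Nat.card_congr (Subgroup.subgroupOfEquivOfLe ((Oi_le _).trans hVH)).toEquiv]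
      · intro r hr _ hu
        obtain ⟨u, hu, rfl⟩ := hu
        obtain ⟨g', rfl⟩ := hπs r
        refine ⟨g' * u * g'⁻¹, ?_, by simp⟩
        exact Oi_conj (C.lift_cent hU hxA hV hspV g'.2 (hget g' hr)).1 hu
    have hoH : o ∈ H := hVH (Oi_le _ ho)
    refine ⟨π ⟨o, hoH⟩, hOc ⟨_, ho, rfl⟩, π ⟨m, hmU⟩, hpush _ hm, ?_, ?_⟩
    · refine mem_Cn.2 ?_
      show π ⟨m, hmU⟩ * π x = π x * π ⟨m, hmU⟩
      rw [← mul_inv_eq_iff_eq_mul, ← map_inv, ← map_mul, ← map_mul, hπeq]
      show (m * (x : G) * m⁻¹)⁻¹ * (x : G) ∈ U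
      have hA1 := (Subgroup.mem_normalizer_iff.1 hm _).1 hxA
      rw [hinvA hA1, hma]; exact hget g hq
    · rw [← map_mul]; exact congrArg π (Subtype.ext e)
  have habn : ∃ p ∈ Ab, ∃ q ∈ Ab, p ≠ 1 ∧ q ≠ 1 ∧ ¬ IsConj p q := by
    refine ⟨_, (hAbmem ⟨a, hAH ha⟩).2 ha, _, (hAbmem ⟨b, hAH hb⟩).2 hb, fun e => haU ((hπone _).1 e),
      fun e => hbU ((hπone _).1 e), fun h => ?_⟩
    obtain ⟨q, hq⟩ := isConj_iff.1 h
    obtain ⟨g, rfl⟩ := hπs q
    rw [← map_inv, ← map_mul, ← map_mul, hπeq] at hq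
    have hq : ((g : G) * a * (g : G)⁻¹)⁻¹ * b ∈ U := hq
    have hgA : (g : G) * a * (g : G)⁻¹ ∈ A := by
      have := mul_mem hb (inv_mem (hU hq))
      simpa [mul_assoc] using this
    obtain ⟨n, hn, hnU, hna⟩ := C.fuse hU ha g.2 hgA
    refine hab n hn hnU ?_
    rw [hna, ← hinvA hgA]; exact hq
  intro g hg
  obtain ⟨o, ho, n, hn, e⟩ := closed_main2 T hAb2 hAb8 hAbT hsc hnpc hspl habn (π ⟨g, hg⟩)
  obtain ⟨o', rfl⟩ := hπs o
  obtain ⟨o1, ho1, u, hu, hou⟩ := hcore o' ho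
  have hgH : o1⁻¹ * g ∈ H := mul_mem (inv_mem (Oi_le H ho1)) hg
  refine ⟨o1, ho1, o1⁻¹ * g, ?_, hgH, by group⟩
  refine hnormA ⟨o1⁻¹ * g, hgH⟩ ?_
  have e2 : π ⟨o1⁻¹ * g, hgH⟩ = n := by
    have e3 : n = (π o')⁻¹ * π ⟨g, hg⟩ := by rw [e, inv_mul_cancel_left]
    rw [e3, ← map_inv, ← map_mul, hπeq]
    show (o1⁻¹ * g)⁻¹ * ((o' : G)⁻¹ * g) ∈ U
    rw [hou, show (o1⁻¹ * g)⁻¹ * ((o1 * u)⁻¹ * g) = g⁻¹ * (o1 * (u⁻¹ * o1⁻¹)) * g by group,
      hOu o1 u ho1 hu, show g⁻¹ * u⁻¹ * g = u⁻¹ by rw [mul_assoc, hg _ (inv_mem hu)]; group]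
    exact inv_mem hu
  rw [e2]; exact hn
where
  hOu (o u : G) (ho : o ∈ Oi (Subgroup.centralizer (U : Set G))) (hu : u ∈ U) : o * (u⁻¹ * o⁻¹) = u⁻¹ := by
    rw [← mul_assoc, ← Oi_le _ ho _ (inv_mem hu), mul_inv_cancel_right]

theorem spl_all : ∀ U : Subgroup G, U ≤ A → Spl A U := by
  suffices h : ∀ d, ∀ U : Subgroup G, U ≤ A → 64 - Nat.card U = d → Spl A U from fun U hU => h _ U hU rfl
  intro d
  induction d using Nat.strong_induction_on with
  | _ d ih =>
    intro U hU hd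
    by_cases he : U = A
    · exact he ▸ C.spl_top
    · refine C.spl_step hU he fun V hV hlt => ih _ ?_ V hV rfl
      have := Nat.le_of_dvd Nat.card_pos (Subgroup.card_dvd_of_le hV)
      rw [C.cardA] at this
      omega

/-- **The abelian subgroup is normal.** -/
theorem normal (hO : oddCore G = ⊥) : A.Normal := by
  haveI : (Subgroup.centralizer ((⊥ : Subgroup G) : Set G)).Normal := by
    have : Subgroup.centralizer ((⊥ : Subgroup G) : Set G) = ⊤ :=
      eq_top_iff.2 fun g _ x hx => by rw [Subgroup.mem_bot.1 hx, one_mul, mul_one]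
    rw [this]; infer_instance
  have hb : ∀ g : G, g ∈ Subgroup.centralizer ((⊥ : Subgroup G) : Set G) := fun g x hx => by
    rw [Subgroup.mem_bot.1 hx, one_mul, mul_one]
  have hOi : Oi (Subgroup.centralizer ((⊥ : Subgroup G) : Set G)) = ⊥ := by
    refine eq_bot_iff.2 ((Transfer.le_pPrimeCore (p := 2) ?_ ?_).trans hO.le)
    · exact ⟨fun x hx g => Oi_conj (Subgroup.le_normalizer (hb g)) hx⟩
    · exact Nat.coprime_two_right.2 (Oi_card_odd _)
  refine ⟨fun x hx g => ?_⟩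
  obtain ⟨o, ho, m, hm, -, e⟩ := C.spl_all ⊥ bot_le g (hb g)
  rw [hOi, Subgroup.mem_bot] at ho
  rw [ho, one_mul] at e
  exact (Subgroup.mem_normalizer_iff.1 (e ▸ hm) x).1 hx

end Ctx

end CfsgLib.M24Syl
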