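import Cfsg.Agent.Lib.M24Syl.Table

/-!
The commutators in the centralisers of order 128.
-/

set_option autoImplicit false
set_option linter.style.longLine false

namespace CfsgLib.M24Syl

/-- the check for one centraliser of order 128 -/
def tChk (X : List ℕ) : Bool :=
  ([1, 2].all fun c => X.any fun w => (X.all fun x => cmI w x == 0 || cmI w x == c) &&
      X.any fun x => cmI w x == c) &&
    X.all fun w => X.all fun x => cmI w x == 0 || cmI w x == 1 || cmI w x == 2 ||
      X.any fun y => !(cmI w y == 0 || cmI w y == cmI w x)

theorem tchk_ok : ((List.range 64).all fun a => !isT (448 + a) || tChk (cen (448 + a))) = true := by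
  decide +kernel

end CfsgLib.M24Syl
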