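import Cfsg.Agent.Lib.M24Syl.Base
import Cfsg.Agent.Lib.M24Syl.TableT

/-!
The three central involutions are not conjugate, and the sixteen involutions with centraliser of order 128 are
not conjugate into the abelian subgroup.
-/

set_option autoImplicit false
set_option linter.style.haveILetI false
set_option linter.unusedSectionVars false
set_option linter.style.longLine false

open Cfsg
open CfsgLib.A8ThreeClass (Cn mem_Cn)

namespace CfsgLib.M24Syl

variable {G : Type*} [Group G] [Finite G] {S : Sylow 2 G} {A : Subgroup G} {φ : ℕ → G}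

namespace Ctx

variable (C : Ctx S A φ)
include C

theorem central {z : ℕ} (hz : z < 4) {x : G} (hx : x ∈ (S : Subgroup G)) : x * φ z = φ z * x := by
  obtain ⟨i, hi, rfl⟩ := C.surj hx
  have h := centre_ok
  simp only [List.all_eq_true, List.mem_range, Bool.and_eq_true] at h
  exact (C.cmt_iff hi (by omega)).1 ((h i hi).1 z hz)

theorem centre_lt {i : ℕ} (hi : i < 512) (h : ∀ x ∈ (S : Subgroup G), φ i * x = x * φ i) : i < 4 := by
  have hc := centre_ok
  simp only [List.all_eq_true, List.mem_range, Bool.and_eq_true, Bool.or_eq_true, Nat.blt_eq,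
    Bool.not_eq_true'] at hc
  refine (hc i hi).2.resolve_right fun e => ?_
  have hg : ∀ g ∈ gI, g < 512 := by decide
  have : gI.all (cmt i) = true :=
    List.all_eq_true.2 fun g hg' => (C.cmt_iff hi (hg g hg')).2 (h _ (C.mem (hg g hg')))
  rw [this] at e
  exact Bool.noConfusion e

theorem roots {n : G} (hn : ∀ x ∈ (S : Subgroup G), n * x * n⁻¹ ∈ (S : Subgroup G)) {z w : ℕ} (hz : z < 512)
    (hw : w < 512) (e : n * φ z * n⁻¹ = φ w) :
    ((List.range 512).filter fun i => mS i i == z).length ≤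
      ((List.range 512).filter fun i => mS i i == w).length := by
  classical
  have hnd : ∀ u : ℕ, ((List.range 512).filter fun i => mS i i == u).toFinset.card =
      ((List.range 512).filter fun i => mS i i == u).length :=
    fun u => List.toFinset_card_of_nodup (List.nodup_range.filter _)
  rw [← hnd, ← hnd]
  have hex : ∀ i < 512, ∃ j < 512, φ j = n * φ i * n⁻¹ := fun i hi => C.surj (hn _ (C.mem hi))
  choose f hf hf' using hex
  refine Finset.card_le_card_of_injOn (fun i => if h : i < 512 then f i h else 0) ?_ ?_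
  · intro i hi
    simp only [Finset.mem_coe, List.mem_toFinset, List.mem_filter, List.mem_range, beq_iff_eq] at hi ⊢
    rw [dif_pos hi.1]
    refine ⟨hf i hi.1, C.inj (mS_lt (hf i hi.1) (hf i hi.1)) hw ?_⟩
    rw [C.mul (hf i hi.1) (hf i hi.1), hf' i hi.1, ← e, ← hi.2, C.mul hi.1 hi.1]
    group
  · intro i hi j hj h
    simp only [Finset.mem_coe, List.mem_toFinset, List.mem_filter, List.mem_range] at hi hj
    simp only [dif_pos hi.1, dif_pos hj.1] at h
    have := congrArg φ h
    rw [hf', hf'] at this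
    exact C.inj hi.1 hj.1 (mul_left_cancel (mul_right_cancel this))

theorem fix_centre {n : G} (hn : ∀ x ∈ (S : Subgroup G), n * x * n⁻¹ ∈ (S : Subgroup G)) {z : ℕ} (hz : z < 4) :
    n * φ z * n⁻¹ = φ z := by
  have himg : ∀ z < 4, ∃ w < 4, n * φ z * n⁻¹ = φ w := by
    intro z hz
    obtain ⟨w, hw, e⟩ := C.surj (hn _ (C.mem (show z < 512 by omega)))
    refine ⟨w, C.centre_lt hw fun x hx => ?_, e.symm⟩
    have hx' : n⁻¹ * x * n ∈ (S : Subgroup G) := by
      have := (Subgroup.mem_normalizer_iff.1 (inv_mem (A8ThreeClass.mem_normalizer_of_conj hn)) x).1 hx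
      simpa using this
    have h := C.central hz hx'
    rw [e]
    calc n * φ z * n⁻¹ * x = n * (φ z * (n⁻¹ * x * n)) * n⁻¹ := by group
      _ = n * ((n⁻¹ * x * n) * φ z) * n⁻¹ := by rw [h]
      _ = _ := by group
  obtain ⟨w0, hw0, e0⟩ := himg 0 (by norm_num)
  obtain ⟨w1, hw1, e1⟩ := himg 1 (by norm_num)
  obtain ⟨w2, hw2, e2⟩ := himg 2 (by norm_num)
  obtain ⟨w3, hw3, e3⟩ := himg 3 (by norm_num)
  have hne : ∀ {a b u v : ℕ}, a < 4 → b < 4 → n * φ a * n⁻¹ = φ u → n * φ b * n⁻¹ = φ v → a ≠ b → u ≠ v := by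
    intro a b u v ha hb h1 h2 hab he
    subst he
    exact hab (C.inj (by omega) (by omega) (mul_left_cancel (mul_right_cancel (h1.trans h2.symm))))
  have h0 : w0 = 0 := C.inj (by omega) (by norm_num) (by rw [← e0, C.one]; group)
  have hR := roots_ok
  simp only [Bool.and_eq_true, beq_iff_eq] at hR
  have h1' : w1 ≠ 3 := fun h => by
    have := C.roots hn (by norm_num) (by norm_num) (h ▸ e1)
    omega
  have h2' : w2 ≠ 3 := fun h => by
    have := C.roots hn (by norm_num) (by norm_num) (h ▸ e2)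
    omega
  have h10 := hne (a := 1) (b := 0) (by norm_num) (by norm_num) e1 e0 (by norm_num)
  have h20 := hne (a := 2) (b := 0) (by norm_num) (by norm_num) e2 e0 (by norm_num)
  have h30 := hne (a := 3) (b := 0) (by norm_num) (by norm_num) e3 e0 (by norm_num)
  have h12 := hne (a := 1) (b := 2) (by norm_num) (by norm_num) e1 e2 (by norm_num)
  have h13 := hne (a := 1) (b := 3) (by norm_num) (by norm_num) e1 e3 (by norm_num)
  have h23 := hne (a := 2) (b := 3) (by norm_num) (by norm_num) e2 e3 (by norm_num)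
  have h3 : w3 = 3 := by omega
  have hfix : n * φ 1 * n⁻¹ = φ 1 := by
    obtain ⟨m, hm, hmS⟩ := exists_odd_pow_mem S hn
    have hF : n ∈ Cn (φ 1) := by
      refine mem_of_odd_pow_sq hm (mem_Cn.2 (C.central (by norm_num) hmS)) (mem_Cn.2 ?_)
      have hsq : n ^ 2 * φ 1 * (n ^ 2)⁻¹ = φ 1 := by
        rw [show n ^ 2 * φ 1 * (n ^ 2)⁻¹ = n * (n * φ 1 * n⁻¹) * n⁻¹ by rw [pow_two]; group, e1]
        have hc : w1 = 1 ∨ w1 = 2 := by omega
        rcases hc with rfl | rfl
        · exact e1
        · rw [e2]; congr 1; omega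
      exact mul_inv_eq_iff_eq_mul.1 hsq
    exact mul_inv_eq_iff_eq_mul.2 (mem_Cn.1 hF).eq
  have h11 : w1 = 1 := C.inj (by omega) (by norm_num) (e1.symm.trans hfix)
  have hz' : z = 0 ∨ z = 1 ∨ z = 2 ∨ z = 3 := by omega
  rcases hz' with rfl | rfl | rfl | rfl
  · rw [e0, h0]
  · exact hfix
  · rw [e2]; congr 1; omega
  · rw [e3, h3]

/-- the central elements are not fused -/
theorem centre_class {g : G} {z w : ℕ} (hz : z < 4) (hw : w < 4) (e : g * φ z * g⁻¹ = φ w) : z = w := by
  obtain ⟨n, -, hn, hn'⟩ := burnside_mod (H := (⊤ : Subgroup G)) (Z := (⊥ : Subgroup G)) le_top S.2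
    (into_top S) (fun z hz g _ => by rw [Subgroup.mem_bot.1 hz, one_mul, mul_one]) (x := φ z) (c := g)
    trivial
    (fun x hx => Subgroup.mem_bot.2 (by rw [C.central hz hx, mul_inv_cancel_right, mul_inv_cancel]))
    (fun x hx => Subgroup.mem_bot.2 (by rw [e, C.central hw hx, mul_inv_cancel_right, mul_inv_cancel]))
  rw [Subgroup.mem_bot, e, mul_inv_eq_one, C.fix_centre hn hw] at hn'
  exact (C.inj (by omega) (by omega) hn').symm

theorem t_facts {i : ℕ} (hi : i < 512) (ht : isT i = true) :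
    64 ≤ i ∧ inv2 i = true ∧ (cen i).length = 128 ∧ (∀ g < 512, cmI i g < 4) ∧ tChk (cen i) = true := by
  have h : i / 64 = 7 ∧ inv2 i = true := by simpa [isT] using ht
  have h64 : 64 ≤ i := by omega
  have hc := count_ok
  simp only [List.all_eq_true, List.mem_range, Bool.or_eq_true, Bool.and_eq_true, Bool.not_eq_true',
    Bool.and_eq_false_iff, Nat.blt_eq, beq_iff_eq] at hc
  obtain ⟨h1, h2⟩ := (hc i hi).resolve_left (by
    rintro (e | e)
    · rw [Nat.ble_eq_true_of_le h64] at e; exact Bool.noConfusion e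
    · rw [h.2] at e; exact Bool.noConfusion e)
  rw [if_pos ht] at h1
  have hk := tchk_ok
  simp only [List.all_eq_true, List.mem_range, Bool.or_eq_true, Bool.not_eq_true'] at hk
  have := hk (i - 448) (by omega)
  rw [show 448 + (i - 448) = i by omega, ht] at this
  exact ⟨h64, h.2, h1, h2.resolve_left (by rw [ht]; simp), this.resolve_left (by simp)⟩

/-- no conjugate in `A` for the involutions with large centraliser -/
theorem t_not_conj {i : ℕ} (hi : i < 512) (ht : isT i = true) (g : G) : g * φ i * g⁻¹ ∉ A := by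
  obtain ⟨h64, hinv, hlen, hcz, hchk⟩ := C.t_facts hi ht
  set t := φ i with htdef
  set X := (S : Subgroup G) ⊓ Cn t with hXdef
  rcases into_or_grow (H := Cn t) (X := X) inf_le_right (S.2.to_le inf_le_left) with hmax | ⟨y, hyH, hyX, hyn, hY2⟩
  · exact C.not_conj_A_of_into hi h64 hmax g
  exfalso
  -- `y` centralises the centre
  have hyz : ∀ z < 4, y ∈ Cn (φ z) := by
    have h12 : ∀ c, c = 1 ∨ c = 2 → y * φ c * y⁻¹ = φ c := by
      intro c hc
      simp only [tChk, Bool.and_eq_true, Bool.or_eq_true, List.all_eq_true, List.any_eq_true, beq_iff_eq,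
        List.mem_cons, List.not_mem_nil, or_false, Bool.not_eq_true', Bool.or_eq_false_iff,
        beq_eq_false_iff_ne] at hchk
      obtain ⟨w, hw, hwc, x0, hx0, hx0c⟩ := hchk.1 c hc
      obtain ⟨hw5, hwc'⟩ := mem_cen.1 hw
      obtain ⟨hx5, -⟩ := mem_cen.1 hx0
      have hmX : ∀ j ∈ cen i, φ j ∈ X := fun j hj => (C.mem_centS hi).2 ⟨j, hj, rfl⟩
      obtain ⟨w', hw', ew⟩ := (C.mem_centS hi).1 (hyn _ (hmX w hw))
      obtain ⟨x', hx', ex⟩ := (C.mem_centS hi).1 (hyn _ (hmX x0 hx0))
      obtain ⟨hw'5, -⟩ := mem_cen.1 hw'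
      obtain ⟨hx'5, -⟩ := mem_cen.1 hx'
      have ec : φ (cmI w' x') = y * φ c * y⁻¹ := by
        rw [C.comm hw'5 hx'5, ew, ex, ← hx0c, C.comm hw5 hx5]; group
      have hlt : cmI w' x' < 4 := by
        rcases hchk.2 w' hw' x' hx' with (((h | h) | h) | ⟨z, hz, hz0, hzne⟩)
        · omega
        · omega
        · omega
        · exfalso
          obtain ⟨hz5, -⟩ := mem_cen.1 hz
          have hyi : ∀ u ∈ X, y⁻¹ * u * y ∈ X := fun u hu => by
            have := (Subgroup.mem_normalizer_iff.1 (inv_mem (A8ThreeClass.mem_normalizer_of_conj hyn)) u).1 hu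
            simpa using this
          obtain ⟨u, hu, eu⟩ := (C.mem_centS hi).1 (hyi _ (hmX z hz))
          obtain ⟨hu5, -⟩ := mem_cen.1 hu
          have eu' : φ (cmI w' z) = y * φ (cmI w u) * y⁻¹ := by
            rw [C.comm hw'5 hz5, C.comm hw5 hu5, ew, eu]; group
          rcases hwc u hu with h | h
          · refine hz0 (C.inj (cmI_lt hw'5 hz5) (by norm_num) ?_)
            rw [eu', h, C.one]; group
          · refine hzne (C.inj (cmI_lt hw'5 hz5) (cmI_lt hw'5 hx'5) ?_)
            rw [eu', h, ec]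
      rw [← ec]
      have hc4 : c < 4 := by omega
      exact congrArg φ (C.centre_class hc4 hlt ec.symm).symm
    intro z hz
    have hz' : z = 0 ∨ z = 1 ∨ z = 2 ∨ z = 3 := by omega
    rcases hz' with rfl | rfl | rfl | rfl
    · rw [C.one]; exact mem_Cn.2 (Commute.one_right _)
    · exact mem_Cn.2 (mul_inv_eq_iff_eq_mul.1 (h12 1 (Or.inl rfl)))
    · exact mem_Cn.2 (mul_inv_eq_iff_eq_mul.1 (h12 2 (Or.inr rfl)))
    · rw [show (3 : ℕ) = mS 1 2 by decide +kernel, C.mul (by norm_num) (by norm_num)]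
      exact mem_Cn.2 (Commute.mul_right (mul_inv_eq_iff_eq_mul.1 (h12 1 (Or.inl rfl)))
        (mul_inv_eq_iff_eq_mul.1 (h12 2 (Or.inr rfl))))
  -- move the larger group into the Sylow subgroup inside the centraliser of the centre
  set H := Cn (φ 1) ⊓ Cn (φ 2) with hH
  set Z := Subgroup.closure ({φ 1, φ 2} : Set G) with hZdef
  have hSH : (S : Subgroup G) ≤ H := fun x hx =>
    ⟨mem_Cn.2 (C.central (by norm_num) hx), mem_Cn.2 (C.central (by norm_num) hx)⟩
  have hZH : ∀ z ∈ Z, ∀ u ∈ H, z * u = u * z := by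
    intro z hz u hu
    have hzc : z ∈ Cn u := by
      refine (Subgroup.closure_le _).2 ?_ hz
      intro v hv
      simp only [Set.mem_insert_iff, Set.mem_singleton_iff] at hv
      rcases hv with rfl | rfl
      · exact mem_Cn.2 (mem_Cn.1 hu.1).symm
      · exact mem_Cn.2 (mem_Cn.1 hu.2).symm
    exact (mem_Cn.1 hzc).eq
  have hZlt : ∀ c < 4, φ c ∈ Z := by
    intro c hc
    have hc' : c = 0 ∨ c = 1 ∨ c = 2 ∨ c = 3 := by omega
    rcases hc' with rfl | rfl | rfl | rfl
    · rw [C.one]; exact one_mem _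
    · exact Subgroup.subset_closure (Set.mem_insert _ _)
    · exact Subgroup.subset_closure (Set.mem_insert_of_mem _ rfl)
    · rw [show (3 : ℕ) = mS 1 2 by decide +kernel, C.mul (by norm_num) (by norm_num)]
      exact mul_mem (Subgroup.subset_closure (Set.mem_insert _ _))
        (Subgroup.subset_closure (Set.mem_insert_of_mem _ rfl))
  have hcm : ∀ {j : ℕ}, j < 512 → (∀ k < 512, cmI j k < 4) →
      ∀ u ∈ (S : Subgroup G), u * φ j * u⁻¹ * (φ j)⁻¹ ∈ Z := by
    intro j hj hjk u hu
    obtain ⟨k, hk, rfl⟩ := C.surj hu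
    have := inv_mem (hZlt _ (hjk k hk))
    rw [C.comm hj hk] at this
    simpa [mul_assoc] using this
  have hYH : X ⊔ Subgroup.zpowers y ≤ H :=
    sup_le (inf_le_left.trans hSH) (Subgroup.zpowers_le.2 ⟨hyz 1 (by norm_num), hyz 2 (by norm_num)⟩)
  have hY : X ⊔ Subgroup.zpowers y ≤ Cn t := sup_le inf_le_right (Subgroup.zpowers_le.2 hyH)
  obtain ⟨h, hh, hhY⟩ := into_of_sylow S hSH _ hYH hY2
  have htX : t ∈ X := ⟨C.mem hi, mem_Cn.2 (Commute.refl _)⟩
  obtain ⟨j, hj, ej⟩ := C.surj (hhY t (Subgroup.mem_sup_left htX))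
  have hcount : 128 < (cen j).length := by
    rw [← hlen, ← C.card_centS hi, ← C.card_centS hj]
    refine (card_lt_of_grow hyX).trans_le (card_le_of_conj_mem (c := h) fun u hu => ⟨hhY u hu, ?_⟩)
    rw [ej]
    exact mem_Cn.2 ((mem_Cn.1 (hY hu)).map (MulAut.conj h).toMonoidHom)
  have hj2 : inv2 j = true := by
    rw [C.inv2_iff hj, ej, show h * t * h⁻¹ * (h * t * h⁻¹) = h * (t * t) * h⁻¹ by group,
      (C.inv2_iff hi).1 hinv]
    group
  have hc := count_ok
  simp only [List.all_eq_true, List.mem_range, Bool.or_eq_true, Bool.and_eq_true, Bool.not_eq_true',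
    Bool.and_eq_false_iff, Nat.blt_eq, beq_iff_eq] at hc
  have hj64 : j < 64 := by
    by_contra hge
    obtain ⟨h1, -⟩ := (hc j hj).resolve_left (by
      rintro (e | e)
      · rw [Nat.ble_eq_true_of_le (by omega : 64 ≤ j)] at e; exact Bool.noConfusion e
      · rw [hj2] at e; exact Bool.noConfusion e)
    split_ifs at h1 <;> omega
  have hjc : ∀ k < 512, cmI j k < 4 := by
    have h' := central_mod_ok
    simp only [List.all_eq_true, List.mem_range, Bool.or_eq_true, Bool.not_eq_true', Nat.blt_eq] at h'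
    refine (h' j hj64).resolve_left fun e => ?_
    rw [show Nat.blt 128 (cen j).length = true from Nat.ble_eq_true_of_le hcount] at e
    exact Bool.noConfusion e
  obtain ⟨n, -, hn, hn'⟩ := burnside_mod hSH S.2 (into_of_sylow S hSH) hZH (x := t) (c := h) hh
    (hcm hi hcz) (fun u hu => by rw [← ej]; exact hcm hj hjc u hu)
  have hA : n * (h * t * h⁻¹) * n⁻¹ ∈ A :=
    C.normA (fun x hx => hn x (C.A_le hx)) _ (ej ▸ (C.memA_iff hj).2 hj64)
  have hZA : Z ≤ A := by
    refine (Subgroup.closure_le _).2 ?_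
    intro v hv
    simp only [Set.mem_insert_iff, Set.mem_singleton_iff] at hv
    rcases hv with rfl | rfl <;> exact (C.memA_iff (by norm_num)).2 (by norm_num)
  have htA : t ∈ A := by
    have := mul_mem (inv_mem (hZA hn')) hA
    have e : (n * (h * t * h⁻¹) * n⁻¹ * t⁻¹)⁻¹ * (n * (h * t * h⁻¹) * n⁻¹) = t := by group
    rwa [e] at this
  rw [C.memA_iff hi] at htA
  omega

end Ctx

end CfsgLib.M24Syl
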